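import Cfsg.Agent.PreUniq.Local
import Cfsg.Agent.LThreeMB.ZStar
import Cfsg.Agent.H849.ThreeNorm_m3
import Cfsg.Agent.LThreeMB.KPair
import Cfsg.Agent.MFive.Zero
import Cfsg.Agent.FastGrp
import Cfsg.Agent.Prune
set_option linter.all false

section
prune_inst 0x7f00000000000000000000000000000000000000000000000000000000000000000000000000000000000000000000000000000000000000000000000000000000000000000000000000000000000000003fffffffffffffffffffffffffffbeffbdffffffff

-- part: PreUniq/CompTools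
section
set_option linter.all false
open scoped Cfsg.Agent.FastGrp

-- part: PreUniq/CompRank
section
/-!
The component criterion for `NoPre p G`: if for every element `x` of order `p` every component of
`C_G(x) / O_{p'}(C_G(x))` has centralizer of `p`-rank at most `1`, then `NoPre p G`.

* `noPre_of_comp`; `noPre_of_good` : `GoodX p x` for every `x` of order `p`;
* `goodX_of_solvable`, `goodX_of_noComp`, `goodX_of_simple` (`C(x)/⟨x⟩` has a simple normal subgroup with trivial
  centralizer, e.g. simple or almost simple).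
-/

set_option autoImplicit false
set_option linter.unusedSectionVars false

namespace Cfsg.Agent.PreUniq

open Cfsg

universe u

variable {G : Type u} [Group G] {p : ℕ} {M K : Subgroup G}

/-- Every component of `C_G(x) / O_{p'}(C_G(x))` has centralizer of `p`-rank at most `1`. -/
def GoodX (p : ℕ) (x : G) : Prop :=
  ∀ L : Subgroup (↥(Subgroup.centralizer ({x} : Set G)) ⧸ pPrimeCore p ↥(Subgroup.centralizer ({x} : Set G))),
    IsComponent L → PRankLE p 1 ↥(Subgroup.centralizer (L : Set (↥(Subgroup.centralizer ({x} : Set G)) ⧸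
      pPrimeCore p ↥(Subgroup.centralizer ({x} : Set G)))))

theorem exists_bad [Finite G] [hp : Fact p.Prime] (h : PreuniquenessHypothesis p M K) :
    ∃ x : G, orderOf x = p ∧ ¬ GoodX p x := by
  obtain ⟨E, hE, hg⟩ := exists_grip hp.out h
  obtain ⟨x, hx, hx1⟩ := E.bot_or_exists_ne_one.resolve_left (hg.ne_bot hp.out)
  have hxp : orderOf x = p := orderOf_eq hp.out hg.1.2 hx hx1
  refine ⟨x, hxp, fun hgood => ?_⟩
  have hcomp : IsComponent (bar p (Subgroup.centralizer (Subgroup.zpowers x : Set G)) K) := by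
    refine (isComponent_centralizer h.1 (R := Subgroup.zpowers x) ?_ ?_ ?_).1
    · rw [Subgroup.zpowers_le]
      exact hE hx
    · rw [IsPGroup.iff_card]
      exact ⟨1, by rw [Nat.card_zpowers, hxp, pow_one]⟩
    · rw [Ne, Subgroup.zpowers_eq_bot]
      exact hx1
  have hcz : Subgroup.centralizer (Subgroup.zpowers x : Set G) = Subgroup.centralizer ({x} : Set G) := by
    rw [Subgroup.zpowers_eq_closure, Subgroup.centralizer_closure]
  rw [hcz] at hcomp
  have hrank := hgood _ hcomp
  set C := Subgroup.centralizer ({x} : Set G) with hC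
  have hEC : E ≤ C := by
    intro e he
    rw [hC, Subgroup.mem_centralizer_singleton_iff]
    exact congrArg Subtype.val (hg.1.1.is_comm.comm ⟨e, he⟩ ⟨x, hx⟩)
  have hCM : C ≤ M := hg.2.2.2 x hx hx1
  have hKM : K ≤ M := h.1.2.1
  let π := QuotientGroup.mk' (pPrimeCore p ↥C)
  -- the image of `E` centralizes the component
  have hcore : ∀ y ∈ C, y ∈ core p M → ∀ hy : y ∈ C, (⟨y, hy⟩ : ↥C) ∈ pPrimeCore p ↥C := by
    intro y hyC hy hy'
    have hn : ((core p M).subgroupOf C).Normal := by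
      refine ⟨fun a ha c => ?_⟩
      rw [Subgroup.mem_subgroupOf] at ha ⊢
      exact conj_mem_core (hCM c.2) ha
    have hcop : (Nat.card ↥((core p M).subgroupOf C)).Coprime p := by
      have h1 : Nat.card ↥((core p M).subgroupOf C) ∣ Nat.card ↥(core p M) := by
        have h2 := Subgroup.card_comap_dvd_of_injective (core p M) C.subtype C.subtype_injective
        exact h2
      exact Nat.Coprime.coprime_dvd_left h1 core_coprime
    have h1 : (core p M).subgroupOf C ≤ pPrimeCore p ↥C :=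
      Cfsg.Agent.Lib.Cores.le_pPrimeCore hn hcop
    exact h1 (Subgroup.mem_subgroupOf.2 hy)
  have hcent : ∀ e (he : e ∈ E), π ⟨e, hEC he⟩ ∈ Subgroup.centralizer
      ((bar p C K : Subgroup (↥C ⧸ pPrimeCore p ↥C)) : Set (↥C ⧸ pPrimeCore p ↥C)) := by
    intro e he
    rw [Subgroup.mem_centralizer_iff]
    rintro _ ⟨k, hk, rfl⟩
    have hkK : (k : G) ∈ K := Subgroup.mem_subgroupOf.1 hk
    have h1 := ((mem_perp hKM).1 (hE he)).2 k hkK
    have hmem : e * (k : G) * e⁻¹ * (k : G)⁻¹ ∈ C :=
      mul_mem (mul_mem (mul_mem (hEC he) k.2) (inv_mem (hEC he))) (inv_mem k.2)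
    have h2 := hcore _ hmem h1 hmem
    have h3 : π (⟨e, hEC he⟩ * k * (⟨e, hEC he⟩)⁻¹ * k⁻¹) = 1 := by
      rw [← MonoidHom.mem_ker, QuotientGroup.ker_mk']
      exact h2
    rw [map_mul, map_mul, map_mul, map_inv, map_inv, mul_inv_eq_one, mul_inv_eq_iff_eq_mul] at h3
    exact h3.symm
  -- the image of `E` has order `p ^ 2`
  let f : ↥E →* ↥(Subgroup.centralizer ((bar p C K : Subgroup (↥C ⧸ pPrimeCore p ↥C)) : Set (↥C ⧸ pPrimeCore p ↥C))) :=
    (π.comp (Subgroup.inclusion hEC)).codRestrict _ (fun e => hcent e.1 e.2)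
  have hf : Function.Injective f := by
    rw [injective_iff_map_eq_one]
    intro e he
    have h1 : π (Subgroup.inclusion hEC e) = 1 := congrArg Subtype.val he
    rw [← MonoidHom.mem_ker, QuotientGroup.ker_mk'] at h1
    have h2 : orderOf (Subgroup.inclusion hEC e) ∣ Nat.card ↥(pPrimeCore p ↥C) := by
      have := orderOf_dvd_natCard (⟨Subgroup.inclusion hEC e, h1⟩ : ↥(pPrimeCore p ↥C))
      rwa [Subgroup.orderOf_mk] at this
    have h3 : orderOf (Subgroup.inclusion hEC e) ∣ p := by
      apply orderOf_dvd_of_pow_eq_one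
      apply Subtype.ext
      show (e : G) ^ p = 1
      exact hg.1.2 e e.2
    have h4 := Nat.eq_one_of_dvd_coprimes (Cfsg.Agent.Lib.Cores.pPrimeCore_coprime (G := ↥C) p) h2 h3
    rw [orderOf_eq_one_iff] at h4
    exact Subtype.ext (congrArg (fun y : ↥C => (y : G)) h4)
  have h5 := hrank f.range (by
    refine ⟨⟨?_⟩⟩
    rintro ⟨_, a, rfl⟩ ⟨_, b, rfl⟩
    apply Subtype.ext
    show f a * f b = f b * f a
    rw [← map_mul, ← map_mul, hg.1.1.is_comm.comm a b]) (by
    rintro _ ⟨a, rfl⟩
    rw [← map_pow]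
    have : a ^ p = 1 := Subtype.ext (hg.1.2 a a.2)
    rw [this, map_one])
  rw [pow_one, ← Nat.card_congr (MonoidHom.ofInjective hf).toEquiv, hg.2.1] at h5
  have h6 := hp.out.one_lt
  nlinarith

/-- **The component criterion.** -/
theorem noPre_of_good [Finite G] [hp : Fact p.Prime] (hG : ∀ x : G, orderOf x = p → GoodX p x) : NoPre p G := by
  intro M K h
  obtain ⟨x, hx, hx'⟩ := exists_bad h
  exact hx' (hG x hx)

theorem goodX_of_noComp {x : G} (h : ∀ L : Subgroup (↥(Subgroup.centralizer ({x} : Set G)) ⧸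
    pPrimeCore p ↥(Subgroup.centralizer ({x} : Set G))), ¬ IsComponent L) : GoodX p x :=
  fun L hL => (h L hL).elim

end Cfsg.Agent.PreUniq
end

-- part: PreUniq/CompTools
section
/-!
# Criteria for `GoodX p x`

`RkOne p D`: every component of `D / O_{p'}(D)` has centralizer of `p`-rank at most 1 (`GoodX p x` is `RkOne p C(x)`).

* `RkOne.of_solvable`, `RkOne.congr`;
* `RkOne.of_hom` : `D` has a quotient with a simple normal subgroup with trivial centralizer, the kernel is solvable of order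
  not divisible by `p²`;
* `RkOne.of_isolated` : `D = N C_D(z)`, `N` normal of odd order, conditions on the quotients of `C_D(z)` by `p'`-groups.
-/

set_option autoImplicit false
set_option linter.unusedSectionVars false

namespace Cfsg.Agent.PreUniq

open Cfsg Subgroup Cfsg.Agent.SignalizersComponents.Components
open scoped commutatorElement

universe u v

/-- Every component of `D / O_{p'}(D)` has centralizer of `p`-rank at most `1`. -/
def RkOne (p : ℕ) (D : Type u) [Group D] : Prop :=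
  ∀ L : Subgroup (D ⧸ pPrimeCore p D), IsComponent L → PRankLE p 1 ↥(centralizer (L : Set (D ⧸ pPrimeCore p D)))

theorem goodX_iff {G : Type u} [Group G] {p : ℕ} {x : G} : GoodX p x ↔ RkOne p ↥(centralizer ({x} : Set G)) := Iff.rfl

theorem RkOne.of_noComp {p : ℕ} {D : Type u} [Group D]
    (h : ∀ L : Subgroup (D ⧸ pPrimeCore p D), ¬ IsComponent L) : RkOne p D := fun L hL => (h L hL).elim

theorem not_isComponent_of_solvable {H : Type u} [Group H] (hs : Group.IsSolvable H) {L : Subgroup H} :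
    ¬ IsComponent L := by
  intro hL
  apply quasisimple_not_isSolvable hL.2
  infer_instance

theorem RkOne.of_solvable {p : ℕ} {D : Type u} [Group D] (h : Group.IsSolvable D) : RkOne p D :=
  RkOne.of_noComp fun L => not_isComponent_of_solvable
    (Group.isSolvable_of_surjective (f := QuotientGroup.mk' (pPrimeCore p D)) (QuotientGroup.mk'_surjective _))

/-! ### Rank -/

/-- A subgroup of a subgroup of order not divisible by `p²` has `p`-rank at most 1. -/
theorem pRankLE_of_le {H : Type u} [Group H] [Finite H] {p : ℕ} (hp : p.Prime) {C W : Subgroup H} (hCW : C ≤ W)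
    (hW : ¬ p ^ 2 ∣ Nat.card ↥W) : PRankLE p 1 ↥C := by
  intro A hA hpA
  have hAp : IsPGroup p ↥A := fun a => ⟨1, by
    rw [pow_one]
    exact Subtype.ext (hpA a a.2)⟩
  have : Fact p.Prime := ⟨hp⟩
  obtain ⟨n, hn⟩ := hAp.exists_card_eq
  have h1 : Nat.card ↥A ∣ Nat.card ↥W := (card_subgroup_dvd_card A).trans (card_dvd_of_le hCW)
  rw [hn, pow_one]
  have h2 : n ≤ 1 := by
    by_contra h
    apply hW
    rw [hn] at h1
    exact (pow_dvd_pow p (by omega : 2 ≤ n)).trans h1
  calc p ^ n ≤ p ^ 1 := Nat.pow_le_pow_right hp.pos h2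
    _ = p := pow_one p

/-! ### A quotient with a simple normal subgroup -/

theorem isQuasisimple_top {X : Type u} [Group X] (hX : IsQuasisimple X) : IsQuasisimple ↥(⊤ : Subgroup X) :=
  isQuasisimple_of_mulEquiv Subgroup.topEquiv.symm hX

/-- A nonabelian simple group is quasisimple, with trivial center. -/
theorem simple_facts {X : Type u} [Group X] (hX : IsSimpleGroup X) (hnc : ∃ a b : X, a * b ≠ b * a) :
    center X = ⊥ ∧ IsComponent (⊤ : Subgroup X) := by
  have hc : center X = ⊥ := by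
    rcases (inferInstance : (center X).Normal).eq_bot_or_eq_top with h | h
    · exact h
    · exfalso
      obtain ⟨a, b, hab⟩ := hnc
      apply hab
      have : b ∈ center X := by rw [h]; exact mem_top b
      exact mem_center_iff.1 this a
  refine ⟨hc, IsSubnormal.top, isQuasisimple_top ⟨?_, ?_⟩⟩
  · rw [Group.isPerfect_def]
    rcases (inferInstance : (commutator X).Normal).eq_bot_or_eq_top with h | h
    · exfalso
      obtain ⟨a, b, hab⟩ := hnc
      apply hab
      have h1 : ⁅a, b⁆ ∈ commutator X := commutator_mem_commutator (mem_top a) (mem_top b)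
      rw [h, mem_bot, commutatorElement_eq_one_iff_mul_comm] at h1
      exact h1
    · exact h
  · let e : X ≃* X ⧸ center X := MulEquiv.ofBijective (QuotientGroup.mk' (center X))
      ⟨(MonoidHom.ker_eq_bot_iff _).1 (by rw [QuotientGroup.ker_mk', hc]), QuotientGroup.mk'_surjective _⟩
    exact (MulEquiv.isSimpleGroup_congr e).1 hX

section hom

variable {H : Type u} {X : Type v} [Group H] [Finite H] [Group X] {p : ℕ}

/-- The centralizer of a component lies in the kernel. -/
theorem centralizer_le_ker (f : H →* X) (hf : Function.Surjective f) (hk : Group.IsSolvable ↥f.ker) {S : Subgroup X}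
    (hS : IsComponent S) (hSc : centralizer (S : Set X) = ⊥) {L : Subgroup H} (hL : IsComponent L) :
    centralizer (L : Set H) ≤ f.ker := by
  have h1 : (L.map f).IsSubnormal := hL.1.map hf
  have h2 : S ≤ L.map f := by
    rcases component_le_or_commutator_eq_bot hS h1 with h | h
    · exact h
    · exfalso
      rw [commutator_comm, commutator_eq_bot_iff_le_centralizer, hSc, le_bot_iff, Subgroup.map_eq_bot_iff] at h
      apply quasisimple_not_isSolvable hL.2
      exact Group.isSolvable_of_isSolvable_injective (f := inclusion h) (inclusion_injective h)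
  intro c hc
  have h3 : f c ∈ centralizer (S : Set X) := by
    rw [mem_centralizer_iff]
    intro s hs
    obtain ⟨l, hl, rfl⟩ := h2 hs
    rw [← map_mul, ← map_mul, mem_centralizer_iff.1 hc l hl]
  rw [hSc, mem_bot] at h3
  exact h3

theorem rank_of_hom (hp : p.Prime) (f : H →* X) (hf : Function.Surjective f) (hk : Group.IsSolvable ↥f.ker)
    (hk2 : ¬ p ^ 2 ∣ Nat.card ↥f.ker) {S : Subgroup X} (hS : IsComponent S) (hSc : centralizer (S : Set X) = ⊥)
    {L : Subgroup H} (hL : IsComponent L) : PRankLE p 1 ↥(centralizer (L : Set H)) :=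
  pRankLE_of_le hp (centralizer_le_ker f hf hk hS hSc hL) hk2

/-- A normal `p'`-subgroup lies in the kernel. -/
theorem le_ker_of_coprime (hp : p.Prime) (f : H →* X) (hf : Function.Surjective f) {S : Subgroup X}
    (hS : IsComponent S) (hSc : centralizer (S : Set X) = ⊥) (hpS : p ∣ Nat.card ↥S) {Y : Subgroup H} (hY : Y.Normal)
    (hYp : (Nat.card ↥Y).Coprime p) : Y ≤ f.ker := by
  have : Finite X := Finite.of_surjective f hf
  have h1 : (Y.map f).Normal := hY.map f hf
  rcases component_le_or_commutator_eq_bot hS h1.isSubnormal with h | h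
  · exfalso
    have h2 : p ∣ Nat.card ↥Y := (hpS.trans (card_dvd_of_le h)).trans (card_map_dvd Y f)
    have h3 := Nat.Coprime.eq_one_of_dvd hYp.symm h2
    exact hp.one_lt.ne' h3
  · rw [commutator_comm, commutator_eq_bot_iff_le_centralizer, hSc, le_bot_iff, Subgroup.map_eq_bot_iff] at h
    exact h

/-- Factorization through a quotient. -/
theorem exists_factor {T : Type*} [Group T] (g : H →* T) (hg : Function.Surjective g) (f : H →* X) (hf : Function.Surjective f)
    (hk : Group.IsSolvable ↥f.ker) (hle : g.ker ≤ f.ker) : ∃ F : T →* X, Function.Surjective F ∧ (∀ h, F (g h) = f h) ∧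
      Group.IsSolvable ↥F.ker ∧ Nat.card ↥F.ker ∣ Nat.card ↥f.ker := by
  let F : T →* X := g.liftOfSurjective hg ⟨f, hle⟩
  have hF : ∀ h, F (g h) = f h := fun h => MonoidHom.liftOfRightInverse_comp_apply _ _ (Function.rightInverse_surjInv hg) ⟨f, hle⟩ h
  have hmap : F.ker = f.ker.map g := by
    ext t
    obtain ⟨h, rfl⟩ := hg t
    rw [MonoidHom.mem_ker, hF]
    constructor
    · intro h1
      exact ⟨h, h1, rfl⟩
    · rintro ⟨h', h1, h2⟩
      rw [← hF, ← h2, hF]
      exact h1
  refine ⟨F, fun x => ?_, hF, ?_, ?_⟩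
  · obtain ⟨h, rfl⟩ := hf x
    exact ⟨g h, hF h⟩
  · rw [hmap]
    exact Group.isSolvable_of_surjective (f := g.subgroupMap f.ker) (MonoidHom.subgroupMap_surjective _ _)
  · rw [hmap]
    exact card_map_dvd _ _

end hom

/-- **The criterion for quotients with a simple normal subgroup.** -/
theorem RkOne.of_hom {D : Type u} {X : Type v} [Group D] [Finite D] [Group X] {p : ℕ} (hp : p.Prime) (f : D →* X)
    (hf : Function.Surjective f) (hk : Group.IsSolvable ↥f.ker) (hk2 : ¬ p ^ 2 ∣ Nat.card ↥f.ker) {S : Subgroup X}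
    (hS : IsComponent S) (hSc : centralizer (S : Set X) = ⊥) (hpS : p ∣ Nat.card ↥S) : RkOne p D := by
  intro L hL
  have hY : pPrimeCore p D ≤ f.ker := le_ker_of_coprime hp f hf hS hSc hpS
    (Cfsg.Agent.Lib.Cores.pPrimeCore_normal p) (Cfsg.Agent.Lib.Cores.pPrimeCore_coprime p)
  obtain ⟨F, hF, -, hFs, hFc⟩ := exists_factor (QuotientGroup.mk' (pPrimeCore p D)) (QuotientGroup.mk'_surjective _) f hf hk
    (by rw [QuotientGroup.ker_mk']; exact hY)
  exact rank_of_hom hp F hF hFs (fun h => hk2 (h.trans hFc)) hS hSc hL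

/-- The version with a simple quotient. -/
theorem RkOne.of_simple {D : Type u} {X : Type v} [Group D] [Finite D] [Group X] {p : ℕ} (hp : p.Prime) (f : D →* X)
    (hf : Function.Surjective f) (hk : Group.IsSolvable ↥f.ker) (hk2 : ¬ p ^ 2 ∣ Nat.card ↥f.ker) (hX : IsSimpleGroup X)
    (hnc : ∃ a b : X, a * b ≠ b * a) (hpX : p ∣ Nat.card X) : RkOne p D := by
  obtain ⟨h1, h2⟩ := simple_facts hX hnc
  refine RkOne.of_hom hp f hf hk hk2 h2 ?_ (by rw [card_top]; exact hpX)
  rw [coe_top, centralizer_univ, h1]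

/-! ### Isolated involutions -/

section isolated

variable {D : Type u} [Group D] [Finite D] {p : ℕ} {z : D} {N : Subgroup D}

/-- The conditions on `T = C_D(z)`. -/
structure TCond (p : ℕ) (T : Type u) [Group T] (z : T) : Prop where
  one : ∀ (T' : Type u) [Group T'] [Finite T'] (g : T →* T'), Function.Surjective g → (Nat.card ↥g.ker).Coprime p →
    z ∈ g.ker → ∀ L : Subgroup T', IsComponent L → PRankLE p 1 ↥(centralizer (L : Set T'))
  two : ∀ (T' : Type u) [Group T'] [Finite T'] (g : T →* T'), Function.Surjective g → (Nat.card ↥g.ker).Coprime p →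
    z ∉ g.ker → ∀ L : Subgroup T', IsComponent L → pPrimeCore p ↥L ≠ ⊥

/-- A homomorphism from a perfect group to a solvable group is trivial. -/
theorem eq_one_of_perfect {A B : Type*} [Group A] [Group B] (hA : Group.IsPerfect A) (hB : Group.IsSolvable B) (f : A →* B)
    (a : A) : f a = 1 := by
  by_contra hcon
  have hs : Group.IsSolvable ↥f.range := inferInstance
  have : Nontrivial ↥f.range := by
    rw [nontrivial_iff_exists_ne_one]
    exact ⟨f a, ⟨a, rfl⟩, hcon⟩
  have h1 := Group.IsSolvable.commutator_lt_top_of_nontrivial (G := ↥f.range)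
  have h2 : (commutator A).map f.rangeRestrict = commutator ↥f.range := by
    rw [_root_.commutator_def, map_commutator, map_top_of_surjective _ f.rangeRestrict_surjective,
      ← _root_.commutator_def]
  rw [← h2, Group.isPerfect_def.1 hA, map_top_of_surjective _ f.rangeRestrict_surjective] at h1
  exact lt_irrefl _ h1

/-- If `n ∈ N` commutes with `z` modulo `Y` then `n ∈ C_D(z) Y`. -/
theorem mem_map_of_comm (hzz : z * z = 1) (hN : N.Normal) (hodd : Odd (Nat.card ↥N)) {Y : Subgroup D} (hY : Y.Normal)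
    {n : D} (hn : n ∈ N) (hc : n⁻¹ * (z * n * z⁻¹) ∈ Y) :
    QuotientGroup.mk' Y n ∈ (centralizer ({z} : Set D)).map (QuotientGroup.mk' Y) := by
  have h2 : Fact (Nat.Prime 2) := ⟨Nat.prime_two⟩
  have hP : IsPGroup 2 ↥(zpowers z) := by
    intro a
    obtain ⟨a, k, rfl⟩ := a
    refine ⟨1, Subtype.ext ?_⟩
    show (z ^ k) ^ (2 ^ 1) = 1
    rw [pow_one, ← zpow_natCast, ← zpow_mul, mul_comm, zpow_mul, zpow_natCast, pow_two, hzz, one_zpow]
  have hmem : ∀ a ∈ zpowers z, a = 1 ∨ a = z := by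
    rintro _ ⟨k, rfl⟩
    show z ^ k = 1 ∨ z ^ k = z
    have hz2 : z ^ (2 : ℤ) = 1 := by rw [zpow_two]; exact hzz
    rcases Int.even_or_odd' k with ⟨m, rfl | rfl⟩
    · left
      rw [zpow_mul, hz2, one_zpow]
    · right
      rw [zpow_add, zpow_mul, hz2, one_zpow, one_mul, zpow_one]
  have hnorm : (N ⊓ Y).Normal := inferInstance
  obtain ⟨c, hc1, hc2⟩ := Cfsg.Agent.Lib.CoprimeCommutator.exists_fixed_in_coset 2 (zpowers z) (N ⊓ Y) hP
    (by rw [normalizer_eq_top]; exact le_top)
    (by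
      intro h
      have h3 : 2 ∣ Nat.card ↥N := h.trans (card_dvd_of_le inf_le_left)
      exact (Nat.not_even_iff_odd.2 hodd) (even_iff_two_dvd.2 h3)) n (by
      intro a ha
      rcases hmem a ha with rfl | rfl
      · have : n⁻¹ * (1 * n * 1⁻¹) = 1 := by group
        rw [this]; exact one_mem _
      · exact ⟨N.mul_mem (N.inv_mem hn) (hN.conj_mem n hn _), hc⟩)
  refine ⟨c, ?_, ?_⟩
  · rw [SetLike.mem_coe, mem_centralizer_singleton_iff]
    exact (mem_centralizer_iff.1 hc1 z (mem_zpowers z)).symm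
  · rw [QuotientGroup.mk'_apply, QuotientGroup.mk'_apply, eq_comm, QuotientGroup.eq]
    exact hc2.2

theorem RkOne.of_isolated (FT : ∀ (K : Type u) [Group K] [Finite K], Odd (Nat.card K) → Group.IsSolvable K)
    (hp : p.Prime) (hzz : z * z = 1) (hN : N.Normal) (hodd : Odd (Nat.card ↥N))
    (hsup : N ⊔ centralizer ({z} : Set D) = ⊤)
    (hT : TCond p ↥(centralizer ({z} : Set D)) ⟨z, mem_centralizer_singleton_iff.2 rfl⟩) : RkOne p D := by
  intro L hL
  set Y := pPrimeCore p D with hYdef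
  set π := QuotientGroup.mk' Y with hπ
  set T := centralizer ({z} : Set D) with hTdef
  have hYn : Y.Normal := Cfsg.Agent.Lib.Cores.pPrimeCore_normal p
  have hYp : (Nat.card ↥Y).Coprime p := Cfsg.Agent.Lib.Cores.pPrimeCore_coprime p
  have hπs : Function.Surjective π := QuotientGroup.mk'_surjective Y
  have hπk : ∀ d : D, π d = 1 ↔ d ∈ Y := fun d => by
    rw [← MonoidHom.mem_ker, hπ, QuotientGroup.ker_mk']
  have hcomm : ∀ n : D, π z * π n = π n * π z → n⁻¹ * (z * n * z⁻¹) ∈ Y := by
    intro n h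
    rw [← hπk, map_mul, map_mul, map_mul, map_inv, map_inv, h]
    group
  have hdec : ∀ y : D ⧸ Y, ∃ n ∈ N, ∃ t ∈ T, y = π n * π t := by
    intro y
    obtain ⟨g, rfl⟩ := hπs y
    have hg : g ∈ N ⊔ T := by rw [hsup]; exact mem_top g
    obtain ⟨n, hn, t, ht, rfl⟩ := mem_sup_of_normal_left.1 hg
    exact ⟨n, hn, t, ht, map_mul _ _ _⟩
  have hkerT : ∀ T1 : Subgroup (D ⧸ Y), ∀ g : ↥T →* ↥T1, (∀ t, ((g t : ↥T1) : D ⧸ Y) = π t) →
      (Nat.card ↥g.ker).Coprime p := by
    intro T1 g hg
    have h1 : g.ker = Y.subgroupOf T := by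
      ext t
      rw [MonoidHom.mem_ker, mem_subgroupOf, ← hπk, ← hg]
      exact ⟨fun h => by rw [h]; rfl, fun h => Subtype.ext h⟩
    rw [h1]
    have h2 : Nat.card ↥(Y.subgroupOf T) ∣ Nat.card ↥Y := card_comap_dvd_of_injective Y T.subtype T.subtype_injective
    exact Nat.Coprime.coprime_dvd_left h2 hYp
  by_cases hz : z ∈ Y
  · -- `D / Y` is a quotient of `T`
    have hTtop : T.map π = ⊤ := by
      rw [eq_top_iff]
      intro y _
      obtain ⟨n, hn, t, ht, rfl⟩ := hdec y
      refine mul_mem ?_ ⟨t, ht, rfl⟩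
      refine mem_map_of_comm hzz hN hodd hYn hn (hcomm n ?_)
      rw [(hπk z).2 hz, one_mul, mul_one]
    let g : ↥T →* D ⧸ Y := π.comp T.subtype
    have hgs : Function.Surjective g := by
      intro y
      have hy : y ∈ T.map π := by rw [hTtop]; exact mem_top y
      obtain ⟨t, ht, rfl⟩ := hy
      exact ⟨⟨t, ht⟩, rfl⟩
    have hgk : (Nat.card ↥g.ker).Coprime p := by
      have h1 : g.ker = Y.subgroupOf T := by
        ext t
        rw [MonoidHom.mem_ker, mem_subgroupOf, ← hπk]
        rfl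
      rw [h1]
      have h2 : Nat.card ↥(Y.subgroupOf T) ∣ Nat.card ↥Y := card_comap_dvd_of_injective Y T.subtype T.subtype_injective
      exact Nat.Coprime.coprime_dvd_left h2 hYp
    exact hT.one (D ⧸ Y) g hgs hgk ((hπk z).2 hz) L hL
  · exfalso
    -- `[L, N] = 1`
    have hNs : Group.IsSolvable ↥N := FT ↥N hodd
    have hNs' : Group.IsSolvable ↥(N.map π) :=
      Group.isSolvable_of_surjective (f := π.subgroupMap N) (MonoidHom.subgroupMap_surjective _ _)
    have hNn : (N.map π).Normal := hN.map π hπs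
    have hLN : ⁅L, N.map π⁆ = ⊥ := component_commutator_solvable hL
      (by rw [normalizer_eq_top]; exact le_top) hNs'
    have hLN' : ∀ l ∈ L, ∀ n ∈ N.map π, n * l = l * n := fun l hl n hn =>
      mem_centralizer_iff.1 ((commutator_eq_bot_iff_le_centralizer.1 hLN) hl) n hn
    -- `[L, z] ≤ N`
    have hz1 : ∀ y : D ⧸ Y, π z * y * (π z)⁻¹ * y⁻¹ ∈ N.map π := by
      intro y
      obtain ⟨n, hn, t, ht, rfl⟩ := hdec y
      have ht' : π t * (π z)⁻¹ = (π z)⁻¹ * π t := by
        rw [← map_inv, ← map_mul, ← map_mul]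
        congr 1
        have h1 : t * z = z * t := mem_centralizer_singleton_iff.1 ht
        rw [mul_inv_eq_iff_eq_mul, mul_assoc, h1, inv_mul_cancel_left]
      have e : π z * (π n * π t) * (π z)⁻¹ * (π n * π t)⁻¹ = (π z * π n * (π z)⁻¹) * (π n)⁻¹ := by
        calc π z * (π n * π t) * (π z)⁻¹ * (π n * π t)⁻¹ = π z * π n * (π t * (π z)⁻¹) * (π t)⁻¹ * (π n)⁻¹ := by group
          _ = (π z * π n * (π z)⁻¹) * (π n)⁻¹ := by rw [ht']; group
      rw [e]
      exact mul_mem (hNn.conj_mem _ ⟨n, hn, rfl⟩ _) (inv_mem ⟨n, hn, rfl⟩)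
    let φ : ↥L →* ↥(N.map π) :=
      { toFun := fun l => ⟨π z * l * (π z)⁻¹ * (l : D ⧸ Y)⁻¹, hz1 l⟩
        map_one' := Subtype.ext (by
          show π z * 1 * (π z)⁻¹ * (1 : D ⧸ Y)⁻¹ = 1
          group)
        map_mul' := fun a b => Subtype.ext (by
          show π z * ((a : D ⧸ Y) * b) * (π z)⁻¹ * ((a : D ⧸ Y) * b)⁻¹ =
            (π z * a * (π z)⁻¹ * (a : D ⧸ Y)⁻¹) * (π z * b * (π z)⁻¹ * (b : D ⧸ Y)⁻¹)
          have h1 := hLN' a a.2 _ (hz1 b)
          calc π z * ((a : D ⧸ Y) * b) * (π z)⁻¹ * ((a : D ⧸ Y) * b)⁻¹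
              = (π z * a * (π z)⁻¹) * (π z * b * (π z)⁻¹ * (b : D ⧸ Y)⁻¹) * (a : D ⧸ Y)⁻¹ := by group
            _ = (π z * a * (π z)⁻¹ * (a : D ⧸ Y)⁻¹) * ((a : D ⧸ Y) * (π z * b * (π z)⁻¹ * (b : D ⧸ Y)⁻¹)) *
                (a : D ⧸ Y)⁻¹ := by group
            _ = (π z * a * (π z)⁻¹ * (a : D ⧸ Y)⁻¹) * ((π z * b * (π z)⁻¹ * (b : D ⧸ Y)⁻¹) * (a : D ⧸ Y)) *
                (a : D ⧸ Y)⁻¹ := by rw [h1]
            _ = _ := by group) }
    have hzL : ∀ l ∈ L, π z * l = l * π z := by
      intro l hl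
      have h1 := eq_one_of_perfect hL.2.1 hNs' φ ⟨l, hl⟩
      have h2 : π z * l * (π z)⁻¹ * l⁻¹ = 1 := congrArg Subtype.val h1
      rwa [mul_inv_eq_one, mul_inv_eq_iff_eq_mul] at h2
    -- `L ≤ T`
    have hLT : L ≤ T.map π := by
      intro l hl
      have hc := hzL l hl
      obtain ⟨n, hn, t, ht, rfl⟩ := hdec l
      refine mul_mem (mem_map_of_comm hzz hN hodd hYn hn (hcomm n ?_)) ⟨t, ht, rfl⟩
      have ht' : π z * π t = π t * π z := by
        rw [← map_mul, ← map_mul, mem_centralizer_singleton_iff.1 ht]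
      have h3 : (π z * π n) * π t = (π n * π z) * π t := by
        rw [mul_assoc, hc, mul_assoc, ← ht', mul_assoc]
      exact mul_right_cancel h3
    have hL' : IsComponent (L.subgroupOf (T.map π)) := isComponent_subgroupOf hLT hL
    let g : ↥T →* ↥(T.map π) := π.subgroupMap T
    have hgs : Function.Surjective g := MonoidHom.subgroupMap_surjective _ _
    refine hT.two ↥(T.map π) g hgs (hkerT _ g fun t => rfl) ?_ _ hL' ?_
    · intro h
      apply hz
      rw [← hπk]
      exact congrArg Subtype.val (h : g ⟨z, mem_centralizer_singleton_iff.2 rfl⟩ = 1)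
    · -- `O_{p'}(L) = 1`
      have h1 : pPrimeCore p (D ⧸ Y) = ⊥ := Cfsg.Agent.Lib.PComponents.pPrimeCore_quotient_eq_bot p
      have h2 : pPrimeCore p ↥L = ⊥ := by
        have : Fact p.Prime := ⟨hp⟩
        exact pPrimeCore_component h1 hL.1
      have e : ↥(L.subgroupOf (T.map π)) ≃* ↥L := subgroupOfEquivOfLe hLT
      rw [← Cfsg.Agent.Lib.Cores.map_equiv_pPrimeCore e.symm p, h2, Subgroup.map_bot]

end isolated

/-! ### The conditions on `T` -/

section tcond

variable {T : Type u} [Group T] [Finite T] {p : ℕ} {z : T}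

/-- `T` modulo a solvable normal subgroup of order not divisible by `p²` is simple. -/
theorem cond_one {S : Type v} [Group S] (hp : p.Prime) (f : T →* S) (hf : Function.Surjective f)
    (hk : Group.IsSolvable ↥f.ker) (hk2 : ¬ p ^ 2 ∣ Nat.card ↥f.ker) (hS : IsSimpleGroup S)
    (hnc : ∃ a b : S, a * b ≠ b * a) (hpS : p ∣ Nat.card S) (T' : Type u) [Group T'] [Finite T'] (g : T →* T')
    (hg : Function.Surjective g) (hgp : (Nat.card ↥g.ker).Coprime p) (L : Subgroup T') (hL : IsComponent L) :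
    PRankLE p 1 ↥(centralizer (L : Set T')) := by
  obtain ⟨h1, h2⟩ := simple_facts hS hnc
  have h3 : centralizer ((⊤ : Subgroup S) : Set S) = ⊥ := by rw [coe_top, centralizer_univ, h1]
  have hle : g.ker ≤ f.ker := le_ker_of_coprime hp f hf h2 h3 (by rw [card_top]; exact hpS) inferInstance hgp
  obtain ⟨F, hF, -, hFs, hFc⟩ := exists_factor g hg f hf hk hle
  exact rank_of_hom hp F hF hFs (fun h => hk2 (h.trans hFc)) h2 h3 hL

/-- `T` a central extension of the simple group `S`, `z` a central involution of the derived group. -/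
theorem TCond.of_cover {S : Type v} [Group S] (hp : p.Prime) (hp2 : p ≠ 2) (f : T →* S) (hf : Function.Surjective f)
    (hkc : f.ker ≤ center T) (hk2 : ¬ p ^ 2 ∣ Nat.card ↥f.ker) (hS : IsSimpleGroup S)
    (hnc : ∃ a b : S, a * b ≠ b * a) (hpS : p ∣ Nat.card S) (hz : z * z = 1) (hzc : z ∈ center T)
    (hzT : z ∈ commutator T) : TCond p T z := by
  have hk : Group.IsSolvable ↥f.ker := Group.isSolvable_of_comm fun a b =>
    Subtype.ext (mem_center_iff.1 (hkc b.2) a)
  refine ⟨fun T' _ _ g hg hgp _ L hL => cond_one hp f hf hk hk2 hS hnc hpS T' g hg hgp L hL, ?_⟩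
  intro T' _ _ g hg hgp hzg L hL hcore
  obtain ⟨h1, h2⟩ := simple_facts hS hnc
  have h3 : centralizer ((⊤ : Subgroup S) : Set S) = ⊥ := by rw [coe_top, centralizer_univ, h1]
  have hle : g.ker ≤ f.ker := le_ker_of_coprime hp f hf h2 h3 (by rw [card_top]; exact hpS) inferInstance hgp
  obtain ⟨F, hF, hFg, hFs, -⟩ := exists_factor g hg f hf hk hle
  -- `F(L) = S`
  have h4 : L.map F = ⊤ := by
    rcases component_le_or_commutator_eq_bot h2 (hL.1.map hF) with h | h
    · exact top_le_iff.1 h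
    · exfalso
      rw [commutator_comm, commutator_eq_bot_iff_le_centralizer, h3, le_bot_iff, Subgroup.map_eq_bot_iff] at h
      apply quasisimple_not_isSolvable hL.2
      exact Group.isSolvable_of_isSolvable_injective (f := inclusion h) (inclusion_injective h)
  -- `T = L₁ Z(T)`, `L₁` the preimage of `L`
  have h5 : ∀ t : T, ∃ l ∈ L.comap g, ∃ c ∈ center T, t = l * c := by
    intro t
    have ht : f t ∈ L.map F := by rw [h4]; exact mem_top _
    obtain ⟨y, hy, hy2⟩ := ht
    obtain ⟨l, rfl⟩ := hg y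
    refine ⟨l, hy, l⁻¹ * t, hkc ?_, by group⟩
    rw [MonoidHom.mem_ker, map_mul, map_inv, ← hy2, hFg, inv_mul_cancel]
  have h6 : commutator T ≤ L.comap g := by
    rw [_root_.commutator_def, commutator_le]
    intro a _ b _
    obtain ⟨l, hl, c, hc, rfl⟩ := h5 a
    obtain ⟨l', hl', c', hc', rfl⟩ := h5 b
    have e : ⁅l * c, l' * c'⁆ = ⁅l, l'⁆ := by
      have e1 : ∀ x, x * c = c * x := fun x => mem_center_iff.1 hc x
      have e2 : ∀ x, x * c' = c' * x := fun x => mem_center_iff.1 hc' x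
      rw [commutatorElement_def, commutatorElement_def, mul_inv_rev, mul_inv_rev]
      calc l * c * (l' * c') * (c⁻¹ * l⁻¹) * (c'⁻¹ * l'⁻¹)
          = l * (c * l') * c' * c⁻¹ * l⁻¹ * c'⁻¹ * l'⁻¹ := by group
        _ = l * l' * (c * c') * c⁻¹ * l⁻¹ * c'⁻¹ * l'⁻¹ := by rw [← e1 l']; group
        _ = l * l' * (c' * c) * c⁻¹ * l⁻¹ * c'⁻¹ * l'⁻¹ := by rw [← e2 c]
        _ = l * l' * (c' * l⁻¹) * c'⁻¹ * l'⁻¹ := by group
        _ = l * l' * (l⁻¹ * c') * c'⁻¹ * l'⁻¹ := by rw [← e2 l⁻¹]
        _ = l * l' * l⁻¹ * l'⁻¹ := by group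
    rw [e, commutatorElement_def]
    exact mul_mem (mul_mem (mul_mem hl hl') (inv_mem hl)) (inv_mem hl')
  have hgz : g z ∈ L := h6 hzT
  have hgz1 : g z ≠ 1 := hzg
  -- `⟨g z⟩` is a normal `p'`-subgroup of `L`
  have hn : (zpowers (⟨g z, hgz⟩ : ↥L)).Normal := by
    have hc : (⟨g z, hgz⟩ : ↥L) ∈ center ↥L := by
      rw [mem_center_iff]
      rintro ⟨y, hy⟩
      obtain ⟨t, rfl⟩ := hg y
      apply Subtype.ext
      show g t * g z = g z * g t
      rw [← map_mul, ← map_mul, mem_center_iff.1 hzc t]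
    refine ⟨fun a ha b => ?_⟩
    have ha' : a ∈ center ↥L := (zpowers_le.2 hc) ha
    have e : b * a * b⁻¹ = a := by rw [mem_center_iff.1 ha' b]; group
    rw [e]; exact ha
  have ho : orderOf (⟨g z, hgz⟩ : ↥L) = 2 := by
    have : Fact (Nat.Prime 2) := ⟨Nat.prime_two⟩
    apply orderOf_eq_prime
    · apply Subtype.ext
      show g z ^ 2 = 1
      rw [← map_pow, pow_two, hz, map_one]
    · intro h
      exact hgz1 (congrArg Subtype.val h)
  have hcard : (Nat.card ↥(zpowers (⟨g z, hgz⟩ : ↥L))).Coprime p := by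
    rw [Nat.card_zpowers, ho]
    exact (Nat.coprime_primes Nat.prime_two hp).2 (Ne.symm hp2)
  have h7 := Cfsg.Agent.Lib.Cores.le_pPrimeCore hn hcard
  rw [hcore, le_bot_iff, zpowers_eq_bot] at h7
  exact hgz1 (congrArg Subtype.val h7)

/-- A normal solvable subgroup `P` with solvable centralizer all of whose nontrivial `T`-normal subgroups contain `z`. -/
theorem TCond.of_radical {S : Type v} [Group S] (hp : p.Prime) (f : T →* S) (hf : Function.Surjective f)
    (hk : Group.IsSolvable ↥f.ker) (hk2 : ¬ p ^ 2 ∣ Nat.card ↥f.ker) (hS : IsSimpleGroup S)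
    (hnc : ∃ a b : S, a * b ≠ b * a) (hpS : p ∣ Nat.card S) (P : Subgroup T) (hPn : P.Normal)
    (hPs : Group.IsSolvable ↥P) (hPz : ∀ N : Subgroup T, N.Normal → N ≤ P → N ≠ ⊥ → z ∈ N)
    (hPc : Group.IsSolvable ↥(centralizer (P : Set T))) : TCond p T z := by
  refine ⟨fun T' _ _ g hg hgp _ L hL => cond_one hp f hf hk hk2 hS hnc hpS T' g hg hgp L hL, ?_⟩
  intro T' _ _ g hg hgp hzg L hL hcore
  have h1 : (P.map g).Normal := hPn.map g hg
  have h2 : Group.IsSolvable ↥(P.map g) :=
    Group.isSolvable_of_surjective (f := g.subgroupMap P) (MonoidHom.subgroupMap_surjective _ _)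
  have h3 : ⁅L, P.map g⁆ = ⊥ := component_commutator_solvable hL (by rw [normalizer_eq_top]; exact le_top) h2
  have h4 : P ⊓ g.ker = ⊥ := by
    by_contra hne
    exact hzg ((hPz (P ⊓ g.ker) inferInstance inf_le_left hne).2)
  have h5 : L.comap g ≤ centralizer (P : Set T) := by
    rw [← commutator_eq_bot_iff_le_centralizer, eq_bot_iff, ← h4]
    refine le_inf (commutator_le_right _ _) ?_
    rw [commutator_le]
    intro a ha b hb
    rw [MonoidHom.mem_ker, map_commutatorElement, commutatorElement_eq_one_iff_mul_comm]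
    exact (mem_centralizer_iff.1 ((commutator_eq_bot_iff_le_centralizer.1 h3) ha) _ ⟨b, hb, rfl⟩).symm
  apply quasisimple_not_isSolvable hL.2
  have h6 : Group.IsSolvable ↥(L.comap g) :=
    Group.isSolvable_of_isSolvable_injective (f := inclusion h5) (inclusion_injective h5)
  have h7 : (L.comap g).map g = L := map_comap_eq_self_of_surjective hg L
  have h8 : Group.IsSolvable ↥((L.comap g).map g) :=
    Group.isSolvable_of_surjective (f := g.subgroupMap (L.comap g)) (MonoidHom.subgroupMap_surjective _ _)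
  rwa [h7] at h8

end tcond

end Cfsg.Agent.PreUniq
end
end

-- part: PreUniq/MonGen
section
set_option linter.all false
open scoped Cfsg.Agent.FastGrp

-- merged: Cfsg.Agent.PreUniq.CompIso
section

/-!
# `RkOne p D` with an isolated involution

* `RkOne.congr`;
* `RkOne.of_isolated_inv` : `z` isolated in `D`, conditions `TCond` on `C_D(z)`;
* `RkOne.of_isolated_cover` : `z` isolated in `D`, `C_D(z) / ⟨x, z⟩` simple, `z = k²`.
-/

set_option autoImplicit false
set_option linter.unusedSectionVars false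

namespace Cfsg.Agent.PreUniq

open Cfsg Subgroup Cfsg.Agent.SignalizersComponents.Components

universe u v

/-- Invariance under isomorphisms. -/
theorem RkOne.congr {p : ℕ} {D D' : Type u} [Group D] [Group D'] [Finite D] [Finite D'] (e : D ≃* D') (h : RkOne p D) :
    RkOne p D' := by
  intro L hL
  have hcore : (pPrimeCore p D).map e.toMonoidHom = pPrimeCore p D' := Cfsg.Agent.Lib.Cores.map_equiv_pPrimeCore e p
  let E : (D ⧸ pPrimeCore p D) ≃* (D' ⧸ pPrimeCore p D') := QuotientGroup.congr _ _ e hcore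
  have h1 : IsComponent (L.map E.symm.toMonoidHom) := isComponent_map_equiv E.symm hL
  have h2 := h _ h1
  intro A hA hpA
  -- transport `A`
  let C' : Subgroup (D' ⧸ pPrimeCore p D') := centralizer (L : Set (D' ⧸ pPrimeCore p D'))
  let C : Subgroup (D ⧸ pPrimeCore p D) := centralizer ((L.map E.symm.toMonoidHom : Subgroup _) : Set (D ⧸ pPrimeCore p D))
  have hmem : ∀ c ∈ C', E.symm c ∈ C := by
    intro c hc
    rw [mem_centralizer_iff]
    rintro _ ⟨l, hl, rfl⟩
    show E.symm l * E.symm c = E.symm c * E.symm l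
    rw [← map_mul, ← map_mul, mem_centralizer_iff.1 hc l hl]
  let φ : ↥C' →* ↥C := (E.symm.toMonoidHom.comp C'.subtype).codRestrict C (fun c => hmem c c.2)
  have hφ : Function.Injective φ := by
    intro a b hab
    have h3 : E.symm (a : D' ⧸ pPrimeCore p D') = E.symm b := congrArg Subtype.val hab
    exact Subtype.ext (E.symm.injective h3)
  have h4 := h2 (A.map φ) ⟨⟨by
    rintro ⟨_, a, ha, rfl⟩ ⟨_, b, hb, rfl⟩
    have h3 : a * b = b * a := congrArg Subtype.val (hA.is_comm.comm ⟨a, ha⟩ ⟨b, hb⟩)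
    apply Subtype.ext
    show φ a * φ b = φ b * φ a
    rw [← map_mul, h3, map_mul]⟩⟩ (by
    rintro _ ⟨a, ha, rfl⟩
    rw [← map_pow, hpA a ha, map_one])
  rwa [card_map_of_injective hφ] at h4

section

variable {D : Type u} [Group D] [Finite D] {p : ℕ} {z : D}

/-- **Isolated involution.** -/
theorem RkOne.of_isolated_inv (FT : ∀ (K : Type u) [Group K] [Finite K], Odd (Nat.card K) → Group.IsSolvable K)
    (hp : p.Prime) (hz : orderOf z = 2)
    (hiso : ∀ d : D, (d * z * d⁻¹) * z = z * (d * z * d⁻¹) → d * z * d⁻¹ = z)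
    (hT : TCond p ↥(centralizer ({z} : Set D)) ⟨z, mem_centralizer_singleton_iff.2 rfl⟩) : RkOne p D := by
  obtain ⟨N, hN, hodd, hsup⟩ := Cfsg.Agent.LThreeMB.ZStar.exists_core hz hiso
  exact RkOne.of_isolated FT hp (by rw [← pow_two, ← hz, pow_orderOf_eq_one]) hN hodd hsup hT

/-- `z = k²` lies in the derived group if `f : T → S` is onto a perfect group with kernel in `⟨x⟩ ⟨z⟩`, `x` of odd order. -/
theorem mem_commutator_of_sq {T : Type u} [Group T] {S : Type v} [Group S] {p : ℕ} (hp : p.Prime) (hp2 : p ≠ 2)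
    {z k : T} (hzz : z * z = 1) (hkk : k * k = z) (f : T →* S) (hf : Function.Surjective f)
    (hS : commutator S = ⊤) (hker : ∀ g : T, f g = 1 → ∃ c : T, c ^ p = 1 ∧ (g = c ∨ g = c * z)) :
    z ∈ commutator T := by
  let π : T →* T ⧸ commutator T := QuotientGroup.mk' (commutator T)
  have hπk : ∀ t : T, π t = 1 ↔ t ∈ commutator T := fun t => by
    rw [← MonoidHom.mem_ker, QuotientGroup.ker_mk']
  have hcomm : ∀ a b : T, π a * π b = π b * π a := by
    intro a b
    have h1 : π (a * b * a⁻¹ * b⁻¹) = 1 := by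
      rw [hπk, ← commutatorElement_def]
      exact commutator_mem_commutator (mem_top a) (mem_top b)
    rw [map_mul, map_mul, map_mul, map_inv, map_inv, mul_inv_eq_one, mul_inv_eq_iff_eq_mul] at h1
    exact h1
  -- `k ∈ [T, T] c` with `c ∈ ker f`
  have hfk : f k ∈ (commutator T).map f := by
    have h1 : (commutator T).map f = commutator S := by
      rw [_root_.commutator_def, map_commutator, map_top_of_surjective _ hf, ← _root_.commutator_def]
    rw [h1, hS]
    exact mem_top _
  obtain ⟨d, hd, hd2⟩ := hfk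
  obtain ⟨c, hc, hcz⟩ := hker (d⁻¹ * k) (by rw [map_mul, map_inv, hd2, inv_mul_cancel])
  have hπd : π d = 1 := (hπk d).2 hd
  have h1 : π k = π (d⁻¹ * k) := by rw [map_mul, map_inv, hπd, inv_one, one_mul]
  have hzz' : π z * π z = 1 := by rw [← map_mul, hzz, map_one]
  have h2 : π z = π c * π c := by
    have h3 : π z = π k * π k := by rw [← map_mul, hkk]
    rcases hcz with h4 | h4
    · rw [h3, h1, h4]
    · rw [h3, h1, h4, map_mul]
      calc π c * π z * (π c * π z) = π c * (π z * π c) * π z := by group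
        _ = π c * (π c * π z) * π z := by rw [hcomm z c]
        _ = π c * π c * (π z * π z) := by group
        _ = π c * π c := by rw [hzz', mul_one]
  have hcp : π c ^ p = 1 := by rw [← map_pow, hc, map_one]
  have h5 : π z ^ p = 1 := by
    rw [h2, (show Commute (π c) (π c) from rfl).mul_pow, hcp, mul_one]
  obtain ⟨m, hm⟩ := hp.odd_of_ne_two hp2
  rw [hm, pow_succ, pow_mul, pow_two, hzz', one_pow, one_mul] at h5
  exact (hπk z).1 h5

/-- **Isolated involution, `C_D(z)` a central extension of a simple group.** -/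
theorem RkOne.of_isolated_cover (FT : ∀ (K : Type u) [Group K] [Finite K], Odd (Nat.card K) → Group.IsSolvable K)
    (hp : p.Prime) (hp2 : p ≠ 2) (hz : orderOf z = 2)
    (hiso : ∀ d : D, (d * z * d⁻¹) * z = z * (d * z * d⁻¹) → d * z * d⁻¹ = z) {x : D} (hx : x ^ p = 1)
    (hxc : x ∈ center D) {S : Type v} [Group S] (hS : IsSimpleGroup S) (hnc : ∃ a b : S, a * b ≠ b * a)
    (hpS : p ∣ Nat.card S) (f : ↥(centralizer ({z} : Set D)) →* S) (hf : Function.Surjective f)
    (hker : ∀ g : ↥(centralizer ({z} : Set D)), f g = 1 → ∃ i : ℤ, (g : D) = x ^ i ∨ (g : D) = x ^ i * z) {k : D}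
    (hkk : k * k = z) : RkOne p D := by
  have hzz : z * z = 1 := by rw [← pow_two, ← hz, pow_orderOf_eq_one]
  have hxi : ∀ i : ℤ, x ^ i ∈ center D := fun i => (center D).zpow_mem hxc i
  have hxT : ∀ i : ℤ, x ^ i ∈ centralizer ({z} : Set D) := fun i =>
    mem_centralizer_singleton_iff.2 (mem_center_iff.1 (hxi i) z).symm
  have hzT : z ∈ centralizer ({z} : Set D) := mem_centralizer_singleton_iff.2 rfl
  have hkT : k ∈ centralizer ({z} : Set D) := by
    rw [mem_centralizer_singleton_iff, ← hkk, mul_assoc]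
  have hzc : (⟨z, hzT⟩ : ↥(centralizer ({z} : Set D))) ∈ center ↥(centralizer ({z} : Set D)) := by
    rw [mem_center_iff]
    rintro ⟨g, hg⟩
    exact Subtype.ext (mem_centralizer_singleton_iff.1 hg)
  refine RkOne.of_isolated_inv FT hp hz hiso
    (TCond.of_cover hp hp2 f hf ?_ ?_ hS hnc hpS (Subtype.ext hzz) hzc ?_)
  · -- the kernel is central
    intro g hg
    obtain ⟨i, h1⟩ := hker g hg
    have hxz : (⟨x ^ i, hxT i⟩ : ↥(centralizer ({z} : Set D))) ∈ center ↥(centralizer ({z} : Set D)) := by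
      rw [mem_center_iff]
      rintro ⟨y, hy⟩
      exact Subtype.ext (mem_center_iff.1 (hxi i) y)
    rcases h1 with h1 | h1
    · have : g = ⟨x ^ i, hxT i⟩ := Subtype.ext h1
      rw [this]; exact hxz
    · have : g = ⟨x ^ i, hxT i⟩ * ⟨z, hzT⟩ := Subtype.ext h1
      rw [this]; exact mul_mem hxz hzc
  · -- the order of the kernel
    intro hdvd
    let F : ↥(zpowers x) × Bool → D := fun a => (a.1 : D) * (if a.2 then z else 1)
    have hxo : Nat.card ↥(zpowers x) ≤ p := by
      rw [Nat.card_zpowers]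
      exact Nat.le_of_dvd hp.pos (orderOf_dvd_of_pow_eq_one hx)
    let ι : ↥f.ker → Set.range F := fun g => ⟨((g : ↥(centralizer ({z} : Set D))) : D), by
      obtain ⟨i, h1 | h1⟩ := hker g g.2
      · exact ⟨(⟨x ^ i, zpow_mem (mem_zpowers x) i⟩, false), by simp [F, h1]⟩
      · exact ⟨(⟨x ^ i, zpow_mem (mem_zpowers x) i⟩, true), by simp [F, h1]⟩⟩
    have hι : Function.Injective ι := by
      intro a b hab
      have h1 : ((a : ↥(centralizer ({z} : Set D))) : D) = ((b : ↥(centralizer ({z} : Set D))) : D) :=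
        congrArg (fun y : Set.range F => (y : D)) hab
      exact Subtype.ext (Subtype.ext h1)
    have h1 : Nat.card ↥f.ker ≤ Nat.card ↥(Set.range F) := Nat.card_le_card_of_injective ι hι
    have h2 : Nat.card ↥(Set.range F) ≤ Nat.card (↥(zpowers x) × Bool) :=
      Nat.card_le_card_of_surjective (Set.rangeFactorization F) Set.rangeFactorization_surjective
    have h3 : Nat.card (↥(zpowers x) × Bool) = Nat.card ↥(zpowers x) * 2 := by
      rw [Nat.card_prod, Nat.card_eq_fintype_card (α := Bool), Fintype.card_bool]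
    have h4 : 0 < Nat.card ↥f.ker := Nat.card_pos
    have h5 := Nat.le_of_dvd h4 hdvd
    have h6 : 3 ≤ p := by
      have := hp.two_le
      omega
    have h7 : p ^ 2 ≤ p * 2 := h5.trans (h1.trans (h2.trans (by rw [h3]; exact Nat.mul_le_mul_right 2 hxo)))
    rw [pow_two] at h7
    have h8 := Nat.le_of_mul_le_mul_left h7 hp.pos
    omega
  · -- `z` in the derived group
    obtain ⟨h1, h2⟩ := simple_facts hS hnc
    have hperf : commutator S = ⊤ := by
      rcases (inferInstance : (commutator S).Normal).eq_bot_or_eq_top with h | h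
      · exfalso
        obtain ⟨a, b, hab⟩ := hnc
        apply hab
        have h3 : a * b * a⁻¹ * b⁻¹ ∈ commutator S := by
          rw [← commutatorElement_def]
          exact commutator_mem_commutator (mem_top a) (mem_top b)
        rw [h, mem_bot, mul_inv_eq_one, mul_inv_eq_iff_eq_mul] at h3
        exact h3
      · exact h
    refine mem_commutator_of_sq hp hp2 (k := ⟨k, hkT⟩) (Subtype.ext hzz) (Subtype.ext hkk) f hf hperf ?_
    intro g hg
    obtain ⟨i, h3⟩ := hker g hg
    refine ⟨⟨x ^ i, hxT i⟩, ?_, ?_⟩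
    · apply Subtype.ext
      show (x ^ i) ^ p = 1
      rw [← zpow_natCast, ← zpow_mul, mul_comm, zpow_mul, zpow_natCast, hx, one_zpow]
    · rcases h3 with h3 | h3
      · exact Or.inl (Subtype.ext h3)
      · exact Or.inr (Subtype.ext h3)

end

end Cfsg.Agent.PreUniq

end

-- merged: Cfsg.Agent.PreUniq.MonThree
section

/-!
# `C_M(x)`, `x` of order 3 commuting with a `2B` involution: `RkOne 3`

On top of the analysis of helper68 (`LThreeMB`): fixed ranks 8 and 12: `C(x) / ⟨x⟩` simple; fixed rank 0: `z` isolated in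
`C(x)`, `C_{C(x)}(z)` a covering of `Suz`; fixed rank 6: conjugate to fixed rank 0.
-/

set_option autoImplicit false

namespace Cfsg.Agent.PreUniq.MonThree

open Cfsg Cfsg.Agent.MonsterU Cfsg.Agent.LThreeMB Cfsg.Agent.PreUniq
open Cfsg.Agent.MonsterU.Ch
open Cfsg.Agent.MonsterU.Lam2 (L2)
open Cfsg.Spor (Co1)
open Subgroup (centralizer zpowers mem_centralizer_singleton_iff)

universe u v

/-- A nonabelian simple group of order divisible by `p`. -/
structure Spl (p : ℕ) (S : Type v) [Group S] : Prop where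
  simple : IsSimpleGroup S
  nc : ∃ a b : S, a * b ≠ b * a
  dvd : p ∣ Nat.card S

theorem Spl.congr {p : ℕ} {S : Type u} {S' : Type v} [Group S] [Group S'] (e : S ≃* S') (h : Spl p S) : Spl p S' where
  simple := (MulEquiv.isSimpleGroup_congr e).1 h.simple
  nc := by
    obtain ⟨a, b, hab⟩ := h.nc
    refine ⟨e a, e b, fun h1 => hab (e.injective ?_)⟩
    rw [map_mul, map_mul, h1]
  dvd := by
    rw [← Nat.card_congr e.toEquiv]
    exact h.dvd

/-- From the order. -/
theorem spl_of {p : ℕ} {S : Type v} [Group S] (hS : IsSimpleGroup S) {n : ℕ} (hn : Nat.card S = n) (h4 : 4 ∣ n)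
    (hp : p ∣ n) : Spl p S where
  simple := hS
  nc := by
    by_contra hcon
    push Not at hcon
    letI : CommGroup S := { (inferInstance : Group S) with mul_comm := hcon }
    have h2 : IsSimpleGroup S := hS
    have h3 : (Nat.card S).Prime := IsSimpleGroup.prime_card
    rw [hn] at h3
    have h5 := (Nat.prime_dvd_prime_iff_eq Nat.prime_two h3).1 ((by norm_num : (2 : ℕ) ∣ 4).trans h4)
    rw [← h5] at h4
    norm_num at h4
  dvd := by rw [hn]; exact hp

theorem spl_suz {S : Type v} [Group S] (h : Spor.IsoSuz S) : Spl 3 S := by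
  obtain ⟨e⟩ := id h
  have hs := Cfsg.Agent.S1694.result
  exact spl_of ((MulEquiv.isSimpleGroup_congr e).2 hs.1) ((Nat.card_congr e.toEquiv).trans hs.2) (by norm_num)
    (by norm_num)

theorem spl_th {S : Type v} [Group S] (h : Spor.IsoTh S) : Spl 3 S := by
  obtain ⟨e⟩ := id h
  have hs := Cfsg.Agent.S1700.result
  exact spl_of ((MulEquiv.isSimpleGroup_congr e).2 hs.1) ((Nat.card_congr e.toEquiv).trans hs.2) (by norm_num)
    (by norm_num)

theorem spl_fi24 {S : Type v} [Group S] (h : Spor.IsoFi24' S) : Spl 3 S := by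
  obtain ⟨e⟩ := id h
  have hs := Cfsg.Agent.S1698.result
  exact spl_of ((MulEquiv.isSimpleGroup_congr e).2 hs.1) ((Nat.card_congr e.toEquiv).trans hs.2) (by norm_num)
    (by norm_num)

/-- `C(x) / ⟨x⟩` simple. -/
theorem rkOne_of_spl {G : Type u} [Group G] [Finite G] {p : ℕ} (hp : p.Prime) {x : G} (hx : x ^ p = 1)
    (h : Spl p (XX x)) : RkOne p ↥(centralizer ({x} : Set G)) := by
  refine RkOne.of_simple hp (QuotientGroup.mk' (Zx x)) (QuotientGroup.mk'_surjective _) ?_ ?_ h.simple h.nc h.dvd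
  · rw [QuotientGroup.ker_mk']
    exact Group.isSolvable_of_comm fun a b => by
      obtain ⟨a, ha⟩ := a
      obtain ⟨b, hb⟩ := b
      obtain ⟨i, rfl⟩ := Subgroup.mem_zpowers_iff.1 ha
      obtain ⟨j, rfl⟩ := Subgroup.mem_zpowers_iff.1 hb
      exact Subtype.ext (by
        show self x ^ i * self x ^ j = self x ^ j * self x ^ i
        rw [← zpow_add, ← zpow_add, add_comm])
  · rw [QuotientGroup.ker_mk', Zx, Nat.card_zpowers]
    intro h1
    have h2 : orderOf (self x) ∣ p := orderOf_dvd_of_pow_eq_one (Subtype.ext hx)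
    have h3 := Nat.le_of_dvd hp.pos (h1.trans h2)
    have h4 := hp.one_lt
    nlinarith

variable {G : Type u} [Group G] {Q : Subgroup G} {z : G} {eta : G → L2}
  {pi : Subgroup.centralizer ({z} : Set G) →* Co1}

/-- **Fixed rank 0.** -/
theorem rkOne_zero (FT : ∀ (K : Type u) [Group K] [Finite K], Odd (Nat.card K) → Group.IsSolvable K) [Finite G]
    (h : Chart Q z eta pi) {x : Subgroup.centralizer ({z} : Set G)} (hx : orderOf x = 3) (hfr : fr (pi x) = 1)
    (hiso : ∀ d : G, d * (x : G) = x * d → (d * z * d⁻¹) * z = z * (d * z * d⁻¹) → d * z * d⁻¹ = z)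
    (hS : Spl 3 (XX (pi x))) (hk : ∃ k : G, k * (x : G) = x * k ∧ k * k = z) :
    RkOne 3 ↥(centralizer ({(x : G)} : Set G)) := by
  have hx3 : x ^ 3 = 1 := by rw [← hx, pow_orderOf_eq_one]
  obtain ⟨k, hkx, hkk⟩ := hk
  have hxx : (⟨(x : G), mem_centralizer_singleton_iff.2 rfl⟩ : ↥(centralizer ({(x : G)} : Set G))) ∈
      Subgroup.center ↥(centralizer ({(x : G)} : Set G)) := by
    rw [Subgroup.mem_center_iff]
    rintro ⟨y, hy⟩
    exact Subtype.ext (mem_centralizer_singleton_iff.1 hy)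
  refine RkOne.of_isolated_cover (S := XX (pi x)) FT Nat.prime_three (by norm_num) (z := zD x) ?_ ?_
    (x := ⟨(x : G), mem_centralizer_singleton_iff.2 rfl⟩) ?_ hxx
    hS.simple hS.nc hS.dvd (toXX pi x) (toXX_surj h hx3) ?_ (k := ⟨k, mem_centralizer_singleton_iff.2 hkx⟩)
    (Subtype.ext hkk)
  · rw [← Subgroup.orderOf_coe]
    exact LargeExtra.Base.orderOf_z h.large
  · intro d hd
    exact Subtype.ext (hiso d (mem_centralizer_singleton_iff.1 d.2) (congrArg Subtype.val hd))
  · apply Subtype.ext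
    show (x : G) ^ 3 = 1
    exact_mod_cast congrArg Subtype.val hx3
  · -- the kernel
    intro g hg
    have h1 : be pi x (toCC x g) ∈ Zx (pi x) := (QuotientGroup.eq_one_iff _).1 hg
    rw [Zx, Subgroup.mem_zpowers_iff] at h1
    obtain ⟨i, hi⟩ := h1
    -- `g x^{-i} ∈ Q`
    set g' : G := ((g : ↥(centralizer ({(x : G)} : Set G))) : G) with hg'
    have hgx : g' * (x : G) = x * g' := mem_centralizer_singleton_iff.1 (g : ↥(centralizer ({(x : G)} : Set G))).2
    have hgz : g' * z = z * g' := congrArg Subtype.val (mem_centralizer_singleton_iff.1 g.2)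
    have h2 : pi x ^ i = pi ⟨g', mem_centralizer_singleton_iff.2 hgz⟩ := congrArg Subtype.val hi
    rw [← map_zpow] at h2
    have h3 : ((x : G) ^ i)⁻¹ * g' ∈ Q := h.pi_eq.1 h2
    have hcg : Commute ((x : G) ^ i) g' := (show Commute (x : G) g' from hgx.symm).zpow_left i
    have hcx : Commute ((x : G) ^ i)⁻¹ (x : G) := ((Commute.refl (x : G)).zpow_left i).inv_left
    have h4 : (x : G) * (((x : G) ^ i)⁻¹ * g') = ((x : G) ^ i)⁻¹ * g' * x := by
      rw [← mul_assoc, ← hcx.eq, mul_assoc, ← hgx, mul_assoc]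
    have h5 := (comm_iff_fix h hx3 h3).1 h4
    have h6 : eta (((x : G) ^ i)⁻¹ * g') = 0 := by
      rw [fr, Nat.card_eq_one_iff_unique] at hfr
      have := hfr.1
      exact congrArg Subtype.val (Subsingleton.elim (⟨_, h5⟩ : {v : L2 // pi x • v = v}) ⟨0, smul_zero _⟩)
    refine ⟨i, ?_⟩
    rcases (h.eta_zero _ h3).1 h6 with h7 | h7
    · left
      apply Subtype.ext
      show g' = (x : G) ^ i
      rw [inv_mul_eq_one] at h7
      exact h7.symm
    · right
      apply Subtype.ext
      exact inv_mul_eq_iff_eq_mul.1 h7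

/-- **Fixed ranks 8 and 12.** -/
theorem spl_of_inputs [Finite G] [IsSimpleGroup G] (h : Chart Q z eta pi) (I : CoOne)
    {x : Subgroup.centralizer ({z} : Set G)} (hx : orderOf x = 3) (hfr : fr (pi x) = 2 ^ 8 ∨ fr (pi x) = 2 ^ 12) :
    Spl 3 (XX (x : G)) := by
  rcases hfr with hfr | hfr
  · obtain ⟨s, hs, hfs, ⟨e⟩, hg, hf⟩ := I.nine
    obtain ⟨x', hx', hs', c, hc⟩ := exists_conj_to h hx hs (by rw [hfr]; exact I.eight) (by rw [hfs, hfr])
    subst hs'
    obtain ⟨-, ⟨f⟩⟩ := exists_XX_equiv hc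
    exact (spl_th (iso_th h hx' hfs (by rw [hfs]; exact I.eight) hf e hg)).congr f
  · obtain ⟨s, hs, hfs, ht, h4⟩ := I.psu
    obtain ⟨x', hx', hs', c, hc⟩ := exists_conj_to h hx hs (by rw [hfr]; exact I.twelve) (by rw [hfs, hfr])
    subst hs'
    obtain ⟨-, ⟨f⟩⟩ := exists_XX_equiv hc
    exact (spl_fi24 (iso_fi24 h hx' hfs (by rw [hfs]; exact I.twelve) ht h4)).congr f

/-- **All `x` of order 3 in `C(z)`.** -/
theorem rkOne_all (FT : ∀ (K : Type u) [Group K] [Finite K], Odd (Nat.card K) → Group.IsSolvable K) [Finite G]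
    [IsSimpleGroup G] (h : Chart Q z eta pi) (I : CoOne) (ht : TrNe z pi) (hp : HasPair z pi)
    (hk : ∀ x : Subgroup.centralizer ({z} : Set G), orderOf x = 3 → fr (pi x) = 1 →
      ∃ k : G, k * (x : G) = x * k ∧ k * k = z)
    {x : Subgroup.centralizer ({z} : Set G)} (hx : orderOf x = 3) :
    RkOne 3 ↥(centralizer ({(x : G)} : Set G)) := by
  have zero : ∀ x : Subgroup.centralizer ({z} : Set G), orderOf x = 3 → fr (pi x) = 1 →
      RkOne 3 ↥(centralizer ({(x : G)} : Set G)) := fun x hx hfr =>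
    rkOne_zero FT h hx hfr (fun d hd hc => isolated h ht hx hfr d hd hc)
      (spl_suz (I.suz (pi x) (orderOf_pi h hx) hfr)) (hk x hx hfr)
  have h812 : ∀ x : Subgroup.centralizer ({z} : Set G), orderOf x = 3 → (fr (pi x) = 2 ^ 8 ∨ fr (pi x) = 2 ^ 12) →
      Spl 3 (XX (x : G)) := fun x hx h1 => spl_of_inputs h I hx h1
  have hx3 : (x : G) ^ 3 = 1 := by
    have h1 : x ^ 3 = 1 := by rw [← hx, pow_orderOf_eq_one]
    exact_mod_cast congrArg Subtype.val h1
  rcases I.ranks (pi x) (orderOf_pi h hx) with h1 | h1 | h1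
  · exact zero x hx h1
  · obtain ⟨x₀, u, g, hx₀, hfr₀, huz, hux, hne, hg⟩ := hp
    obtain ⟨k, hk⟩ := conj_six h ht I.ranks I.six (fun x hx h2 => ⟨(h812 x hx h2).simple, by
        obtain ⟨a, b, hab⟩ := (h812 x hx h2).nc
        intro h3
        apply hab
        have : b ∈ Subgroup.center (XX (x : G)) := by rw [h3]; trivial
        exact Subgroup.mem_center_iff.1 this a⟩) hx₀ hfr₀ huz hux hne hg hx h1
    obtain ⟨⟨e⟩, -⟩ := exists_XX_equiv hk
    exact (zero x₀ hx₀ hfr₀).congr e.symm
  · exact rkOne_of_spl Nat.prime_three hx3 (h812 x hx h1)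

end Cfsg.Agent.PreUniq.MonThree

end

-- merged: Cfsg.Agent.PreUniq.MonGen
section

/-!
# `RkOne p C(x)` for elements `x` of odd prime order of `C(z)` (helper59)

* `sq_eq_z` : an element `k` of `C(z) ∩ C(x)` over an element of `Co0` of square `-1` has square `z`, `x` of fixed rank 0;
* `rkOne_zero` : fixed rank 0;
* `rkOne_conj` : elements conjugate to powers of an element of fixed rank 0.
-/

set_option autoImplicit false

namespace Cfsg.Agent.PreUniq.MonGen

open Cfsg Cfsg.Agent.MonsterU Cfsg.Agent.LThree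
open Cfsg.Agent.LThreeMB (fr fr_conj Zx XX mk zD toCC toCC_surj toCC_inj toXX toXX_ker exists_XX_equiv be)
open Cfsg.Agent.MFive (comm_iff_fix exists_lift orderOf_pi coe_pow toXX_surj TrNe HasPair WClassOf conj_pair isolated
  exists_cent_equiv)
open Cfsg.Agent.PreUniq Cfsg.Agent.PreUniq.MonThree
open Cfsg.Agent.LeechMat.Core Cfsg.Agent.MonsterX.KSide Cfsg.Agent.MonsterX.KLift
open Cfsg.Agent.MonsterX.FrameKS Cfsg.Agent.MonsterU.InvTwo
open Cfsg.Agent.MonsterU.TwoCls Cfsg.Agent.MonsterU.TwoQ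
open Cfsg.Agent.MonsterU.Ch
open Cfsg.Agent.MonsterU.Lam2 (L2)
open Cfsg.Agent.SporadicA.Co1Simple (allOne)
open Cfsg.Agent.SporadicA.Co0Mono (signCo0)
open Cfsg.Spor (Co1)
open Subgroup (centralizer zpowers mem_centralizer_singleton_iff)

universe u

section chart

variable {p : ℕ} {G : Type u} [Group G] {Q : Subgroup G} {z : G} {eta : G → L2}
  {pi : Subgroup.centralizer ({z} : Set G) →* Co1}

/-- `x` of fixed rank 0 commutes with no element of `Q` outside `⟨z⟩`. -/
theorem free_of_fr (h : Chart Q z eta pi) (ho : Odd p) {x : Subgroup.centralizer ({z} : Set G)} (hx : x ^ p = 1)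
    (hfr : fr (pi x) = 1) {q : G} (hq : q ∈ Q) (hxq : (x : G) * q = q * x) : q = 1 ∨ q = z := by
  have h5 := (comm_iff_fix h ho hx hq).1 hxq
  have h6 : eta q = 0 := by
    rw [fr, Nat.card_eq_one_iff_unique] at hfr
    have := hfr.1
    exact congrArg Subtype.val (Subsingleton.elim (⟨_, h5⟩ : {v : L2 // pi x • v = v}) ⟨0, smul_zero _⟩)
  exact (h.eta_zero _ hq).1 h6

/-- The kernel of `C_{C(x)}(z) → C_{Co1}(pi x) / ⟨pi x⟩`, fixed rank 0. -/
theorem ker_sub (h : Chart Q z eta pi) (ho : Odd p) {x : Subgroup.centralizer ({z} : Set G)} (hx : x ^ p = 1)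
    (hfr : fr (pi x) = 1) (g : ↥(centralizer ({zD x} : Set ↥(centralizer ({(x : G)} : Set G)))))
    (hg : toXX pi x g = 1) :
    ∃ i : ℤ, ((g : ↥(centralizer ({(x : G)} : Set G))) : G) = (x : G) ^ i ∨
      ((g : ↥(centralizer ({(x : G)} : Set G))) : G) = (x : G) ^ i * z := by
  have h1 : be pi x (toCC x g) ∈ Zx (pi x) := (QuotientGroup.eq_one_iff _).1 hg
  rw [Zx, Subgroup.mem_zpowers_iff] at h1
  obtain ⟨i, hi⟩ := h1
  set g' : G := ((g : ↥(centralizer ({(x : G)} : Set G))) : G) with hg'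
  have hgx : g' * (x : G) = x * g' := mem_centralizer_singleton_iff.1 (g : ↥(centralizer ({(x : G)} : Set G))).2
  have hgz : g' * z = z * g' := congrArg Subtype.val (mem_centralizer_singleton_iff.1 g.2)
  have h2 : pi x ^ i = pi ⟨g', mem_centralizer_singleton_iff.2 hgz⟩ := congrArg Subtype.val hi
  rw [← map_zpow] at h2
  have h3 : ((x : G) ^ i)⁻¹ * g' ∈ Q := h.pi_eq.1 h2
  have hcg : Commute ((x : G) ^ i) g' := (show Commute (x : G) g' from hgx.symm).zpow_left i
  have hcx : Commute ((x : G) ^ i)⁻¹ (x : G) := ((Commute.refl (x : G)).zpow_left i).inv_left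
  have h4 : (x : G) * (((x : G) ^ i)⁻¹ * g') = ((x : G) ^ i)⁻¹ * g' * x := by
    rw [← mul_assoc, ← hcx.eq, mul_assoc, ← hgx, mul_assoc]
  refine ⟨i, ?_⟩
  rcases free_of_fr h ho hx hfr h3 h4 with h7 | h7
  · left
    rw [inv_mul_eq_one] at h7
    exact h7.symm
  · right
    exact inv_mul_eq_iff_eq_mul.1 h7

/-- **Fixed rank 0.** -/
theorem rkOne_zero (FT : ∀ (K : Type u) [Group K] [Finite K], Odd (Nat.card K) → Group.IsSolvable K) [Finite G]
    (h : Chart Q z eta pi) (hp : p.Prime) (ho : Odd p) {x : Subgroup.centralizer ({z} : Set G)}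
    (hx : orderOf x = p) (hfr : fr (pi x) = 1)
    (hiso : ∀ d : G, d * (x : G) = x * d → (d * z * d⁻¹) * z = z * (d * z * d⁻¹) → d * z * d⁻¹ = z)
    (hS : Spl p (XX (pi x))) (hk : ∃ k : G, k * (x : G) = x * k ∧ k * k = z) :
    RkOne p ↥(centralizer ({(x : G)} : Set G)) := by
  have hxp : x ^ p = 1 := by rw [← hx, pow_orderOf_eq_one]
  obtain ⟨k, hkx, hkk⟩ := hk
  have hxx : (⟨(x : G), mem_centralizer_singleton_iff.2 rfl⟩ : ↥(centralizer ({(x : G)} : Set G))) ∈
      Subgroup.center ↥(centralizer ({(x : G)} : Set G)) := by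
    rw [Subgroup.mem_center_iff]
    rintro ⟨y, hy⟩
    exact Subtype.ext (mem_centralizer_singleton_iff.1 hy)
  have hp2 : p ≠ 2 := fun h1 => by rw [h1] at ho; exact absurd ho (by decide)
  refine RkOne.of_isolated_cover (S := XX (pi x)) FT hp hp2 (z := zD x) ?_ ?_
    (x := ⟨(x : G), mem_centralizer_singleton_iff.2 rfl⟩) ?_ hxx
    hS.simple hS.nc hS.dvd (toXX pi x) (toXX_surj h hp ho hxp) ?_ (k := ⟨k, mem_centralizer_singleton_iff.2 hkx⟩)
    (Subtype.ext hkk)
  · rw [← Subgroup.orderOf_coe]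
    exact LargeExtra.Base.orderOf_z h.large
  · intro d hd
    exact Subtype.ext (hiso d (mem_centralizer_singleton_iff.1 d.2) (congrArg Subtype.val hd))
  · have h9 : (x : G) ^ p = 1 := coe_pow hxp
    exact Subtype.ext h9
  · intro g hg
    obtain ⟨i, hi⟩ := ker_sub h ho hxp hfr g hg
    refine ⟨i, ?_⟩
    rcases hi with hi | hi
    · left
      apply Subtype.ext
      rw [SubgroupClass.coe_zpow]
      exact hi
    · right
      apply Subtype.ext
      rw [Subgroup.coe_mul, SubgroupClass.coe_zpow]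
      exact hi

/-- `C(x)` for `x` conjugate to a power of `x₀`. -/
theorem rkOne_conj [Finite G] (hp : p.Prime) {x x₀ k : G} {i : ℕ} (hx : orderOf x = p) (hx₀ : orderOf x₀ = p)
    (hk : k * x * k⁻¹ = x₀ ^ i) (h : RkOne p ↥(centralizer ({x₀} : Set G))) :
    RkOne p ↥(centralizer ({x} : Set G)) := by
  obtain ⟨e⟩ := exists_cent_equiv hp hx hx₀ hk
  exact h.congr e

/-- **All `x` of order `p` in `C(z)`.** -/
theorem rkOne_all (FT : ∀ (K : Type u) [Group K] [Finite K], Odd (Nat.card K) → Group.IsSolvable K) [Finite G]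
    [IsSimpleGroup G] (h : Chart Q z eta pi) (hp : p.Prime) (ho : Odd p) (ht : TrNe p z pi) {n : ℕ} {R : ℕ → Prop}
    (hC : ∀ s : Co1, orderOf s = p → fr s = 1 ∨ fr s = n ∨ R (fr s)) (hcl : WClassOf p n)
    (h0 : ∀ s : Co1, orderOf s = p → fr s = 1 → Spl p (XX s))
    (hR : ∀ x : Subgroup.centralizer ({z} : Set G), orderOf x = p → R (fr (pi x)) → Spl p (XX (x : G)))
    (hpair : HasPair p z pi)
    (hk : ∀ x : Subgroup.centralizer ({z} : Set G), orderOf x = p → fr (pi x) = 1 →
      ∃ k : G, k * (x : G) = x * k ∧ k * k = z)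
    {x : Subgroup.centralizer ({z} : Set G)} (hx : orderOf x = p) :
    RkOne p ↥(centralizer ({(x : G)} : Set G)) := by
  have zero : ∀ x : Subgroup.centralizer ({z} : Set G), orderOf x = p → fr (pi x) = 1 →
      RkOne p ↥(centralizer ({(x : G)} : Set G)) := fun x hx hfr =>
    rkOne_zero FT h hp ho hx hfr (fun d hd hc => isolated h ht hx hfr d hd hc)
      (h0 (pi x) (orderOf_pi h hp ho hx) hfr) (hk x hx hfr)
  have hxp : (x : G) ^ p = 1 := coe_pow (by rw [← hx, pow_orderOf_eq_one])
  rcases hC (pi x) (orderOf_pi h hp ho hx) with h1 | h1 | h1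
  · exact zero x hx h1
  · obtain ⟨x₀, u, g, hx₀, hfr₀, huz, hux, hne, hg⟩ := hpair
    obtain ⟨k, i, hki⟩ := conj_pair h hp ho ht hC hcl (fun x hx h2 => ⟨(hR x hx h2).simple, by
        obtain ⟨a, b, hab⟩ := (hR x hx h2).nc
        intro h3
        apply hab
        have : b ∈ Subgroup.center (XX (x : G)) := by rw [h3]; trivial
        exact Subgroup.mem_center_iff.1 this a⟩) hx₀ hfr₀ huz hux hne hg hx h1
    exact rkOne_conj hp (by rw [Subgroup.orderOf_coe]; exact hx) (by rw [Subgroup.orderOf_coe]; exact hx₀) hki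
      (zero x₀ hx₀ hfr₀)
  · exact rkOne_of_spl hp hxp (hR x hx h1)

end chart

section model

variable {p : ℕ} {G V P W : Type*} [Group G] [AddCommGroup V] [Module ℚ V]
  [DistribMulAction G V] [SMulCommClass G ℚ V] [Group P] [AddCommGroup W] [Module ℚ W]
  {M : KS G V P W} {θ : leechLattice → P}

/-- **`k` with `k² = z` from an element of `Co0` of square `-1`.** -/
theorem exists_k (L : Lift M θ) (hc : LThreeMB.KChart.Cent M) (hp : p.Prime) (ho : Odd p)
    {x : centralizer ({M.z} : Set G)} (hx : orderOf x = p) (hfr : fr (LThreeMB.KChart.pi hc x) = 1) {A : Co0}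
    (hA : A * A = signCo0 allOne)
    (hAx : (QuotientGroup.mk A : Co1) * LThreeMB.KChart.pi hc x = LThreeMB.KChart.pi hc x * QuotientGroup.mk A) :
    ∃ k : G, k * (x : G) = x * k ∧ k * k = M.z := by
  have h := LThreeMB.KChart.chart L hc
  have hxp : x ^ p = 1 := by rw [← hx, pow_orderOf_eq_one]
  obtain ⟨k, hkx, hk⟩ := exists_lift h hp ho hxp hAx
  have hkz : (k : G) * M.z = M.z * k := mem_centralizer_singleton_iff.1 k.2
  have hkK : (k : G) ∈ M.K := hc k hkz
  obtain ⟨A', hA'⟩ := ind_exists hkK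
  have hI : Ind M (k : G) A := Ind_of_mk hA' ((LThreeMB.KChart.pi_eq hc hA').symm.trans hk)
  have h1 : LThreeMB.KChart.pi hc (k * k) = 1 := by
    rw [map_mul, hk]
    show (QuotientGroup.mk (A * A) : Co1) = 1
    rw [hA]
    exact (QuotientGroup.eq_one_iff _).2 SporadicA.Co1Simple.allOne_mem_center
  have h2 : (k : G) * k ∈ M.ι.range := (h.pi_eq_one (k * k)).1 h1
  have hkx' : (k : G) * x = x * k := congrArg Subtype.val hkx
  refine ⟨k, hkx', ?_⟩
  rcases free_of_fr h ho hxp hfr h2 (by rw [← mul_assoc, ← hkx', mul_assoc, ← hkx', mul_assoc]) with h3 | h3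
  · exact absurd h3 (TwoB0.two_b0 L hkK hI hA)
  · exact h3

end model

end Cfsg.Agent.PreUniq.MonGen

end
end
end
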