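import Cfsg.Agent.PreUniq.Base
import Cfsg.Agent.SignalizersComponents.PLayerAut
set_option linter.all false

/-!
# Transport of the preuniqueness hypothesis along an isomorphism

`NoPre p G`: no pair `(M, K)` of subgroups of `G` satisfies `PreuniquenessHypothesis p M K`.
-/

set_option autoImplicit false
set_option linter.unusedSectionVars false

namespace Cfsg.Agent.PreUniq

open Cfsg

/-- No pair of subgroups of `G` satisfies the preuniqueness hypothesis. -/
def NoPre (p : ℕ) (G : Type*) [Group G] : Prop := ∀ M K : Subgroup G, ¬ PreuniquenessHypothesis p M K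

/-- In every pair of subgroups `(M, K)` of `G` satisfying the preuniqueness hypothesis, `K` is normal in `M` and `M`
controls neither rank 1 nor rank 2 fusion. -/
def StdPre (p : ℕ) (G : Type*) [Group G] : Prop := ∀ M K : Subgroup G, PreuniquenessHypothesis p M K →
  IsStandardWrt M K ∧ ¬ ControlsRankOneFusion p M K ∧ ¬ ControlsRankTwoFusion p M K

theorem NoPre.stdPre {p : ℕ} {G : Type*} [Group G] (h : NoPre p G) : StdPre p G :=
  fun M K hMK => absurd hMK (h M K)

variable {G G' : Type*} [Group G] [Group G'] {p : ℕ} {M K : Subgroup G}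

/-- The isomorphism of `M` onto its image. -/
def mapEquiv (e : G ≃* G') (M : Subgroup G) : ↥M ≃* ↥(M.map e.toMonoidHom) := e.subgroupMap M

theorem mapEquiv_apply (e : G ≃* G') (M : Subgroup G) (m : ↥M) : ((mapEquiv e M m : ↥(M.map e.toMonoidHom)) : G') = e m := rfl

theorem core_map (e : G ≃* G') (M : Subgroup G) : core p (M.map e.toMonoidHom) = (core p M).map e.toMonoidHom := by
  have h := Cfsg.Agent.Lib.Cores.map_equiv_pPrimeCore (mapEquiv e M) p
  rw [core, core, ← h, Subgroup.map_map, Subgroup.map_map]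
  rfl

theorem subgroupOf_map (e : G ≃* G') (M K : Subgroup G) :
    (K.map e.toMonoidHom).subgroupOf (M.map e.toMonoidHom) = (K.subgroupOf M).map (mapEquiv e M).toMonoidHom := by
  ext ⟨y, hy⟩
  obtain ⟨m, hm, rfl⟩ := hy
  rw [Subgroup.mem_subgroupOf]
  constructor
  · rintro ⟨k, hk, hk2⟩
    have h1 : k = m := e.injective hk2
    subst h1
    exact ⟨⟨k, hm⟩, hk, rfl⟩
  · rintro ⟨k, hk, hk2⟩
    have h1 : e k.1 = e m := congrArg Subtype.val hk2
    exact ⟨k.1, hk, h1⟩

theorem perp_map (hKM : K ≤ M) (e : G ≃* G') :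
    perp p (M.map e.toMonoidHom) (K.map e.toMonoidHom) = (perp p M K).map e.toMonoidHom := by
  ext y
  rw [mem_perp (Subgroup.map_mono hKM)]
  constructor
  · rintro ⟨⟨m, hm, rfl⟩, h⟩
    refine ⟨m, (mem_perp hKM).2 ⟨hm, fun k hk => ?_⟩, rfl⟩
    have h1 := h (e k) ⟨k, hk, rfl⟩
    rw [core_map] at h1
    obtain ⟨c, hc, hc2⟩ := h1
    have h2 : c = m * k * m⁻¹ * k⁻¹ := by
      apply e.injective
      rw [map_mul, map_mul, map_mul, map_inv, map_inv]
      exact hc2
    rwa [← h2]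
  · rintro ⟨m, hm, rfl⟩
    obtain ⟨h1, h2⟩ := (mem_perp hKM).1 hm
    refine ⟨⟨m, h1, rfl⟩, ?_⟩
    rintro _ ⟨k, hk, rfl⟩
    rw [core_map]
    refine ⟨_, h2 k hk, ?_⟩
    change e (m * k * m⁻¹ * k⁻¹) = e m * e k * (e m)⁻¹ * (e k)⁻¹
    rw [map_mul, map_mul, map_mul, map_inv, map_inv]

theorem pRankAtLeast_congr {X Y : Type*} [Group X] [Group Y] (e : X ≃* Y) {p k : ℕ} (h : PRankAtLeast p k X) :
    PRankAtLeast p k Y := by
  obtain ⟨A, hA, hp, hc⟩ := h
  refine ⟨A.map e.toMonoidHom, ⟨⟨?_⟩⟩, ?_, ?_⟩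
  · rintro ⟨_, a, ha, rfl⟩ ⟨_, b, hb, rfl⟩
    have h3 : a * b = b * a := congrArg Subtype.val (hA.is_comm.comm ⟨a, ha⟩ ⟨b, hb⟩)
    apply Subtype.ext
    change e a * e b = e b * e a
    rw [← map_mul, h3, map_mul]
  · rintro _ ⟨a, ha, rfl⟩
    change (e a) ^ p = 1
    rw [← map_pow, hp a ha, map_one]
  · rw [Nat.card_congr (Subgroup.equivMapOfInjective _ _ e.injective).toEquiv.symm]
    exact hc

theorem map_ne_top (e : G ≃* G') (h : M ≠ ⊤) : M.map e.toMonoidHom ≠ ⊤ := by
  intro h1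
  apply h
  apply Subgroup.map_injective (f := e.toMonoidHom) e.injective
  rw [h1, Subgroup.map_top_of_surjective _ e.surjective]

theorem centralizer_map (e : G ≃* G') (x : G) :
    Subgroup.centralizer ({e x} : Set G') = (Subgroup.centralizer ({x} : Set G)).map e.toMonoidHom := by
  ext y
  obtain ⟨z, rfl⟩ := e.surjective y
  constructor
  · intro h
    refine ⟨z, ?_, rfl⟩
    rw [SetLike.mem_coe, Subgroup.mem_centralizer_singleton_iff]
    rw [Subgroup.mem_centralizer_singleton_iff] at h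
    apply e.injective
    rw [map_mul, map_mul, h]
  · rintro ⟨z', hz, hz2⟩
    have h1 : z' = z := e.injective hz2
    subst h1
    rw [SetLike.mem_coe, Subgroup.mem_centralizer_singleton_iff] at hz
    rw [Subgroup.mem_centralizer_singleton_iff, ← map_mul, hz, map_mul]

theorem IsPreuniquenessSubgroup_map (e : G ≃* G') (h : IsPreuniquenessSubgroup p M K) :
    IsPreuniquenessSubgroup p (M.map e.toMonoidHom) (K.map e.toMonoidHom) := by
  have hKM := h.2.1
  refine ⟨map_ne_top e h.1, Subgroup.map_mono hKM, ?_, ?_⟩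
  · rw [subgroupOf_map]
    exact Cfsg.Agent.SignalizersComponents.PLayerAut.isPComponent_map_equiv p _ h.2.2.1
  · intro y hy hyo hk
    have h1 : y ∈ perp p (M.map e.toMonoidHom) (K.map e.toMonoidHom) :=
      (mem_perp (Subgroup.map_mono hKM)).2 ⟨hy, hk⟩
    rw [perp_map hKM] at h1
    obtain ⟨x, hx, rfl⟩ := h1
    change Subgroup.centralizer ({e x} : Set G') ≤ _
    rw [centralizer_map]
    refine Subgroup.map_mono (centralizer_le h hx ?_)
    have h2 : orderOf (e x) = orderOf x := e.orderOf_eq x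
    rw [← h2]
    exact hyo

theorem isCoatom_map (e : G ≃* G') (h : IsCoatom M) : IsCoatom (M.map e.toMonoidHom) :=
  (OrderIso.isCoatom_iff e.mapSubgroup M).2 h

theorem perpEquiv (p : ℕ) (M K : Subgroup G) : Nonempty (↥(centralizerModCore p M K) ≃* ↥(perp p M K)) :=
  ⟨Subgroup.equivMapOfInjective _ _ M.subtype_injective⟩

theorem preuniquenessHypothesis_map (e : G ≃* G') (h : PreuniquenessHypothesis p M K) :
    PreuniquenessHypothesis p (M.map e.toMonoidHom) (K.map e.toMonoidHom) := by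
  refine ⟨IsPreuniquenessSubgroup_map e h.1, isCoatom_map e h.2.1, ?_, fun h2 => ?_⟩
  · obtain ⟨e1⟩ := perpEquiv p M K
    obtain ⟨e2⟩ := perpEquiv p (M.map e.toMonoidHom) (K.map e.toMonoidHom)
    refine pRankAtLeast_congr e2.symm ?_
    rw [perp_map h.1.2.1]
    exact pRankAtLeast_congr (mapEquiv e (perp p M K)) (pRankAtLeast_congr e1 h.2.2.1)
  · exact pRankAtLeast_congr (mapEquiv e M) (h.2.2.2 h2)

theorem NoPre.congr (e : G ≃* G') (h : NoPre p G) : NoPre p G' := by
  intro M K hMK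
  exact h _ _ (preuniquenessHypothesis_map e.symm hMK)

theorem ctrlTwo_map (e : G ≃* G') (hKM : K ≤ M) (h : CtrlTwo p M K) :
    CtrlTwo p (M.map e.toMonoidHom) (K.map e.toMonoidHom) := by
  intro E hE hEa hEc g hg
  obtain ⟨g, rfl⟩ := e.surjective g
  refine ⟨g, ?_, rfl⟩
  have h1 : E.map e.symm.toMonoidHom ≤ perp p M K := by
    rintro _ ⟨y, hy, rfl⟩
    have h2 := hE hy
    rw [perp_map hKM] at h2
    obtain ⟨x, hx, rfl⟩ := h2
    change e.symm (e x) ∈ _
    rwa [e.symm_apply_apply]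
  refine h _ h1 ⟨⟨⟨?_⟩⟩, ?_⟩ ?_ g ?_
  · rintro ⟨_, a, ha, rfl⟩ ⟨_, b, hb, rfl⟩
    have h3 : a * b = b * a := congrArg Subtype.val (hEa.1.is_comm.comm ⟨a, ha⟩ ⟨b, hb⟩)
    apply Subtype.ext
    change e.symm a * e.symm b = e.symm b * e.symm a
    rw [← map_mul, h3, map_mul]
  · rintro _ ⟨a, ha, rfl⟩
    change (e.symm a) ^ p = 1
    rw [← map_pow, hEa.2 a ha, map_one]
  · rw [← hEc, Nat.card_congr (Subgroup.equivMapOfInjective _ _ e.symm.injective).toEquiv.symm]
  · rintro _ ⟨a, ha, rfl⟩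
    obtain ⟨x, hx, hx2⟩ := hg a ha
    have h2 : g * e.symm a * g⁻¹ = x := by
      apply e.injective
      rw [map_mul, map_mul, map_inv, e.apply_symm_apply]
      exact hx2.symm
    change g * e.symm a * g⁻¹ ∈ M
    rw [h2]
    exact hx

theorem ctrlOne_map (e : G ≃* G') (hKM : K ≤ M) (h : CtrlOne p M K) :
    CtrlOne p (M.map e.toMonoidHom) (K.map e.toMonoidHom) := by
  intro y hy hyo g hg
  obtain ⟨g, rfl⟩ := e.surjective g
  refine ⟨g, ?_, rfl⟩
  rw [perp_map hKM] at hy
  obtain ⟨x, hx, rfl⟩ := hy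
  have h2 : orderOf (e x) = orderOf x := e.orderOf_eq x
  refine h x hx (by rw [← h2]; exact hyo) g ?_
  obtain ⟨z, hz, hz2⟩ := hg
  have h3 : g * x * g⁻¹ = z := by
    apply e.injective
    rw [map_mul, map_mul, map_inv]
    exact hz2.symm
  rw [h3]
  exact hz

theorem isStandardWrt_map (e : G ≃* G') (h : IsStandardWrt M K) :
    IsStandardWrt (M.map e.toMonoidHom) (K.map e.toMonoidHom) := by
  refine ⟨Subgroup.map_mono h.1, ?_⟩
  rw [subgroupOf_map]
  exact h.2.map _ (mapEquiv e M).surjective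

theorem map_symm_map (e : G ≃* G') (M : Subgroup G') : (M.map e.symm.toMonoidHom).map e.toMonoidHom = M := by
  rw [Subgroup.map_map]
  have : e.toMonoidHom.comp e.symm.toMonoidHom = MonoidHom.id G' := by
    ext x
    exact e.apply_symm_apply x
  rw [this, Subgroup.map_id]

theorem StdPre.congr [Finite G] [Finite G'] [Fact p.Prime] (e : G ≃* G') (h : StdPre p G) : StdPre p G' := by
  intro M K hMK
  have h0 := preuniquenessHypothesis_map e.symm hMK
  obtain ⟨h1, h2, h3⟩ := h _ _ h0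
  refine ⟨?_, fun h4 => h2 ?_, fun h4 => h3 ?_⟩
  · have h5 := isStandardWrt_map e h1
    rwa [map_symm_map, map_symm_map] at h5
  · rw [controls_iff_ctrlOne hMK.1] at h4
    rw [controls_iff_ctrlOne h0.1]
    exact ctrlOne_map e.symm hMK.1.2.1 h4
  · rw [controls_iff_ctrlTwo hMK.1] at h4
    rw [controls_iff_ctrlTwo h0.1]
    exact ctrlTwo_map e.symm hMK.1.2.1 h4

end Cfsg.Agent.PreUniq
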