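import Cfsg.Agent.Lib.PGroupCoprimeAction
import Cfsg.Agent.Lib.ProductSet
import Cfsg.Agent.SignalizersComponents.CoprimeBasic
import Cfsg.Agent.LieExceptional.BNPairCore
import Cfsg.Agent.FastGrp
import Cfsg.Agent.Prune
set_option linter.all false
prune_inst 0x7f00000000000000000000000000000000000000000000000000000000000000000000000000000000000000000000000000000000000000000000000000000000000000000000000000000000000000003fffffffffffffffffffffffffffbeffbdffffffff
open scoped Cfsg.Agent.FastGrp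

/-!
# Normal `r'`-subgroups of a group with a split (B, N)-pair of odd characteristic `r` are solvable (helper83)

`isSolvable_of_split` : `C` finite, `U ≤ B ≤ C`, `U` an `r`-group (`r` odd), `N_C(U) = B` solvable, `Ps` a set of subgroups
containing `B` such that `U` is transitive on `P / B - {B}` for `P ∈ Ps`. Let `V` be a normal subgroup of `C` of order prime
to `r` such that `V B` is generated by `B` and the members of `Ps` contained in it. Then `V` is solvable. (No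
irreducibility, no perfectness, no restriction on the parameters.)
-/

set_option autoImplicit false
set_option linter.unusedSectionVars false

namespace Cfsg.Agent.PreUniq.BnRP

open Subgroup Cfsg.Agent.Lib
open scoped Pointwise

variable {C : Type*} [Group C] {r : ℕ} {B U V : Subgroup C}

/-- coprime commuting elements: `u * d ∈ H` implies `d ∈ H`. -/
theorem mem_of_mul_mem {H : Subgroup C} {u d : C} (hc : Commute u d) {a b : ℕ} (hu : u ^ a = 1) (hd : d ^ b = 1)
    (hab : a.Coprime b) (h : u * d ∈ H) : d ∈ H := by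
  have h1 : (u * d) ^ a ∈ H := H.pow_mem h _
  rw [hc.mul_pow, hu, one_mul] at h1
  have h2 : d ^ (a.gcd b) ∈ H := by
    have h3 : d ^ ((a.gcd b : ℕ) : ℤ) ∈ H := by
      rw [Nat.gcd_eq_gcd_ab, zpow_add, zpow_mul, zpow_mul]
      refine H.mul_mem (H.zpow_mem ?_ _) ?_
      · rw [zpow_natCast]; exact h1
      · rw [zpow_natCast, hd, one_zpow]; exact H.one_mem
    rwa [zpow_natCast] at h3
  rwa [hab, pow_one] at h2

variable [Finite C] [hr : Fact r.Prime]

theorem inf_eq_bot (hV : ¬ r ∣ Nat.card V) (hU : IsPGroup r U) : V ⊓ U = ⊥ := by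
  rw [eq_bot_iff]
  intro x hx
  obtain ⟨k, hk⟩ := hU ⟨x, hx.2⟩
  have h1 : x ^ r ^ k = 1 := congrArg Subtype.val hk
  have h2 : x ^ Nat.card V = 1 := congrArg Subtype.val (pow_card_eq_one' (x := (⟨x, hx.1⟩ : V)))
  have h3 : x ^ (r ^ k).gcd (Nat.card V) = 1 := pow_gcd_eq_one.mpr ⟨h1, h2⟩
  have h4 : (r ^ k).gcd (Nat.card V) = 1 :=
    Nat.Coprime.pow_left k ((Nat.Prime.coprime_iff_not_dvd hr.out).2 hV)
  rw [h4, pow_one] at h3
  exact h3

/-- The index of `B` in `P` is even if `U` is transitive on `P / B - {B}` and `r` is odd. -/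
theorem even_relIndex (hr2 : r ≠ 2) (hU : IsPGroup r U) (hUB : U ≤ B) {P : Subgroup C} (hP : B ≤ P)
    (htr : ∀ g ∈ P, ∀ g' ∈ P, g ∉ B → g' ∉ B → ∃ u ∈ U, ∃ b ∈ B, g' = u * g * b) (hne : ¬ P ≤ B) :
    2 ∣ B.relIndex P := by
  obtain ⟨g, hgP, hgB⟩ := SetLike.not_le_iff_exists.1 hne
  have hUP : U ≤ P := hUB.trans hP
  let U' : Subgroup P := U.subgroupOf P
  let X := P ⧸ B.subgroupOf P
  let x0 : X := QuotientGroup.mk (1 : P)
  let x1 : X := QuotientGroup.mk (⟨g, hgP⟩ : P)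
  have hor : ∀ x : X, x ≠ x0 ↔ x ∈ MulAction.orbit U' x1 := by
    intro x
    obtain ⟨y, rfl⟩ := QuotientGroup.mk_surjective x
    have hy0 : (QuotientGroup.mk y : X) = x0 ↔ (y : C) ∈ B := by
      rw [show x0 = QuotientGroup.mk (1 : P) from rfl, eq_comm, QuotientGroup.eq, inv_one, one_mul]
      rfl
    rw [Ne, hy0]
    constructor
    · intro hy
      obtain ⟨u, hu, b, hb, h⟩ := htr g hgP y y.2 hgB hy
      refine ⟨⟨⟨u, hUP hu⟩, hu⟩, ?_⟩
      show (QuotientGroup.mk ((⟨u, hUP hu⟩ : P) * ⟨g, hgP⟩) : X) = QuotientGroup.mk y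
      rw [QuotientGroup.eq]
      show ((u * g)⁻¹ * (y : C)) ∈ B
      rw [h]
      have : (u * g)⁻¹ * (u * g * b) = b := by group
      rw [this]
      exact hb
    · rintro ⟨⟨⟨u, huP⟩, hu⟩, h⟩ hy
      have h1 : (QuotientGroup.mk ((⟨u, huP⟩ : P) * ⟨g, hgP⟩) : X) = QuotientGroup.mk y := h
      rw [QuotientGroup.eq] at h1
      have h2 : ((u * g)⁻¹ * (y : C)) ∈ B := h1
      apply hgB
      have h3 : g = u⁻¹ * ((y : C) * ((u * g)⁻¹ * (y : C))⁻¹) := by group
      rw [h3]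
      exact B.mul_mem (B.inv_mem (hUB hu)) (B.mul_mem hy (B.inv_mem h2))
  have hcard : Nat.card X = 1 + Nat.card (MulAction.orbit U' x1) := by
    have h1 : ({x0} : Set X)ᶜ = MulAction.orbit U' x1 := by
      ext x
      rw [Set.mem_compl_iff, Set.mem_singleton_iff]
      exact hor x
    have h2 := Set.ncard_add_ncard_compl ({x0} : Set X)
    rw [Set.ncard_singleton, h1] at h2
    rw [← h2]
    rfl
  have hU'p : IsPGroup r U' := hU.comap_subtype
  obtain ⟨k, hk⟩ := hU'p.card_orbit x1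
  have hodd : Odd (Nat.card (MulAction.orbit U' x1)) := by
    rw [hk]
    exact (hr.out.odd_of_ne_two hr2).pow
  show 2 ∣ Nat.card X
  rw [hcard]
  obtain ⟨m, hm⟩ := hodd
  rw [hm]
  exact ⟨m + 1, by ring⟩

/-- The step: `V ⊓ P` is covered by a `U`-invariant `2`-subgroup and `V ⊓ B`. -/
theorem exists_two [hVn : V.Normal] (hr2 : r ≠ 2) (hV : ¬ r ∣ Nat.card V) (hU : IsPGroup r U) (hUB : U ≤ B)
    {P : Subgroup C} (hP : B ≤ P)
    (htr : ∀ g ∈ P, ∀ g' ∈ P, g ∉ B → g' ∉ B → ∃ u ∈ U, ∃ b ∈ B, g' = u * g * b) (hPV : P ≤ V ⊔ B) :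
    ∃ A : Subgroup C, A ≤ V ∧ IsPGroup 2 A ∧ (∀ u ∈ U, ∀ a ∈ A, u * a * u⁻¹ ∈ A) ∧
      ∀ v ∈ V ⊓ P, ∃ a ∈ A, ∃ d ∈ V ⊓ B, v = a * d := by
  by_cases hne : P ≤ B
  · exact ⟨⊥, bot_le, IsPGroup.of_bot, fun u _ a ha => by
      rw [Subgroup.mem_bot] at ha ⊢
      rw [ha, mul_one, mul_inv_cancel], fun v hv => ⟨1, Subgroup.one_mem _, v, ⟨hv.1, hne hv.2⟩, (one_mul v).symm⟩⟩
  have hUP : U ≤ P := hUB.trans hP
  have hVs : ¬ r ∣ Nat.card ↥(V ⊓ P) := fun h => hV (h.trans (Subgroup.card_dvd_of_le inf_le_left))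
  have hinv : ∀ b ∈ U, ∀ u ∈ V ⊓ P, b * u * b⁻¹ ∈ V ⊓ P := fun b hb u hu =>
    ⟨hVn.conj_mem _ hu.1 b, P.mul_mem (P.mul_mem (hUP hb) hu.2) (P.inv_mem (hUP hb))⟩
  have : Fact (Nat.Prime 2) := ⟨Nat.prime_two⟩
  obtain ⟨A, ⟨T, hT⟩, hA⟩ := PGroupCoprimeAction.exists_invariant_sylow hU hVs hinv 2
  have hAV : A ≤ V ⊓ P := by
    rw [← hT]
    exact Subgroup.map_subtype_le _
  have hA2 : IsPGroup 2 A := by
    rw [← hT]
    exact T.2.map _
  refine ⟨A, hAV.trans inf_le_left, hA2, hA, ?_⟩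
  -- `A` is not contained in `B`
  have hAB : ¬ A ≤ B := by
    intro hAB
    have h1 : ¬ 2 ∣ (A.subgroupOf (V ⊓ P)).index := by
      have h2 : A.subgroupOf (V ⊓ P) = (T : Subgroup ↥(V ⊓ P)) := by
        rw [← hT, Subgroup.subgroupOf, Subgroup.comap_map_eq_self_of_injective (Subgroup.subtype_injective _)]
      rw [h2]
      exact Sylow.not_dvd_index' T (Subgroup.index_ne_zero_of_finite)
    apply h1
    have h3 : (V ⊓ B).relIndex (V ⊓ P) ∣ A.relIndex (V ⊓ P) :=
      Subgroup.relIndex_dvd_of_le_left _ (le_inf (hAV.trans inf_le_left) hAB)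
    refine dvd_trans ?_ h3
    -- `|V ⊓ P : V ⊓ B| = |P : B|`
    have h4 : (V ⊓ P) ⊔ B = P := by
      apply le_antisymm (sup_le inf_le_right hP)
      intro g hg
      obtain ⟨v, hv, b, hb, h⟩ := (Subgroup.mem_sup_of_normal_left).1 (hPV hg)
      have hvP : v ∈ P := by
        have h5 : v = g * b⁻¹ := by rw [← h]; group
        rw [h5]
        exact P.mul_mem hg (P.inv_mem (hP hb))
      rw [← h]
      exact Subgroup.mul_mem_sup ⟨hv, hvP⟩ hb
    have h6 : ((V ⊓ P : Subgroup C) : Set C) * (B : Set C) = (P : Set C) := by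
      ext g
      constructor
      · rintro ⟨v, hv, b, hb, rfl⟩
        exact P.mul_mem hv.2 (hP hb)
      · intro hg
        obtain ⟨v, hv, b, hb, h⟩ := (Subgroup.mem_sup_of_normal_left).1 (hPV hg)
        have hvP : v ∈ P := by
          have h5 : v = g * b⁻¹ := by rw [← h]; group
          rw [h5]
          exact P.mul_mem hg (P.inv_mem (hP hb))
        exact ⟨v, ⟨hv, hvP⟩, b, hb, h⟩
    have h7 := ProductSet.card_mul_card_inf (V ⊓ P) B
    rw [h6] at h7
    have h8 : V ⊓ P ⊓ B = V ⊓ B := by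
      rw [inf_assoc, inf_eq_right.2 hP]
    rw [h8] at h7
    have h9 : Nat.card B * B.relIndex P = Nat.card P := by
      have := Subgroup.card_mul_index (B.subgroupOf P)
      rwa [Nat.card_congr (Subgroup.subgroupOfEquivOfLe hP).toEquiv] at this
    have h10 : Nat.card ↥(V ⊓ B) * (V ⊓ B).relIndex (V ⊓ P) = Nat.card ↥(V ⊓ P) := by
      have hle : V ⊓ B ≤ V ⊓ P := inf_le_inf_left _ hP
      have := Subgroup.card_mul_index ((V ⊓ B).subgroupOf (V ⊓ P))
      rwa [Nat.card_congr (Subgroup.subgroupOfEquivOfLe hle).toEquiv] at this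
    have h11 : Nat.card (P : Set C) = Nat.card P := rfl
    rw [h11, ← h9, ← h10] at h7
    have hB0 : 0 < Nat.card B := Nat.card_pos
    have hD0 : 0 < Nat.card ↥(V ⊓ B) := Nat.card_pos
    have h12 : B.relIndex P = (V ⊓ B).relIndex (V ⊓ P) := by
      have h13 : (Nat.card B * Nat.card ↥(V ⊓ B)) * B.relIndex P =
          (Nat.card B * Nat.card ↥(V ⊓ B)) * (V ⊓ B).relIndex (V ⊓ P) := by
        linarith
      exact Nat.eq_of_mul_eq_mul_left (Nat.mul_pos hB0 hD0) h13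
    rw [← h12]
    exact even_relIndex hr2 hU hUB hP htr hne
  obtain ⟨a, ha, haB⟩ := SetLike.not_le_iff_exists.1 hAB
  intro v hv
  by_cases hvB : v ∈ B
  · exact ⟨1, A.one_mem, v, ⟨hv.1, hvB⟩, (one_mul v).symm⟩
  obtain ⟨u, hu, b, hb, h⟩ := htr a (hAV ha).2 v hv.2 haB hvB
  refine ⟨u * a * u⁻¹, hA u hu a ha, u * b, ⟨?_, B.mul_mem (hUB hu) hb⟩, ?_⟩
  · have h1 : u * b = (u * a * u⁻¹)⁻¹ * v := by rw [h]; group
    rw [h1]
    exact V.mul_mem (V.inv_mem (hAV (hA u hu a ha)).1) hv.1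
  · rw [h]; group

/-! ### the version for (B, N)-pairs -/

section BN

open Cfsg Cfsg.Agent.LieExceptional.BNPairCore

omit [Finite C] hr in
theorem mem_parabolic_singleton (P : BNPair C) {s : C} (hs : s ∈ P.S) {g : C} (hg : g ∈ P.parabolic {s}) :
    g ∈ P.B ∨ g ∈ Cfsg.Agent.LieExceptional.BNPairCore.C P s := by
  obtain ⟨n, hn, h⟩ := (mem_parabolic_iff (Set.singleton_subset_iff.2 hs) g).1 hg
  rw [← Subgroup.zpowers_eq_closure] at hn
  obtain ⟨k, rfl⟩ := Subgroup.mem_zpowers_iff.1 hn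
  have heven : ∀ m : ℤ, s ^ (2 * m) ∈ P.B := fun m => by
    rw [zpow_mul, zpow_two]
    exact P.B.zpow_mem (P.sq_mem s hs) m
  rcases Int.even_or_odd' k with ⟨m, rfl | rfl⟩
  · exact Or.inl (mem_B_of_mem_C (heven m) h)
  · right
    rw [add_comm, zpow_add, zpow_one, C_mul_right (heven m)] at h
    exact h

end BN

end Cfsg.Agent.PreUniq.BnRP
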