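import Cfsg.Prelude.Def_SevenCases
import Cfsg.Agent.Lib.PComponents
import Cfsg.Agent.SignalizersComponents.CoprimeBasic
import Mathlib.GroupTheory.SpecificGroups.Alternating.Simple
import Mathlib.GroupTheory.SpecificGroups.Alternating.KleinFour
import Mathlib.GroupTheory.Perm.Cycle.Factors
import Cfsg.Agent.PreUniq.Transport
import Cfsg.Prelude.Def_LieTypeChar
import Cfsg.Agent.FastGrp
import Cfsg.Agent.Prune
set_option linter.all false

section
prune_inst 0x7fbdfefbfffc6ddfffff7e7ffeffdfffbffefffffffffffbfffcffffafdf7b8ebff5fb8fffebdaff3ff7f2be32f87b53fffffeffefffff7ffffffff47fffff9fffffbfad71fdbcbe1ffe6ffefbf1ffce7f3fffffffffffffffffffffffffffbeffffffffffff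

-- part: PreUniq/AltRow
section
prune_inst 0x80000000000000000000000000000000000000010000400000610000000000040000c00000000000000800000000000000000000000800000000000040020c000001000000000406003180c00000000000000000000000000041000000000000
set_option linter.all false
open scoped Cfsg.Agent.FastGrp

-- merged: Cfsg.Agent.PreUniq.AltBase
section

/-!
The pair `(A, L)` attached to a `p`-component preuniqueness subgroup `M` with respect to `K`:
`A` is an elementary abelian `p`-subgroup of `M` of order at least `p²` centralising `K` modulo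
`O_{p'}(M)`, all its non-identity elements have their centralisers in `M`, and `L` is a perfect
subgroup of `C_M(A)` with the same image as `K` modulo `O_{p'}(M)`.
-/

set_option autoImplicit false
set_option linter.unusedSectionVars false

namespace Cfsg.Agent.PreUniq.AltBase

open Subgroup Cfsg
open scoped commutatorElement

/-- The perfect radical: every subgroup `D` of a finite group contains a perfect subgroup `L` such that every
homomorphism onto a perfect image of `D` is already onto on `L`. -/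
theorem exists_perfect_sub {X Y : Type*} [Group X] [Finite X] [Group Y] (f : X →* Y) :
    ∀ (n : ℕ) (D : Subgroup X), Nat.card D ≤ n → ⁅D.map f, D.map f⁆ = D.map f →
      ∃ L : Subgroup X, L ≤ D ∧ ⁅L, L⁆ = L ∧ L.map f = D.map f := by
  intro n
  induction n with
  | zero =>
    intro D hD _
    exact absurd (Nat.card_pos (α := D)) (by omega)
  | succ n ih =>
    intro D hD hper
    by_cases h : ⁅D, D⁆ = D
    · exact ⟨D, le_rfl, h, rfl⟩
    · have hle : ⁅D, D⁆ ≤ D := Subgroup.commutator_le_self _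
      have hlt : ⁅D, D⁆ < D := lt_of_le_of_ne hle h
      have hmap : (⁅D, D⁆).map f = D.map f := by rw [Subgroup.map_commutator, hper]
      have hcard : Nat.card ↥⁅D, D⁆ < Nat.card D := by
        have h1 : Nat.card ↥⁅D, D⁆ ≤ Nat.card D := Subgroup.card_le_of_le hle
        refine lt_of_le_of_ne h1 fun h2 => h ?_
        exact Subgroup.eq_of_le_of_card_ge hle h2.ge
      obtain ⟨L, hL1, hL2, hL3⟩ := ih ⁅D, D⁆ (by omega) (by rw [hmap, hper])
      exact ⟨L, hL1.trans hle, hL2, hL3.trans hmap⟩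

variable {G : Type*} [Group G] [Finite G] {p : ℕ} [hp : Fact p.Prime]

/-- The core `O_{p'}(M)` as a subgroup of `G`. -/
abbrev coreOf (p : ℕ) {G : Type*} [Group G] (M : Subgroup G) : Subgroup G :=
  (pPrimeCore p ↥M).map M.subtype

/-- The map `M → M / O_{p'}(M)`. -/
abbrev red (p : ℕ) {G : Type*} [Group G] (M : Subgroup G) : ↥M →* (↥M ⧸ pPrimeCore p ↥M) :=
  QuotientGroup.mk' (pPrimeCore p ↥M)

omit [Finite G] hp in
theorem mem_coreOf {M : Subgroup G} {x : G} (hx : x ∈ M) :
    x ∈ coreOf p M ↔ (⟨x, hx⟩ : ↥M) ∈ pPrimeCore p ↥M := by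
  constructor
  · rintro ⟨y, hy, hyx⟩
    have : y = ⟨x, hx⟩ := Subtype.ext hyx
    rw [← this]; exact hy
  · intro h
    exact ⟨_, h, rfl⟩

omit [Finite G] hp in
theorem coreOf_le (M : Subgroup G) : coreOf p M ≤ M := Subgroup.map_subtype_le _

theorem conj_mem_coreOf {M : Subgroup G} {x o : G} (hx : x ∈ M) (ho : o ∈ coreOf p M) :
    x * o * x⁻¹ ∈ coreOf p M := by
  have hoM := coreOf_le M ho
  rw [mem_coreOf hoM] at ho
  rw [mem_coreOf (M.mul_mem (M.mul_mem hx hoM) (M.inv_mem hx))]
  exact (Cfsg.Agent.Lib.Cores.pPrimeCore_normal (G := ↥M) p).conj_mem _ ho ⟨x, hx⟩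

omit hp in
theorem card_coreOf (M : Subgroup G) : (Nat.card (coreOf p M)).Coprime p := by
  have h := Cfsg.Agent.Lib.Cores.pPrimeCore_coprime (G := ↥M) p
  have h2 : Nat.card (coreOf p M) = Nat.card (pPrimeCore p ↥M) :=
    Nat.card_congr ((pPrimeCore p ↥M).equivMapOfInjective M.subtype M.subtype_injective).symm.toEquiv
  rwa [h2]

theorem red_eq_iff {M : Subgroup G} {x y : ↥M} :
    red p M x = red p M y ↔ (x : G)⁻¹ * y ∈ coreOf p M := by
  rw [QuotientGroup.mk'_apply, QuotientGroup.mk'_apply, QuotientGroup.eq]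
  rw [show ((x : G)⁻¹ * (y : G)) = ((x⁻¹ * y : ↥M) : G) from rfl, mem_coreOf (x⁻¹ * y).2]

/-- The data extracted from the preuniqueness hypothesis. -/
structure Pair (p : ℕ) {G : Type*} [Group G] (M K A L : Subgroup G) : Prop where
  neTop : M ≠ ⊤
  KM : K ≤ M
  comp : IsComponent ((K.subgroupOf M).map (red p M))
  AM : A ≤ M
  comm : ∀ a ∈ A, ∀ b ∈ A, a * b = b * a
  pow : ∀ a ∈ A, a ^ p = 1
  card : p ^ 2 ≤ Nat.card A
  cent : ∀ x ∈ M, orderOf x = p → (∀ k ∈ K, x * k * x⁻¹ * k⁻¹ ∈ coreOf p M) →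
    Subgroup.centralizer ({x} : Set G) ≤ M
  AK : ∀ a ∈ A, ∀ k ∈ K, a * k * a⁻¹ * k⁻¹ ∈ coreOf p M
  LM : L ≤ M
  AL : ∀ a ∈ A, ∀ l ∈ L, a * l = l * a
  Lper : ⁅L, L⁆ = L
  Lmap : (L.subgroupOf M).map (red p M) = (K.subgroupOf M).map (red p M)

theorem exists_pair {M K : Subgroup G} (h : IsPreuniquenessSubgroup p M K)
    (h2 : PRankAtLeast p 2 ↥(centralizerModCore p M K)) : ∃ A L : Subgroup G, Pair p M K A L := by
  obtain ⟨hM, hKM, hK, hcent⟩ := h
  obtain ⟨A0, hA0c, hA0p, hA0card⟩ := h2
  -- the subgroup of `G`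
  let A1 : Subgroup ↥M := A0.map (centralizerModCore p M K).subtype
  let A : Subgroup G := A1.map M.subtype
  have hA1 : A1 ≤ centralizerModCore p M K := Subgroup.map_subtype_le _
  have hAM : A ≤ M := Subgroup.map_subtype_le _
  have hcardA : Nat.card A = Nat.card A0 := by
    have e1 : Nat.card A = Nat.card A1 :=
      Nat.card_congr (A1.equivMapOfInjective M.subtype M.subtype_injective).symm.toEquiv
    have e2 : Nat.card A1 = Nat.card A0 :=
      Nat.card_congr (A0.equivMapOfInjective _ (Subgroup.subtype_injective _)).symm.toEquiv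
    rw [e1, e2]
  have hmemA : ∀ a ∈ A, ∃ b : ↥(centralizerModCore p M K), b ∈ A0 ∧ ((b : ↥M) : G) = a := by
    rintro a ⟨b, ⟨c, hc, rfl⟩, rfl⟩
    exact ⟨c, hc, rfl⟩
  have hcomm : ∀ a ∈ A, ∀ b ∈ A, a * b = b * a := by
    intro a ha b hb
    obtain ⟨a', ha', rfl⟩ := hmemA a ha
    obtain ⟨b', hb', rfl⟩ := hmemA b hb
    have := hA0c.is_comm.comm (⟨a', ha'⟩ : A0) ⟨b', hb'⟩
    have h3 : a' * b' = b' * a' := congrArg Subtype.val this
    have h4 : ((a' * b' : ↥(centralizerModCore p M K)) : ↥M) =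
      ((b' * a' : ↥(centralizerModCore p M K)) : ↥M) := congrArg Subtype.val h3
    exact congrArg Subtype.val h4
  have hpow : ∀ a ∈ A, a ^ p = 1 := by
    intro a ha
    obtain ⟨a', ha', rfl⟩ := hmemA a ha
    have h3 := hA0p a' ha'
    have h4 : (((a' ^ p : ↥(centralizerModCore p M K)) : ↥M) : G) = 1 := by rw [h3]; rfl
    simpa only [_root_.SubmonoidClass.coe_pow] using h4
  have hAK : ∀ a ∈ A, ∀ k ∈ K, a * k * a⁻¹ * k⁻¹ ∈ coreOf p M := by
    intro a ha k hk
    obtain ⟨⟨a', ha''⟩, ha', rfl⟩ := hmemA a ha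
    have h5 : (red p M a') ∈ Subgroup.centralizer
        (((K.subgroupOf M).map (red p M) : Subgroup (↥M ⧸ pPrimeCore p ↥M)) : Set _) := ha''
    rw [Subgroup.mem_centralizer_iff] at h5
    have hkM : k ∈ M := hKM hk
    have h6 := h5 (red p M ⟨k, hkM⟩) ⟨⟨k, hkM⟩, Subgroup.mem_subgroupOf.mpr hk, rfl⟩
    have h7 : red p M ((⟨k, hkM⟩ : ↥M) * a') = red p M (a' * ⟨k, hkM⟩) := by
      rw [map_mul, map_mul]; exact h6
    -- `(a k)⁻¹ ...`
    have h8 : red p M (a' * ⟨k, hkM⟩ * a'⁻¹ * (⟨k, hkM⟩ : ↥M)⁻¹) = 1 := by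
      rw [map_mul, map_mul, ← h7, map_mul, map_inv, map_inv]
      group
    have h9 : (a' * ⟨k, hkM⟩ * a'⁻¹ * (⟨k, hkM⟩ : ↥M)⁻¹) ∈ pPrimeCore p ↥M := by
      rwa [QuotientGroup.mk'_apply, QuotientGroup.eq_one_iff] at h8
    exact ⟨_, h9, rfl⟩
  -- `C_{K O}(A)` covers `K`
  have hOdvd : ¬ p ∣ Nat.card (coreOf p M) := by
    intro hd
    have := (card_coreOf (p := p) M)
    have h10 := Nat.Coprime.eq_one_of_dvd (Nat.Coprime.symm this) hd
    exact hp.out.one_lt.ne' h10
  have hAp : IsPGroup p A := by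
    rintro ⟨a, ha⟩
    exact ⟨1, Subtype.ext (by simpa only [_root_.pow_one, _root_.SubmonoidClass.mk_pow, _root_.OneMemClass.coe_one] using hpow a ha)⟩
  let D : Subgroup G := M ⊓ Subgroup.centralizer (A : Set G)
  -- elements of `D` in the cosets `k O`
  have hcov : ∀ k ∈ K, ∃ d ∈ D, k⁻¹ * d ∈ coreOf p M := by
    intro k hk
    obtain ⟨o, ho, hfix⟩ := Cfsg.Agent.SignalizersComponents.CoprimeBasic.exists_fixed_in_coset (p := p) A hAp
      (coreOf p M) hOdvd (fun a ha d hd => conj_mem_coreOf (hAM ha) hd) k (fun a ha => by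
        have h11 := hAK a ha k hk
        have h12 : k⁻¹ * (a * k * a⁻¹) = k⁻¹ * (a * k * a⁻¹ * k⁻¹) * k⁻¹⁻¹ := by group
        rw [h12]
        exact conj_mem_coreOf (M.inv_mem (hKM hk)) h11)
    refine ⟨k * o, Subgroup.mem_inf.mpr ⟨M.mul_mem (hKM hk) (coreOf_le M ho),
      Subgroup.mem_centralizer_iff.mpr fun a ha => hfix a ha⟩, by rwa [inv_mul_cancel_left]⟩
  let D0 : Subgroup ↥M := (D.subgroupOf M) ⊓ ((K.subgroupOf M).map (red p M)).comap (red p M)
  have hD0 : D0.map (red p M) = (K.subgroupOf M).map (red p M) := by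
    apply le_antisymm
    · rintro _ ⟨x, hx, rfl⟩
      exact hx.2
    · rintro _ ⟨k, hk, rfl⟩
      obtain ⟨d, hd, hkd⟩ := hcov (k : G) (Subgroup.mem_subgroupOf.mp hk)
      have hdM : d ∈ M := hd.1
      have h13 : red p M k = red p M ⟨d, hdM⟩ := red_eq_iff.mpr hkd
      refine ⟨⟨d, hdM⟩, Subgroup.mem_inf.mpr ⟨Subgroup.mem_subgroupOf.mpr hd, Subgroup.mem_comap.mpr ?_⟩,
        h13.symm⟩
      rw [← h13]
      exact ⟨k, hk, rfl⟩
  have hper : ⁅(K.subgroupOf M).map (red p M), (K.subgroupOf M).map (red p M)⁆ =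
      (K.subgroupOf M).map (red p M) :=
    Cfsg.Agent.SignalizersComponents.Components.component_commutator_self hK.2.1
  obtain ⟨L0, hL01, hL02, hL03⟩ := exists_perfect_sub (red p M) _ D0 le_rfl (by rw [hD0, hper])
  refine ⟨A, L0.map M.subtype, hM, hKM, hK.2.1, hAM, hcomm, hpow, by rw [hcardA]; exact hA0card,
    hcent, hAK, Subgroup.map_subtype_le _, ?_, ?_, ?_⟩
  · rintro a ha _ ⟨l, hl, rfl⟩
    have h14 : (l : G) ∈ D := Subgroup.mem_subgroupOf.mp (Subgroup.mem_inf.mp (hL01 hl)).1
    exact (Subgroup.mem_centralizer_iff.mp (Subgroup.mem_inf.mp h14).2) a ha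
  · rw [← Subgroup.map_commutator, hL02]
  · have : (L0.map M.subtype).subgroupOf M = L0 := by
      rw [Subgroup.subgroupOf, Subgroup.comap_map_eq_self_of_injective M.subtype_injective]
    rw [this, hL03, hD0]

namespace Pair

variable {M K A L : Subgroup G}

theorem Kmap_ne_bot (h : Pair p M K A L) : (K.subgroupOf M).map (red p M) ≠ ⊥ :=
  Cfsg.Agent.SignalizersComponents.Components.component_ne_bot h.comp

theorem not_le_core (h : Pair p M K A L) : ¬ L ≤ coreOf p M := by
  intro hle
  apply h.Kmap_ne_bot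
  rw [← h.Lmap, eq_bot_iff]
  rintro _ ⟨l, hl, rfl⟩
  rw [Subgroup.mem_bot, QuotientGroup.mk'_apply, QuotientGroup.eq_one_iff]
  exact (mem_coreOf l.2).mp (hle (Subgroup.mem_subgroupOf.mp hl))

theorem cent_A (h : Pair p M K A L) {a : G} (ha : a ∈ A) (ha1 : a ≠ 1) :
    Subgroup.centralizer ({a} : Set G) ≤ M :=
  h.cent a (h.AM ha) (orderOf_eq_prime (h.pow a ha) ha1) (h.AK a ha)

/-- `L` centralises every `p`-subgroup of `M` which it normalises. -/
theorem comm_pgroup (h : Pair p M K A L) {V : Subgroup G} (hVM : V ≤ M) (hV : IsPGroup p V)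
    (hn : ∀ l ∈ L, ∀ v ∈ V, l * v * l⁻¹ ∈ V) : ∀ l ∈ L, ∀ v ∈ V, l * v = v * l := by
  have hO := card_coreOf (p := p) M
  have hVr : IsPGroup p ((V.subgroupOf M).map (red p M)) := (hV.comap_subtype).map _
  have hcomm : ⁅(L.subgroupOf M).map (red p M), (V.subgroupOf M).map (red p M)⁆ = ⊥ := by
    rw [h.Lmap]
    refine Cfsg.Agent.SignalizersComponents.Components.component_commutator_solvable h.comp ?_ ?_
    · rw [← h.Lmap]
      rintro _ ⟨l, hl, rfl⟩
      rw [Subgroup.mem_normalizer_iff]
      have hl' : (l : G) ∈ L := Subgroup.mem_subgroupOf.mp hl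
      intro x
      constructor
      · rintro ⟨v, hv, rfl⟩
        exact ⟨l * v * l⁻¹, Subgroup.mem_subgroupOf.mpr (hn _ hl' _ (Subgroup.mem_subgroupOf.mp hv)), by
          rw [map_mul, map_mul, map_inv]⟩
      · rintro ⟨v, hv, hvx⟩
        refine ⟨l⁻¹ * v * l, Subgroup.mem_subgroupOf.mpr ?_, ?_⟩
        · have := hn _ (L.inv_mem hl') _ (Subgroup.mem_subgroupOf.mp hv)
          simpa only [_root_.Subgroup.coe_mul, _root_.InvMemClass.coe_inv, _root_.inv_inv] using this
        · rw [map_mul, map_mul, map_inv, hvx]; group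
    · haveI : Group.IsNilpotent ((V.subgroupOf M).map (red p M)) := hVr.isNilpotent
      infer_instance
  intro l hl v hv
  have hlM := h.LM hl
  have hvM := hVM hv
  have h1 : ⁅red p M ⟨l, hlM⟩, red p M ⟨v, hvM⟩⁆ = 1 := by
    have := Subgroup.commutator_mem_commutator
      (H₁ := (L.subgroupOf M).map (red p M)) (H₂ := (V.subgroupOf M).map (red p M))
      ⟨⟨l, hlM⟩, Subgroup.mem_subgroupOf.mpr hl, rfl⟩ ⟨⟨v, hvM⟩, Subgroup.mem_subgroupOf.mpr hv, rfl⟩
    rw [hcomm] at this
    exact this
  have h2 : (⁅(⟨l, hlM⟩ : ↥M), ⟨v, hvM⟩⁆ : ↥M) ∈ pPrimeCore p ↥M := by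
    rw [← QuotientGroup.eq_one_iff, ← QuotientGroup.mk'_apply, map_commutatorElement]
    exact h1
  have h3 : l * v * l⁻¹ * v⁻¹ ∈ coreOf p M := ⟨_, h2, rfl⟩
  have h4 : l * v * l⁻¹ * v⁻¹ ∈ V := V.mul_mem (hn l hl v hv) (V.inv_mem hv)
  have h5 : l * v * l⁻¹ * v⁻¹ = 1 := by
    have hc1 : (orderOf (l * v * l⁻¹ * v⁻¹)).Coprime p :=
      Nat.Coprime.coprime_dvd_left (Subgroup.orderOf_dvd_natCard _ h3) hO
    obtain ⟨k, hk⟩ := hV ⟨_, h4⟩
    have hk' : (l * v * l⁻¹ * v⁻¹) ^ p ^ k = 1 := congrArg Subtype.val hk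
    have hd := orderOf_dvd_of_pow_eq_one hk'
    have hc2 : (orderOf (l * v * l⁻¹ * v⁻¹)).Coprime (p ^ k) := Nat.Coprime.pow_right k hc1
    have := Nat.Coprime.eq_one_of_dvd hc2 hd
    exact orderOf_eq_one_iff.mp this
  calc l * v = (l * v * l⁻¹ * v⁻¹) * (v * l) := by group
    _ = v * l := by rw [h5, one_mul]

/-- A simple subgroup `J` of `M` containing `L` meets the core trivially and has the same image as `K`; so every
element of `M` centralising `J` centralises `K` modulo the core. -/
theorem core_of_cent (h : Pair p M K A L) {J : Subgroup G} (hJM : J ≤ M) (hLJ : L ≤ J)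
    (hJ : IsSimpleGroup J) :
    (∀ x ∈ J, x ∈ coreOf p M → x = 1) ∧
    (∀ k ∈ K, ∃ j ∈ J, j⁻¹ * k ∈ coreOf p M) ∧
    (∀ j ∈ J, ∃ k ∈ K, k⁻¹ * j ∈ coreOf p M) := by
  have hJ1 : ∀ x ∈ J, x ∈ coreOf p M → x = 1 := by
    have hN : ((coreOf p M).subgroupOf J).Normal := by
      constructor
      intro n hn g
      rw [Subgroup.mem_subgroupOf] at hn ⊢
      exact conj_mem_coreOf (hJM g.2) hn
    rcases hJ.eq_bot_or_eq_top_of_normal _ hN with h1 | h1
    · intro x hx hxc
      have : (⟨x, hx⟩ : J) ∈ (coreOf p M).subgroupOf J := Subgroup.mem_subgroupOf.mpr hxc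
      rw [h1, Subgroup.mem_bot] at this
      exact congrArg Subtype.val this
    · exfalso
      exact h.not_le_core (hLJ.trans (Subgroup.subgroupOf_eq_top.mp h1))
  refine ⟨hJ1, ?_⟩
  -- `K̄` is subnormal in `J̄`, which is simple
  let Jb : Subgroup (↥M ⧸ pPrimeCore p ↥M) := (J.subgroupOf M).map (red p M)
  let Kb : Subgroup (↥M ⧸ pPrimeCore p ↥M) := (K.subgroupOf M).map (red p M)
  have hKJ : Kb ≤ Jb := by
    change (K.subgroupOf M).map (red p M) ≤ _
    rw [← h.Lmap]
    exact Subgroup.map_mono (fun x hx => hLJ hx)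
  have hinj : Function.Injective (fun j : J => red p M ⟨j, hJM j.2⟩) := by
    intro x y hxy
    have h2 : (x : G)⁻¹ * y ∈ coreOf p M := red_eq_iff.mp hxy
    have h3 := hJ1 _ (J.mul_mem (J.inv_mem x.2) y.2) h2
    exact Subtype.ext (by
      have h4 : (x : G)⁻¹ * y = 1 := h3
      have := congrArg (fun z => (x : G) * z) h4
      simpa using this.symm)
  let f : J →* (↥M ⧸ pPrimeCore p ↥M) := (red p M).comp (Subgroup.inclusion hJM)
  have hf : Function.Injective f := hinj
  have hrange : f.range = Jb := by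
    ext x
    constructor
    · rintro ⟨j, rfl⟩
      exact ⟨⟨j, hJM j.2⟩, Subgroup.mem_subgroupOf.mpr j.2, rfl⟩
    · rintro ⟨j, hj, rfl⟩
      exact ⟨⟨j, Subgroup.mem_subgroupOf.mp hj⟩, rfl⟩
  have hsub : (Kb.comap f).IsSubnormal := h.comp.1.comap f
  have hKb : Kb = Jb := by
    have key : ∀ H : Subgroup J, H.IsSubnormal → H = ⊥ ∨ H = ⊤ := by
      intro H hH
      induction hH with
      | top => exact Or.inr rfl
      | step H K' h_le hSubn hN ih =>
        rcases ih with h5 | h5
        · left; rw [eq_bot_iff, ← h5]; exact h_le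
        · subst h5
          have : H.Normal := by
            constructor
            intro n hn g
            have := hN.conj_mem ⟨n, Subgroup.mem_top _⟩ (Subgroup.mem_subgroupOf.mpr hn) ⟨g, Subgroup.mem_top _⟩
            exact Subgroup.mem_subgroupOf.mp this
          exact hJ.eq_bot_or_eq_top_of_normal _ this
    rcases key _ hsub with h5 | h5
    · exfalso
      apply h.Kmap_ne_bot
      rw [eq_bot_iff]
      intro x hx
      obtain ⟨j, rfl⟩ : x ∈ f.range := by rw [hrange]; exact hKJ hx
      have : j ∈ Kb.comap f := hx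
      rw [h5, Subgroup.mem_bot] at this
      rw [this, map_one]; exact Subgroup.mem_bot.mpr rfl
    · apply le_antisymm hKJ
      rw [← hrange]
      rintro _ ⟨j, rfl⟩
      have : j ∈ Kb.comap f := by rw [h5]; exact Subgroup.mem_top _
      exact this
  constructor
  · intro k hk
    have h6 : red p M ⟨k, h.KM hk⟩ ∈ Jb := by
      rw [← hKb]
      exact ⟨⟨k, h.KM hk⟩, Subgroup.mem_subgroupOf.mpr hk, rfl⟩
    obtain ⟨j, hj, hjk⟩ := h6
    exact ⟨j, Subgroup.mem_subgroupOf.mp hj, red_eq_iff.mp hjk⟩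
  · intro j hj
    have h6 : red p M ⟨j, hJM hj⟩ ∈ Kb := by
      rw [hKb]
      exact ⟨⟨j, hJM hj⟩, Subgroup.mem_subgroupOf.mpr hj, rfl⟩
    obtain ⟨k, hk, hkj⟩ := h6
    exact ⟨k, Subgroup.mem_subgroupOf.mp hk, red_eq_iff.mp hkj⟩

/-- If `J ≥ L` is a simple subgroup of `M`, then each `x ∈ M` of order `p` centralising `J` has its centraliser
in `M`. -/
theorem cent_of_cent (h : Pair p M K A L) {J : Subgroup G} (hJM : J ≤ M) (hLJ : L ≤ J)
    (hJ : IsSimpleGroup J) {x : G} (hx : x ∈ M) (hxp : orderOf x = p) (hxJ : ∀ j ∈ J, x * j = j * x) :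
    Subgroup.centralizer ({x} : Set G) ≤ M := by
  refine h.cent x hx hxp fun k hk => ?_
  obtain ⟨j, hj, hjk⟩ := (h.core_of_cent hJM hLJ hJ).2.1 k hk
  set o := j⁻¹ * k with ho
  have hk' : k = j * o := by rw [ho, mul_inv_cancel_left]
  have h1 : x * k * x⁻¹ * k⁻¹ = j * ((x * o * x⁻¹) * o⁻¹) * j⁻¹ := by
    rw [hk']
    calc x * (j * o) * x⁻¹ * (j * o)⁻¹ = (x * j) * o * x⁻¹ * (j * o)⁻¹ := by group
      _ = (j * x) * o * x⁻¹ * (j * o)⁻¹ := by rw [hxJ j hj]
      _ = j * ((x * o * x⁻¹) * o⁻¹) * j⁻¹ := by group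
  rw [h1]
  exact conj_mem_coreOf (hJM hj) ((coreOf p M).mul_mem (conj_mem_coreOf hx hjk) ((coreOf p M).inv_mem hjk))

/-- `A` centralises each simple subgroup `J ≥ L` of `M` which it normalises. -/
theorem A_cent (h : Pair p M K A L) {J : Subgroup G} (hJM : J ≤ M) (hLJ : L ≤ J)
    (hJ : IsSimpleGroup J) {a : G} (ha : a ∈ A) (hn : ∀ j ∈ J, a * j * a⁻¹ ∈ J) :
    ∀ j ∈ J, a * j = j * a := by
  intro j hj
  obtain ⟨k, hk, hkj⟩ := (h.core_of_cent hJM hLJ hJ).2.2 j hj
  set o := k⁻¹ * j with ho
  have hj' : j = k * o := by rw [ho, mul_inv_cancel_left]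
  have haM := h.AM ha
  have h1 : a * j * a⁻¹ * j⁻¹ = (a * k * a⁻¹ * k⁻¹) * (k * ((a * o * a⁻¹) * o⁻¹) * k⁻¹) := by
    rw [hj']; group
  have h2 : a * j * a⁻¹ * j⁻¹ ∈ coreOf p M := by
    rw [h1]
    exact (coreOf p M).mul_mem (h.AK a ha k hk) (conj_mem_coreOf (h.KM hk)
      ((coreOf p M).mul_mem (conj_mem_coreOf haM hkj) ((coreOf p M).inv_mem hkj)))
  have h3 : a * j * a⁻¹ * j⁻¹ = 1 :=
    (h.core_of_cent hJM hLJ hJ).1 _ (J.mul_mem (hn j hj) (J.inv_mem hj)) h2
  calc a * j = (a * j * a⁻¹ * j⁻¹) * (j * a) := by group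
    _ = j * a := by rw [h3, one_mul]

end Pair

end Cfsg.Agent.PreUniq.AltBase

end

-- merged: Cfsg.Agent.PreUniq.AltRow
section

/-!
The alternating groups, `p` odd: there is no `p`-component preuniqueness subgroup `M` with respect to `K` with
`m_p(C_M(K mod O_{p'}(M))) ≥ 2`.
-/

set_option autoImplicit false
set_option linter.unusedSectionVars false

namespace Cfsg.Agent.PreUniq.AltRow

open Subgroup Cfsg Equiv Equiv.Perm
open scoped commutatorElement
open Cfsg.Agent.PreUniq.AltBase

section Perm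

variable {α : Type*} [Fintype α] [DecidableEq α]

/-- A subgroup of even permutations containing all `(u v)(u w)` (`w ≠ u`) is the alternating group. -/
theorem all_even {H : Subgroup (Perm α)} {u v : α} (huv : u ≠ v)
    (hH : ∀ w, w ≠ u → swap u v * swap u w ∈ H) (g : Perm α) : g ∈ H ∨ swap u v * g ∈ H := by
  have h1 : ∀ w w', w ≠ u → w' ≠ u → swap u w * swap u w' ∈ H := by
    intro w w' hw hw'
    have := H.mul_mem (H.inv_mem (hH w hw)) (hH w' hw')
    simpa [mul_assoc] using this
  have h3 : ∀ x y, x ≠ y → swap u v * swap x y ∈ H ∧ swap x y * swap u v ∈ H := by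
    intro x y hxy
    by_cases hx : x = u
    · subst hx
      exact ⟨hH y hxy.symm, h1 y v hxy.symm huv.symm⟩
    · by_cases hy : y = u
      · subst hy
        rw [swap_comm x y]
        exact ⟨hH x hx, h1 x v hx huv.symm⟩
      · have h4 : swap x y = swap u x * swap u y * swap u x := by
          rw [swap_comm u y]
          exact (swap_mul_swap_mul_swap (x := y) (y := u) (z := x) hy hxy.symm).symm
        rw [h4]
        constructor
        · rw [show swap u v * (swap u x * swap u y * swap u x) =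
            (swap u v * swap u x) * (swap u y * swap u x) by group]
          exact H.mul_mem (hH x hx) (h1 y x hy hx)
        · rw [show (swap u x * swap u y * swap u x) * swap u v =
            (swap u x * swap u y) * (swap u x * swap u v) by group]
          exact H.mul_mem (h1 x y hx hy) (h1 x v hx huv.symm)
  induction g using Perm.swap_induction_on with
  | one => exact Or.inl H.one_mem
  | swap_mul f x y hxy ih =>
    rcases ih with h | h
    · right
      rw [← mul_assoc]
      exact H.mul_mem (h3 x y hxy).1 h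
    · left
      have : swap x y * f = (swap x y * swap u v) * (swap u v * f) := by
        rw [mul_assoc, ← mul_assoc (swap u v) (swap u v) f, swap_mul_self, one_mul]
      rw [this]
      exact H.mul_mem (h3 x y hxy).2 h

/-- If two permutations commute with a cycle factor of `σ`, they commute on its support. -/
theorem comm_on_support {σ c k l : Perm α} (hc : c ∈ σ.cycleFactorsFinset) (hk : k * c = c * k)
    (hl : l * c = c * l) {x : α} (hx : x ∈ c.support) :
    k (l x) = l (k x) ∧ k x ∈ c.support ∧ l x ∈ c.support := by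
  obtain ⟨h1, h2⟩ := (commute_iff_of_mem_cycleFactorsFinset hc).mp (show Commute k c from hk)
  obtain ⟨h3, h4⟩ := (commute_iff_of_mem_cycleFactorsFinset hc).mp (show Commute l c from hl)
  refine ⟨?_, (h1 x).mpr hx, (h3 x).mpr hx⟩
  obtain ⟨m, hm⟩ := Subgroup.mem_zpowers_iff.mp h2
  obtain ⟨n, hn⟩ := Subgroup.mem_zpowers_iff.mp h4
  have h5 : k.subtypePerm h1 * l.subtypePerm h3 = l.subtypePerm h3 * k.subtypePerm h1 := by
    rw [← hm, ← hn, ← zpow_add, ← zpow_add, add_comm]
  have h6 := DFunLike.congr_fun h5 ⟨x, hx⟩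
  exact congrArg Subtype.val h6

/-- If `σ ^ p = 1`, each cycle factor `c` of `σ` satisfies `c ^ p = 1`. -/
theorem factor_pow {p : ℕ} {σ c : Perm α} (hc : c ∈ σ.cycleFactorsFinset) (hσ : σ ^ p = 1) : c ^ p = 1 := by
  have h1 : ∀ n : ℕ, ∀ x ∈ c.support, (c ^ n) x = (σ ^ n) x := by
    intro n
    induction n with
    | zero => intro x _; rfl
    | succ n ih =>
      intro x hx
      rw [pow_succ, pow_succ, Perm.mul_apply, Perm.mul_apply, (mem_cycleFactorsFinset_iff.mp hc).2 x hx]
      apply ih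
      exact (mem_cycleFactorsFinset_support hc x).mpr hx
  ext x
  by_cases hx : x ∈ c.support
  · rw [h1 p x hx, hσ]
  · rw [Perm.notMem_support] at hx
    rw [Perm.one_apply]
    exact Perm.pow_apply_eq_self_of_apply_eq_self hx p

theorem even_of_pow {p : ℕ} (hp : Odd p) {c : Perm α} (hc : c ^ p = 1) : c ∈ alternatingGroup α := by
  rw [mem_alternatingGroup]
  have h1 : (sign c) ^ p = 1 := by rw [← map_pow, hc, map_one]
  rcases Int.units_eq_one_or (sign c) with h | h
  · exact h
  · rw [h, hp.neg_one_pow] at h1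
    exact absurd h1 (by decide)

/-- `(u v)(u w)` moves only `u, v, w`. -/
theorem swap_mul_swap_apply {u v w y : α} (h1 : y ≠ u) (h2 : y ≠ v) (h3 : y ≠ w) :
    (swap u v * swap u w) y = y := by
  rw [Perm.mul_apply, swap_apply_of_ne_of_ne h1 h3, swap_apply_of_ne_of_ne h1 h2]

end Perm

section Small

variable {β : Type*} [Fintype β] [DecidableEq β]

/-- A perfect subgroup of an alternating group of degree at most 4 is trivial. -/
theorem perfect_small (hβ : Nat.card β ≤ 4) (L : Subgroup (alternatingGroup β)) (hL : ⁅L, L⁆ = L) : L = ⊥ := by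
  rcases Nat.lt_or_ge (Nat.card β) 4 with h | h
  · have : IsMulCommutative (alternatingGroup β) :=
      alternatingGroup.isMulCommutative_of_card_le_three (by omega)
    rw [← hL, Subgroup.commutator_eq_bot_iff_le_centralizer]
    intro x _
    rw [Subgroup.mem_centralizer_iff]
    intro y _
    exact IsMulCommutative.is_comm.comm y x
  · have h4 : Nat.card β = 4 := by omega
    have h5 : L ≤ alternatingGroup.kleinFour β := by
      rw [alternatingGroup.kleinFour_eq_commutator h4, ← hL]
      exact Subgroup.commutator_mono le_top le_top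
    have := alternatingGroup.kleinFour_isKleinFour (α := β) h4
    have : IsMulCommutative (alternatingGroup.kleinFour β) := IsKleinFour.isMulCommutative
    rw [← hL, Subgroup.commutator_eq_bot_iff_le_centralizer]
    intro x hx
    rw [Subgroup.mem_centralizer_iff]
    intro y hy
    exact congrArg Subtype.val
      (IsMulCommutative.is_comm.comm (⟨y, h5 hy⟩ : alternatingGroup.kleinFour β) ⟨x, h5 hx⟩)

end Small

section Main

variable {α : Type*} [Fintype α] [DecidableEq α] {p : ℕ} [hp : Fact p.Prime]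

/-- The even permutations with support inside the fixed points of `σ`. -/
noncomputable abbrev fixAlt (σ : Perm α) : Subgroup (alternatingGroup α) :=
  (alternatingGroup.ofSubtype (σ.supportᶜ)).range

theorem mem_fixAlt {σ : Perm α} {k : alternatingGroup α} :
    k ∈ fixAlt σ ↔ ∀ x, σ x ≠ x → (k : Perm α) x = x := by
  rw [alternatingGroup.mem_range_ofSubtype_iff]
  constructor
  · intro h x hx
    by_contra hk
    have := h (Perm.mem_support.mpr hk)
    rw [Finset.mem_compl, Perm.mem_support] at this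
    exact this hx
  · intro h x hx
    rw [Finset.mem_compl, Perm.mem_support]
    intro h2
    exact (Perm.mem_support.mp hx) (h x h2)

variable {M K A L : Subgroup (alternatingGroup α)}

/-- Each cycle factor of a non-identity `a ∈ A`, as an element of the alternating group. -/
theorem factor_mem (hodd : Odd p) (P : Pair p M K A L) {a : alternatingGroup α} (ha : a ∈ A) {c : Perm α}
    (hc : c ∈ (a : Perm α).cycleFactorsFinset) : c ∈ alternatingGroup α := by
  refine even_of_pow hodd (factor_pow hc ?_)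
  have := P.pow a ha
  simpa only [_root_.SubmonoidClass.coe_pow, _root_.OneMemClass.coe_one] using congrArg Subtype.val this

theorem L_fix (hodd : Odd p) (P : Pair p M K A L) {a : alternatingGroup α} (ha : a ∈ A) (ha1 : a ≠ 1) :
    ∀ l ∈ L, ∀ x, (a : Perm α) x ≠ x → (l : Perm α) x = x := by
  classical
  -- the group generated by the cycle factors
  let S : Set (alternatingGroup α) := {c | (c : Perm α) ∈ (a : Perm α).cycleFactorsFinset}
  let V : Subgroup (alternatingGroup α) := Subgroup.closure S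
  have hSa : ∀ c ∈ S, c * a = a * c := by
    intro c hc
    apply Subtype.ext
    exact (self_mem_cycle_factors_commute hc).eq
  have hSM : ∀ c ∈ S, c ∈ M := by
    intro c hc
    apply P.cent_A ha ha1
    rw [Subgroup.mem_centralizer_singleton_iff]
    exact hSa c hc
  have hScomm : ∀ c ∈ S, ∀ d ∈ S, c * d = d * c := by
    intro c hc d hd
    by_cases h : (c : Perm α) = d
    · rw [Subtype.ext h]
    · apply Subtype.ext
      exact ((cycleFactorsFinset_pairwise_disjoint (a : Perm α)) hc hd h).commute.eq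
  have hVcomm := Subgroup.isMulCommutative_closure hScomm
  have hVc : ∀ c ∈ V, ∀ d ∈ V, c * d = d * c := fun c hc d hd =>
    congrArg Subtype.val (hVcomm.is_comm.comm (⟨c, hc⟩ : V) ⟨d, hd⟩)
  have hVpow : ∀ c ∈ V, c ^ p = 1 := by
    intro c hc
    induction hc using Subgroup.closure_induction with
    | mem x hx =>
      apply Subtype.ext
      have h1 : ((a : Perm α)) ^ p = 1 := by simpa only [_root_.SubmonoidClass.coe_pow, _root_.OneMemClass.coe_one] using congrArg Subtype.val (P.pow a ha)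
      simpa only [_root_.SubmonoidClass.coe_pow, _root_.OneMemClass.coe_one] using factor_pow hx h1
    | one => exact one_pow p
    | mul x y hx hy h1 h2 =>
      rw [(show Commute x y from hVc x hx y hy).mul_pow, h1, h2, one_mul]
    | inv x hx h1 => rw [inv_pow, h1, inv_one]
  have hVp : IsPGroup p V := by
    rintro ⟨c, hc⟩
    exact ⟨1, Subtype.ext (by simpa only [_root_.pow_one, _root_.SubmonoidClass.mk_pow, _root_.OneMemClass.coe_one] using hVpow c hc)⟩
  have hVM : V ≤ M := (Subgroup.closure_le _).mpr hSM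
  have hconj : ∀ l ∈ L, ∀ c ∈ S, l * c * l⁻¹ ∈ S := by
    intro l hl c hc
    change ((l * c * l⁻¹ : alternatingGroup α) : Perm α) ∈ (a : Perm α).cycleFactorsFinset
    have h1 : (l : Perm α) * (a : Perm α) * (l : Perm α)⁻¹ = a := by
      have h2 : l * a * l⁻¹ = a := by
        rw [← P.AL a ha l hl]; group
      simpa only [_root_.Subgroup.coe_mul, _root_.InvMemClass.coe_inv] using congrArg Subtype.val h2
    have h3 := (mem_cycleFactorsFinset_conj (a : Perm α) (l : Perm α) (c : Perm α)).mpr hc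
    rw [h1] at h3
    exact h3
  have hnorm : ∀ l ∈ L, ∀ v ∈ V, l * v * l⁻¹ ∈ V := by
    intro l hl v hv
    induction hv using Subgroup.closure_induction with
    | mem x hx => exact Subgroup.subset_closure (hconj l hl x hx)
    | one => simpa using V.one_mem
    | mul x y _ _ h1 h2 =>
      have : l * (x * y) * l⁻¹ = (l * x * l⁻¹) * (l * y * l⁻¹) := by group
      rw [this]; exact V.mul_mem h1 h2
    | inv x _ h1 =>
      have : l * x⁻¹ * l⁻¹ = (l * x * l⁻¹)⁻¹ := by group
      rw [this]; exact V.inv_mem h1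
  have hLV := P.comm_pgroup hVM hVp hnorm
  -- pointwise
  intro l hl x hx
  let c : Perm α := (a : Perm α).cycleOf x
  have hc : c ∈ (a : Perm α).cycleFactorsFinset := by
    rw [cycleOf_mem_cycleFactorsFinset_iff, Perm.mem_support]
    exact hx
  have hcA : c ∈ alternatingGroup α := factor_mem hodd P ha hc
  have hxc : x ∈ c.support := by
    rw [mem_support_cycleOf_iff]
    exact ⟨SameCycle.refl _ _, Perm.mem_support.mpr hx⟩
  have hlc : ∀ k ∈ L, (k : Perm α) * c = c * k := by
    intro k hk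
    have := hLV k hk ⟨c, hcA⟩ (Subgroup.subset_closure hc)
    simpa only [_root_.Subgroup.coe_mul] using congrArg Subtype.val this
  -- all commutators fix `c.support` pointwise
  have hLle : L ≤ (MulAction.stabilizer (Perm α) x).comap (alternatingGroup α).subtype := by
    calc L = ⁅L, L⁆ := P.Lper.symm
      _ ≤ _ := by
        rw [Subgroup.commutator_le]
        intro l₁ h₁ l₂ h₂
        rw [Subgroup.mem_comap, MulAction.mem_stabilizer_iff]
        change (((l₁ * l₂ * l₁⁻¹ * l₂⁻¹ : alternatingGroup α)) : Perm α) x = x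
        have h3 : (l₁ * l₂ * l₁⁻¹ * l₂⁻¹ : alternatingGroup α) = (l₁ * l₂) * (l₂ * l₁)⁻¹ := by group
        rw [h3]
        let y : α := ((l₂ * l₁ : alternatingGroup α) : Perm α)⁻¹ x
        have hy1 : ((l₂ * l₁ : alternatingGroup α) : Perm α) y = x := by simp [y]
        have hyc : y ∈ c.support := by
          have h5 : (((l₂ * l₁)⁻¹ : alternatingGroup α) : Perm α) * c = c * (((l₂ * l₁)⁻¹ : alternatingGroup α) : Perm α) :=
            hlc _ (L.inv_mem (L.mul_mem h₂ h₁))
          exact (comm_on_support hc h5 h5 hxc).2.1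
        have h6 := (comm_on_support hc (hlc l₁ h₁) (hlc l₂ h₂) hyc).1
        calc (((l₁ * l₂) * (l₂ * l₁)⁻¹ : alternatingGroup α) : Perm α) x
            = (l₁ : Perm α) ((l₂ : Perm α) y) := rfl
          _ = (l₂ : Perm α) ((l₁ : Perm α) y) := h6
          _ = x := hy1
  have := hLle hl
  rw [Subgroup.mem_comap, MulAction.mem_stabilizer_iff] at this
  exact this

theorem L_le_fixAlt (hodd : Odd p) (P : Pair p M K A L) {a : alternatingGroup α} (ha : a ∈ A) (ha1 : a ≠ 1) :
    L ≤ fixAlt (a : Perm α) := fun l hl => mem_fixAlt.mpr fun x hx => L_fix hodd P ha ha1 l hl x hx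

theorem five_le (hodd : Odd p) (P : Pair p M K A L) {a : alternatingGroup α} (ha : a ∈ A) (ha1 : a ≠ 1) :
    5 ≤ Nat.card ↥((a : Perm α).supportᶜ) := by
  by_contra hlt
  have h4 : Nat.card ↥((a : Perm α).supportᶜ) ≤ 4 := by omega
  have hle := L_le_fixAlt hodd P ha ha1
  let f := alternatingGroup.ofSubtype ((a : Perm α).supportᶜ)
  let L' : Subgroup (alternatingGroup ↥((a : Perm α).supportᶜ)) := L.comap f
  have hmap : L'.map f = L := Subgroup.map_comap_eq_self hle
  have hper : ⁅L', L'⁆ = L' := by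
    apply Subgroup.map_injective (f := f) alternatingGroup.ofSubtype_injective
    rw [Subgroup.map_commutator, hmap, P.Lper]
  have h5 := perfect_small h4 L' hper
  have h6 : L = ⊥ := by rw [← hmap, h5, Subgroup.map_bot]
  apply P.not_le_core
  rw [h6]
  exact bot_le

theorem simple_fixAlt (hodd : Odd p) (P : Pair p M K A L) {a : alternatingGroup α} (ha : a ∈ A) (ha1 : a ≠ 1) :
    IsSimpleGroup ↥(fixAlt (a : Perm α)) := by
  have := alternatingGroup.isSimpleGroup (five_le hodd P ha ha1)
  exact (MonoidHom.ofInjective (alternatingGroup.ofSubtype_injective (s := (a : Perm α).supportᶜ))).symm.isSimpleGroup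

theorem fixAlt_le (P : Pair p M K A L) {a : alternatingGroup α} (ha : a ∈ A) (ha1 : a ≠ 1) :
    fixAlt (a : Perm α) ≤ M := by
  intro k hk
  apply P.cent_A ha ha1
  have h1 : (k : Perm α) * (a : Perm α) = (a : Perm α) * k := by
    rw [mem_fixAlt] at hk
    apply Commute.eq
    apply Disjoint.commute
    intro x
    by_cases hx : (a : Perm α) x = x
    · exact Or.inr hx
    · exact Or.inl (hk x hx)
  have h2 : k * a = a * k := Subtype.ext h1
  rw [Subgroup.mem_centralizer_singleton_iff]
  exact h2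

/-- `A` fixes every point fixed by some non-identity element of `A`. -/
theorem A_fix (hodd : Odd p) (P : Pair p M K A L) {a : alternatingGroup α} (ha : a ∈ A) (ha1 : a ≠ 1)
    {b : alternatingGroup α} (hb : b ∈ A) {y : α} (hy : (a : Perm α) y = y) : (b : Perm α) y = y := by
  by_contra hby
  have hab : ∀ x, (b : Perm α) ((a : Perm α) x) = (a : Perm α) ((b : Perm α) x) := by
    intro x
    have := congrArg Subtype.val (P.comm b hb a ha)
    exact DFunLike.congr_fun this x
  have hJ := P.A_cent (fixAlt_le P ha ha1) (L_le_fixAlt hodd P ha ha1) (simple_fixAlt hodd P ha ha1) hb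
    (fun j hj => by
      rw [mem_fixAlt] at hj ⊢
      intro x hx
      have h1 : (a : Perm α) (((b : Perm α))⁻¹ x) ≠ ((b : Perm α))⁻¹ x := by
        intro h2
        apply hx
        have h3 := congrArg (b : Perm α) h2
        rw [hab] at h3
        simpa using h3
      have h4 := hj _ h1
      change (b : Perm α) ((j : Perm α) (((b : Perm α))⁻¹ x)) = x
      rw [h4]
      simp)
  -- choose two further fixed points of `a`
  have h5 := five_le hodd P ha ha1
  let s : Finset α := (a : Perm α).supportᶜ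
  have hs : 5 ≤ s.card := by
    have : Nat.card ↥s = s.card := by simp only [_root_.Nat.card_eq_fintype_card, _root_.Fintype.card_coe]
    rw [← this]; exact h5
  have hcard2 : 2 < (s \ {y, (b : Perm α) y}).card := by
    have h6 : s.card - ({y, (b : Perm α) y} : Finset α).card ≤ (s \ {y, (b : Perm α) y}).card :=
      Finset.le_card_sdiff _ _
    have h7 : ({y, (b : Perm α) y} : Finset α).card ≤ 2 := Finset.card_le_two
    omega
  obtain ⟨u, v, w, hu, hv, hw, huv, huw, hvw⟩ := Finset.two_lt_card_iff.mp hcard2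
  simp only [Finset.mem_sdiff, Finset.mem_insert, Finset.mem_singleton, not_or] at hu hv
  have hus : (a : Perm α) u = u := by
    have := hu.1
    rwa [Finset.mem_compl, Perm.notMem_support] at this
  have hvs : (a : Perm α) v = v := by
    have := hv.1
    rwa [Finset.mem_compl, Perm.notMem_support] at this
  let t : Perm α := swap y u * swap y v
  have htA : t ∈ alternatingGroup α := mul_mem_alternatingGroup_of_isSwap
    ⟨y, u, fun h => hu.2.1 h.symm, rfl⟩ ⟨y, v, fun h => hv.2.1 h.symm, rfl⟩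
  have ht : (⟨t, htA⟩ : alternatingGroup α) ∈ fixAlt (a : Perm α) := by
    rw [mem_fixAlt]
    intro x hx
    apply swap_mul_swap_apply
    · rintro rfl; exact hx hy
    · rintro rfl; exact hx hus
    · rintro rfl; exact hx hvs
  have h8 := congrArg Subtype.val (hJ _ ht)
  have h9 := DFunLike.congr_fun h8 v
  -- `b (t v) = t (b v)`; evaluate at `y` instead
  have h10 := DFunLike.congr_fun h8 y
  have h11 : (b : Perm α) (t y) = t ((b : Perm α) y) := h10
  have h12 : t ((b : Perm α) y) = (b : Perm α) y :=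
    swap_mul_swap_apply hby (fun h => hu.2.2 h.symm) (fun h => hv.2.2 h.symm)
  rw [h12] at h11
  have h13 : t y = y := (b : Perm α).injective h11
  have h14 : t y = v := by
    change swap y u (swap y v y) = v
    rw [swap_apply_left, swap_apply_of_ne_of_ne hv.2.1 (fun h => huv h.symm)]
  exact hv.2.1 (h14.symm.trans h13)

theorem noPre (hp2 : p ≠ 2) (h : IsPreuniquenessSubgroup p M K)
    (h2 : PRankAtLeast p 2 ↥(centralizerModCore p M K)) : False := by
  classical
  obtain ⟨A, L, P⟩ := exists_pair h h2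
  have hodd : Odd p := hp.out.odd_of_ne_two hp2
  have hcard := P.card
  -- `a ≠ 1` in `A`
  have hA1 : 1 < Nat.card A := lt_of_lt_of_le (Nat.one_lt_pow two_ne_zero hp.out.one_lt) hcard
  obtain ⟨⟨a, ha⟩, ha1'⟩ : ∃ a : A, a ≠ 1 := by
    have := Finite.one_lt_card_iff_nontrivial.mp hA1
    exact exists_ne 1
  have ha1 : a ≠ 1 := fun h => ha1' (Subtype.ext h)
  obtain ⟨b, hb, hba⟩ : ∃ b ∈ A, b ∉ Subgroup.zpowers a := by
    by_contra hcon
    push Not at hcon
    have h1 : Nat.card A ≤ Nat.card (Subgroup.zpowers a) := Subgroup.card_le_of_le hcon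
    rw [Nat.card_zpowers, orderOf_eq_prime (P.pow a ha) ha1] at h1
    have h3 : p < p ^ 2 := by
      calc p = p ^ 1 := (pow_one p).symm
        _ < p ^ 2 := Nat.pow_lt_pow_right hp.out.one_lt (by norm_num)
    omega
  -- a moved point
  obtain ⟨x, hx⟩ : ∃ x, (a : Perm α) x ≠ x := by
    by_contra hcon
    push Not at hcon
    exact ha1 (Subtype.ext (Perm.ext hcon))
  let c₁ : Perm α := (a : Perm α).cycleOf x
  have hbx : (a : Perm α) ((b : Perm α) x) ≠ (b : Perm α) x := by
    intro h3
    apply hx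
    have h4 := DFunLike.congr_fun (congrArg Subtype.val (P.comm b hb a ha)) x
    have h5 : (b : Perm α) ((a : Perm α) x) = (a : Perm α) ((b : Perm α) x) := h4
    rw [h3] at h5
    exact (b : Perm α).injective h5
  let c₂ : Perm α := (a : Perm α).cycleOf ((b : Perm α) x)
  have hc₁ : c₁ ∈ (a : Perm α).cycleFactorsFinset := by
    rw [cycleOf_mem_cycleFactorsFinset_iff, Perm.mem_support]; exact hx
  have hc₂ : c₂ ∈ (a : Perm α).cycleFactorsFinset := by
    rw [cycleOf_mem_cycleFactorsFinset_iff, Perm.mem_support]; exact hbx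
  -- they are disjoint
  have hne : ¬ SameCycle (a : Perm α) x ((b : Perm α) x) := by
    rintro ⟨i, hi⟩
    let d : alternatingGroup α := b⁻¹ * a ^ i
    have hd : d ∈ A := A.mul_mem (A.inv_mem hb) (A.zpow_mem ha i)
    have hd1 : d ≠ 1 := by
      intro h3
      apply hba
      have : b = a ^ i := by
        have := congrArg (fun z => b * z) h3
        simpa only [d, _root_.mul_one, _root_.mul_inv_cancel_left] using this.symm
      rw [this]
      exact Subgroup.zpow_mem_zpowers a i
    have hdx : (d : Perm α) x = x := by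
      change ((b : Perm α))⁻¹ (((a : Perm α) ^ i) x) = x
      rw [hi]
      simp
    exact hx (A_fix hodd P hd hd1 ha hdx)
  have hdisj : ∀ z, c₁ z = z ∨ c₂ z = z := by
    intro z
    by_contra hcon
    push Not at hcon
    have h3 : z ∈ c₁.support := Perm.mem_support.mpr hcon.1
    have h4 : z ∈ c₂.support := Perm.mem_support.mpr hcon.2
    rw [mem_support_cycleOf_iff] at h3 h4
    exact hne (h3.1.trans h4.1.symm)
  -- centralisers of the two cycles lie in `M`
  have hcent : ∀ c : Perm α, ∀ hc : c ∈ (a : Perm α).cycleFactorsFinset,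
      Subgroup.centralizer ({(⟨c, factor_mem hodd P ha hc⟩ : alternatingGroup α)} : Set (alternatingGroup α)) ≤ M := by
    intro c hc
    have hcyc := (mem_cycleFactorsFinset_iff.mp hc).1
    have hcp : c ^ p = 1 := factor_pow hc (by simpa only [_root_.SubmonoidClass.coe_pow, _root_.OneMemClass.coe_one] using congrArg Subtype.val (P.pow a ha))
    have hcomm : (⟨c, factor_mem hodd P ha hc⟩ : alternatingGroup α) * a = a * ⟨c, factor_mem hodd P ha hc⟩ :=
      Subtype.ext (self_mem_cycle_factors_commute hc).eq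
    refine P.cent_of_cent (fixAlt_le P ha ha1) (L_le_fixAlt hodd P ha ha1) (simple_fixAlt hodd P ha ha1) ?_ ?_ ?_
    · apply P.cent_A ha ha1
      rw [Subgroup.mem_centralizer_singleton_iff]
      exact hcomm
    · apply orderOf_eq_prime
      · exact Subtype.ext (by simpa only [_root_.SubmonoidClass.mk_pow, _root_.OneMemClass.coe_one] using hcp)
      · intro h3
        exact hcyc.ne_one (congrArg Subtype.val h3)
    · intro j hj
      apply Subtype.ext
      rw [mem_fixAlt] at hj
      apply Commute.eq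
      apply Disjoint.commute
      intro z
      by_cases hz : z ∈ c.support
      · right
        exact hj z (Perm.mem_support.mp (mem_cycleFactorsFinset_support_le hc hz))
      · left
        exact Perm.notMem_support.mp hz
  -- two fixed points of `a`
  have h5 := five_le hodd P ha ha1
  let s : Finset α := (a : Perm α).supportᶜ
  have hs : 5 ≤ s.card := by
    have : Nat.card ↥s = s.card := by simp only [_root_.Nat.card_eq_fintype_card, _root_.Fintype.card_coe]
    rw [← this]; exact h5
  obtain ⟨u, v, w0, hu, hv, hw0, huv, -, -⟩ := Finset.two_lt_card_iff.mp (show 2 < s.card by omega)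
  rw [Finset.mem_compl, Perm.notMem_support] at hu hv
  let H : Subgroup (Perm α) := M.map (alternatingGroup α).subtype
  have hfixc : ∀ c ∈ (a : Perm α).cycleFactorsFinset, ∀ z, (a : Perm α) z = z → c z = z := by
    intro c hc z hz
    by_contra h6
    exact (Perm.mem_support.mp (mem_cycleFactorsFinset_support_le hc (Perm.mem_support.mpr h6))) hz
  have hmem : ∀ w, w ≠ u → swap u v * swap u w ∈ H := by
    intro w hw
    have htA : swap u v * swap u w ∈ alternatingGroup α := mul_mem_alternatingGroup_of_isSwap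
      ⟨u, v, huv, rfl⟩ ⟨u, w, hw.symm, rfl⟩
    have key : ∀ c ∈ (a : Perm α).cycleFactorsFinset, c w = w →
        (⟨swap u v * swap u w, htA⟩ : alternatingGroup α) ∈ M := by
      intro c hc hcw
      apply hcent c hc
      have h7 : (swap u v * swap u w) * c = c * (swap u v * swap u w) := by
        apply Commute.eq
        apply Disjoint.commute
        intro z
        by_cases hz : c z = z
        · exact Or.inr hz
        · left
          apply swap_mul_swap_apply
          · rintro rfl; exact hz (hfixc c hc _ hu)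
          · rintro rfl; exact hz (hfixc c hc _ hv)
          · rintro rfl; exact hz hcw
      have h8 : (⟨swap u v * swap u w, htA⟩ : alternatingGroup α) * ⟨c, factor_mem hodd P ha hc⟩ =
          ⟨c, factor_mem hodd P ha hc⟩ * ⟨swap u v * swap u w, htA⟩ := Subtype.ext h7
      rw [Subgroup.mem_centralizer_singleton_iff]
      exact h8
    rcases hdisj w with h9 | h9
    · exact ⟨_, key c₁ hc₁ h9, rfl⟩
    · exact ⟨_, key c₂ hc₂ h9, rfl⟩
  apply P.neTop
  rw [eq_top_iff]
  intro g _
  rcases all_even huv hmem (g : Perm α) with h10 | h10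
  · obtain ⟨m, hm, hmg⟩ := h10
    have : m = g := Subtype.ext hmg
    rwa [← this]
  · exfalso
    obtain ⟨m, hm, hmg⟩ := h10
    have h11 : swap u v * (g : Perm α) ∈ alternatingGroup α := by
      rw [← hmg]; exact m.2
    have h12 : swap u v ∈ alternatingGroup α := by
      have := (alternatingGroup α).mul_mem h11 ((alternatingGroup α).inv_mem g.2)
      simpa using this
    rw [mem_alternatingGroup, sign_swap huv] at h12
    exact absurd h12 (by decide)

end Main

end Cfsg.Agent.PreUniq.AltRow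

end
end

-- part: PreUniq/Assembly
section
set_option linter.all false

-- merged: Cfsg.Agent.PreUniq.AltNoPre
section

/-!
The row `NoPre p G` for `G` an alternating group and `p` odd.
-/

set_option autoImplicit false

namespace Cfsg.Agent.PreUniq.AltRow

open Cfsg

theorem noPre_alternating {α : Type*} [Fintype α] [DecidableEq α] {p : ℕ} (hp : p.Prime) (hp2 : p ≠ 2) :
    Cfsg.Agent.PreUniq.NoPre p ↥(alternatingGroup α) := by
  intro M K h
  have := Fact.mk hp
  exact noPre hp2 h.1 h.2.2.1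

/-- Row A_n of S1810-S1813: `p` odd, `G` alternating. -/
theorem noPre_of_mulEquiv {G : Type*} [Group G] {p n : ℕ} (hp : p.Prime) (hp2 : p ≠ 2)
    (e : G ≃* ↥(alternatingGroup (Fin n))) : Cfsg.Agent.PreUniq.NoPre p G :=
  Cfsg.Agent.PreUniq.NoPre.congr e.symm (noPre_alternating hp hp2)

end Cfsg.Agent.PreUniq.AltRow

end

-- merged: Cfsg.Agent.PreUniq.Assembly
section

/-!
# S1810 - S1813 for odd `p`: the list (helper16)

* `LieRows p r G` : the rows of the groups of Lie type in characteristic `r`;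
* `Rows p G` : all rows (except the alternating groups, which are done in `AltNoPre`);
* `Rows.stdPre` : a known simple group satisfies `StdPre p G`, `p` odd;
* `StdPre.one`, `StdPre.two`, `StdPre.std` : the conclusions of S1810, S1811, S1812, S1813.
-/

set_option autoImplicit false

namespace Cfsg.Agent.PreUniq.Assembly

open Cfsg Cfsg.Agent.PreUniq

universe u

/-- The rows of the groups of Lie type in characteristic `r ≠ p`. -/
structure LieRows (p r : ℕ) (G : Type u) [Group G] : Prop where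
  psl : IsPSLChar r G → StdPre p G
  psp : IsPSpChar r G → StdPre p G
  psu : IsPSUChar r G → StdPre p G
  omegaOdd : IsPOmegaOddChar r G → StdPre p G
  omegaPlus : IsPOmegaPlusChar r G → StdPre p G
  omegaMinus : IsPOmegaMinusChar r G → StdPre p G
  g2 : ∀ (F : Type) [Field F] [Fintype F] [CharP F r], 3 ≤ Fintype.card F → Nonempty (G ≃* Lie.chevG2.group F) →
    StdPre p G
  f4 : ∀ (F : Type) [Field F] [Fintype F] [CharP F r], Nonempty (G ≃* Lie.chevF4.group F) → StdPre p G
  e6 : ∀ (F : Type) [Field F] [Fintype F] [CharP F r], Nonempty (G ≃* Lie.chevE6.group F) → StdPre p G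
  e7 : ∀ (F : Type) [Field F] [Fintype F] [CharP F r], Nonempty (G ≃* Lie.chevE7.group F) → StdPre p G
  e8 : ∀ (F : Type) [Field F] [Fintype F] [CharP F r], Nonempty (G ≃* Lie.chevE8.group F) → StdPre p G
  twE6 : ∀ (K : Type) [Field K] [Fintype K] [CharP K r] (q : ℕ), IsPrimePow q → Fintype.card K = q ^ 2 →
    Nonempty (G ≃* Lie.twistedE6 K q) → StdPre p G
  twD4 : ∀ (K : Type) [Field K] [Fintype K] [CharP K r] (q : ℕ), IsPrimePow q → Fintype.card K = q ^ 3 →
    Nonempty (G ≃* Lie.twistedD4 K q) → StdPre p G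

/-- All rows. -/
structure Rows (p : ℕ) (G : Type u) [Group G] : Prop where
  /-- Lie type in characteristic `p` (helper83) -/
  char : IsLieTypeChar p G → StdPre p G
  /-- Lie type in characteristic `r ≠ p` -/
  cross : ∀ r : ℕ, r.Prime → r ≠ p → LieRows p r G
  suzuki : Lie.IsoSuzuki G → StdPre p G
  twF4 : Lie.Iso2F4 G → StdPre p G
  ree : p ≠ 3 → Lie.IsoRee G → StdPre p G
  tits : Lie.IsoTits G → StdPre p G
  m11 : Spor.IsoM11 G → StdPre p G
  m12 : Spor.IsoM12 G → StdPre p G
  m22 : Spor.IsoM22 G → StdPre p G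
  m23 : Spor.IsoM23 G → StdPre p G
  m24 : Spor.IsoM24 G → StdPre p G
  j1 : Spor.IsoJ1 G → StdPre p G
  j2 : Spor.IsoJ2 G → StdPre p G
  j3 : Spor.IsoJ3 G → StdPre p G
  j4 : Spor.IsoJ4 G → StdPre p G
  co1 : Spor.IsoCo1 G → StdPre p G
  co2 : Spor.IsoCo2 G → StdPre p G
  co3 : Spor.IsoCo3 G → StdPre p G
  mcl : Spor.IsoMcL G → StdPre p G
  hs : Spor.IsoHS G → StdPre p G
  suz : Spor.IsoSuz G → StdPre p G
  he : Spor.IsoHe G → StdPre p G
  ru : Spor.IsoRu G → StdPre p G
  on : Spor.IsoON G → StdPre p G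
  ly : Spor.IsoLy G → StdPre p G
  fi22 : Spor.IsoFi22 G → StdPre p G
  fi23 : Spor.IsoFi23 G → StdPre p G
  fi24 : Spor.IsoFi24' G → StdPre p G
  hn : Spor.IsoHN G → StdPre p G
  th : Spor.IsoTh G → StdPre p G
  b : Spor.IsoB G → StdPre p G
  m : Spor.IsoM G → StdPre p G

theorem exists_char (F : Type) [Field F] [Fintype F] : ∃ r : ℕ, r.Prime ∧ CharP F r := by
  obtain ⟨r, hr⟩ := CharP.exists F
  exact ⟨r, CharP.char_is_prime F r, hr⟩

variable {p : ℕ} {G : Type u} [Group G]

theorem Rows.spor (R : Rows p G) (h : IsSporadicGroup G) : StdPre p G := by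
  rcases h with h | h | h | h | h | h | h | h | h | h | h | h | h | h | h | h | h | h | h | h | h | h | h | h | h | h
  · exact R.m11 h
  · exact R.m12 h
  · exact R.m22 h
  · exact R.m23 h
  · exact R.m24 h
  · exact R.j1 h
  · exact R.j2 h
  · exact R.j3 h
  · exact R.j4 h
  · exact R.co1 h
  · exact R.co2 h
  · exact R.co3 h
  · exact R.mcl h
  · exact R.hs h
  · exact R.suz h
  · exact R.he h
  · exact R.ru h
  · exact R.on h
  · exact R.ly h
  · exact R.fi22 h
  · exact R.fi23 h
  · exact R.fi24 h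
  · exact R.hn h
  · exact R.th h
  · exact R.b h
  · exact R.m h

theorem Rows.exc (R : Rows p G) (h : IsExceptionalLieType G) : StdPre p G := by
  rcases h with h | h | h | h | h | h | h | h | h | h | h
  · obtain ⟨F, iF, iT, h3, e⟩ := h
    obtain ⟨r, hr, hF⟩ := exists_char F
    by_cases hrp : r = p
    · subst hrp
      exact R.char (Or.inr (Or.inr (Or.inr (Or.inr (Or.inr (Or.inr (Or.inl ⟨F, iF, iT, hF, Or.inl ⟨h3, e⟩⟩)))))))
    · exact (R.cross r hr hrp).g2 F h3 e
  · obtain ⟨F, iF, iT, e⟩ := h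
    obtain ⟨r, hr, hF⟩ := exists_char F
    by_cases hrp : r = p
    · subst hrp
      exact R.char (Or.inr (Or.inr (Or.inr (Or.inr (Or.inr (Or.inr (Or.inl ⟨F, iF, iT, hF, Or.inr (Or.inl e)⟩)))))))
    · exact (R.cross r hr hrp).f4 F e
  · obtain ⟨F, iF, iT, e⟩ := h
    obtain ⟨r, hr, hF⟩ := exists_char F
    by_cases hrp : r = p
    · subst hrp
      exact R.char (Or.inr (Or.inr (Or.inr (Or.inr (Or.inr (Or.inr (Or.inl ⟨F, iF, iT, hF, Or.inr (Or.inr (Or.inl e))⟩)))))))
    · exact (R.cross r hr hrp).e6 F e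
  · obtain ⟨F, iF, iT, e⟩ := h
    obtain ⟨r, hr, hF⟩ := exists_char F
    by_cases hrp : r = p
    · subst hrp
      exact R.char (Or.inr (Or.inr (Or.inr (Or.inr (Or.inr (Or.inr (Or.inl ⟨F, iF, iT, hF,
        Or.inr (Or.inr (Or.inr (Or.inl e)))⟩)))))))
    · exact (R.cross r hr hrp).e7 F e
  · obtain ⟨F, iF, iT, e⟩ := h
    obtain ⟨r, hr, hF⟩ := exists_char F
    by_cases hrp : r = p
    · subst hrp
      exact R.char (Or.inr (Or.inr (Or.inr (Or.inr (Or.inr (Or.inr (Or.inl ⟨F, iF, iT, hF,
        Or.inr (Or.inr (Or.inr (Or.inr e)))⟩)))))))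
    · exact (R.cross r hr hrp).e8 F e
  · obtain ⟨F, iF, iT, q, hq, hc, e⟩ := h
    obtain ⟨r, hr, hF⟩ := exists_char F
    by_cases hrp : r = p
    · subst hrp
      exact R.char (Or.inr (Or.inr (Or.inr (Or.inr (Or.inr (Or.inr (Or.inr (Or.inl ⟨F, iF, iT, hF, q, hq,
        Or.inl ⟨hc, e⟩⟩))))))))
    · exact (R.cross r hr hrp).twE6 F q hq hc e
  · obtain ⟨F, iF, iT, q, hq, hc, e⟩ := h
    obtain ⟨r, hr, hF⟩ := exists_char F
    by_cases hrp : r = p
    · subst hrp
      exact R.char (Or.inr (Or.inr (Or.inr (Or.inr (Or.inr (Or.inr (Or.inr (Or.inl ⟨F, iF, iT, hF, q, hq,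
        Or.inr ⟨hc, e⟩⟩))))))))
    · exact (R.cross r hr hrp).twD4 F q hq hc e
  · exact R.suzuki h
  · by_cases hp3 : p = 3
    · exact R.char (Or.inr (Or.inr (Or.inr (Or.inr (Or.inr (Or.inr (Or.inr (Or.inr (Or.inr (Or.inr ⟨hp3, h⟩))))))))))
    · exact R.ree hp3 h
  · exact R.twF4 h
  · exact R.tits h

theorem comm_of_primeCyclic {G : Type*} [Group G] (h : IsPrimeCyclic G) : IsMulCommutative G := by
  have : Fact (Nat.card G).Prime := ⟨h⟩
  have := isCyclic_of_prime_card (α := G) rfl
  exact ⟨⟨fun a b => (IsCyclic.commGroup (α := G)).mul_comm a b⟩⟩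

/-- **The list**: a known simple group satisfies `StdPre p G`, `p` odd. -/
theorem Rows.stdPre (R : Rows p G) (hp : p.Prime) (hp2 : p ≠ 2) (hna : ¬ IsMulCommutative G)
    (h : IsKnownSimple' G) : StdPre p G := by
  rcases h with h | ⟨n, hn, ⟨e⟩⟩ | h | h | h | h | h | h | h | h
  · exact absurd (comm_of_primeCyclic h) hna
  · exact (AltRow.noPre_of_mulEquiv hp hp2 e).stdPre
  · obtain ⟨F, iF, iT, n, h1, h2, e⟩ := h
    obtain ⟨r, hr, hF⟩ := exists_char F
    have key : IsPSLChar r G := ⟨F, iF, iT, hF, n, h1, h2, e⟩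
    by_cases hrp : r = p
    · subst hrp
      exact R.char (Or.inl key)
    · exact (R.cross r hr hrp).psl key
  · obtain ⟨F, iF, iT, n, h1, h2, e⟩ := h
    obtain ⟨r, hr, hF⟩ := exists_char F
    have key : IsPSpChar r G := ⟨F, iF, iT, hF, n, h1, h2, e⟩
    by_cases hrp : r = p
    · subst hrp
      exact R.char (Or.inr (Or.inl key))
    · exact (R.cross r hr hrp).psp key
  · obtain ⟨F, iF, iT, n, q, h1, h2, h3, e⟩ := h
    obtain ⟨r, hr, hF⟩ := exists_char F
    have key : IsPSUChar r G := ⟨F, iF, iT, hF, n, q, h1, h2, h3, e⟩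
    by_cases hrp : r = p
    · subst hrp
      exact R.char (Or.inr (Or.inr (Or.inl key)))
    · exact (R.cross r hr hrp).psu key
  · obtain ⟨F, iF, iT, n, h1, h2, e⟩ := h
    obtain ⟨r, hr, hF⟩ := exists_char F
    have key : IsPOmegaOddChar r G := ⟨F, iF, iT, hF, n, h1, h2, e⟩
    by_cases hrp : r = p
    · subst hrp
      exact R.char (Or.inr (Or.inr (Or.inr (Or.inl key))))
    · exact (R.cross r hr hrp).omegaOdd key
  · obtain ⟨F, iF, iT, n, h1, e⟩ := h
    obtain ⟨r, hr, hF⟩ := exists_char F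
    have key : IsPOmegaPlusChar r G := ⟨F, iF, iT, hF, n, h1, e⟩
    by_cases hrp : r = p
    · subst hrp
      exact R.char (Or.inr (Or.inr (Or.inr (Or.inr (Or.inl key)))))
    · exact (R.cross r hr hrp).omegaPlus key
  · obtain ⟨F, iF, iT, n, a, b, h1, h2, e⟩ := h
    obtain ⟨r, hr, hF⟩ := exists_char F
    have key : IsPOmegaMinusChar r G := ⟨F, iF, iT, hF, n, a, b, h1, h2, e⟩
    by_cases hrp : r = p
    · subst hrp
      exact R.char (Or.inr (Or.inr (Or.inr (Or.inr (Or.inr (Or.inl key))))))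
    · exact (R.cross r hr hrp).omegaMinus key
  · exact R.exc h
  · exact R.spor h

/-! ### the conclusions -/

variable {M K : Subgroup G}

theorem one_of (h : StdPre p G) (hH : PreuniquenessHypothesis p M K) (h1 : ControlsRankOneFusion p M K) : False :=
  (h M K hH).2.1 h1

theorem two_of (h : StdPre p G) (hH : PreuniquenessHypothesis p M K) (h1 : ControlsRankTwoFusion p M K) : False :=
  (h M K hH).2.2 h1

theorem std_of (h : StdPre p G) (hH : PreuniquenessHypothesis p M K) : IsStandardWrt M K := (h M K hH).1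

end Cfsg.Agent.PreUniq.Assembly

end
end
end
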