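import Cfsg.Agent.KFacts.FiTF.QuasiBInst_mg_m3
import Cfsg.Agent.KFacts.RgdLieCharP
import Cfsg.Agent.LThreeFi22.Ctx
import Cfsg.Agent.Lib.Cores
import Cfsg.Agent.CpAut.Base
import Cfsg.Agent.H341.ThreeList_m3
import Cfsg.Agent.LThreeFi24.Twin
import Cfsg.Agent.OddHalf.D4.Spor.FiTF_m3
import Cfsg.Agent.FastGrp
import Cfsg.Agent.Prune
set_option linter.all false
prune_inst 0x7ffcfefb6ffcbddfffff7e7ffffddffffdfdffffffdffbfbfffffbffffff7befffedfbafffecd8fffef7e2be30f87b53fbffeeffef6fdd7ffffd5ff45fffff9ffffebfad71f6bc3e1ffe7ffffbfb7fce7f3fffffffffffffffffffffffffffffffffffffffff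
open scoped Cfsg.Agent.FastGrp

-- merged: Cfsg.Agent.PreUniq.Fi24Z
section

/-!
# `Fi24'`: the centralizer of the 2-central involution `z`

`E` the even products of the transpositions commuting with `z`, `R = O₂(C(z))`, `Zc` the elements of `E` central modulo
`R`. `relIndex_le` : `|Zc : R| ≤ 3`; `simple` : `E / Zc` is simple.
-/

set_option autoImplicit false
set_option linter.unusedSectionVars false

namespace Cfsg.Agent.PreUniq.FiTF.Z

open Cfsg Cfsg.Spor Subgroup Cfsg.Agent.KFacts.FiTF Cfsg.Agent.KFacts.FiTF.Defs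
open Cfsg.Agent.R08.FiTwentyFour (L)
open Cfsg.Agent.R08.TetTwo (IsTet Mate)
open Cfsg.Agent.KFacts.FiTF.QuasiA (Fixes)
open scoped commutatorElement

/-- normal subgroups of `E` containing `R` -/
theorem dich (N : Subgroup Spor.Fi24) (hN : N ≤ E) (hR : R ≤ N) (hn : ∀ e ∈ E, ∀ n ∈ N, e * n * e⁻¹ ∈ N) :
    (∀ n ∈ N, Fixes n) ∨ N = E := by
  have : Finite Spor.Fi24 := Cfsg.Agent.R08.FiTwentyFour.finite_Fi24
  exact (QuasiBInst.hyp FixZ.tran FixZ.ncard_Dz Order.card (Cent.cent FixZ.tran) (PerfE.perf FixZ.tran)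
    (fun M h1 h2 h3 => QuasiA.dichW h2 h3 FixZ.tran SubOrb.quasi1 SubOrb.quasi2 h1)).dich_E hN hR hn

theorem R_norm {g : Spor.Fi24} (hg : g * z = z * g) {r : Spor.Fi24} (hr : r ∈ R) : g * r * g⁻¹ ∈ R :=
  frame.norm g hg r hr

theorem E_z {g : Spor.Fi24} (hg : g ∈ E) : g * z = z * g := frame.Ez g hg

theorem z_comm_inv {g : Spor.Fi24} (hg : g * z = z * g) : g⁻¹ * z = z * g⁻¹ :=
  ((show Commute g z from hg).inv_left).eq

/-- the elements of `E` central modulo `R` -/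
def Zc : Subgroup Spor.Fi24 where
  carrier := {g | g ∈ E ∧ ∀ y ∈ E, ⁅g, y⁆ ∈ R}
  one_mem' := ⟨E.one_mem, fun y _ => by rw [commutatorElement_one_left]; exact R.one_mem⟩
  mul_mem' := by
    rintro a b ⟨ha, ha'⟩ ⟨hb, hb'⟩
    refine ⟨mul_mem ha hb, fun y hy => ?_⟩
    have e1 : ⁅a * b, y⁆ = (a * ⁅b, y⁆ * a⁻¹) * ⁅a, y⁆ := by
      simp only [commutatorElement_def]; group
    rw [e1]
    exact mul_mem (R_norm (E_z ha) (hb' y hy)) (ha' y hy)
  inv_mem' := by
    rintro a ⟨ha, ha'⟩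
    refine ⟨inv_mem ha, fun y hy => ?_⟩
    have e1 : ⁅a⁻¹, y⁆ = a⁻¹ * (⁅a, y⁆)⁻¹ * a⁻¹⁻¹ := by
      simp only [commutatorElement_def]; group
    rw [e1]
    exact R_norm (E_z (inv_mem ha)) (inv_mem (ha' y hy))

theorem mem_Zc {g : Spor.Fi24} : g ∈ Zc ↔ g ∈ E ∧ ∀ y ∈ E, ⁅g, y⁆ ∈ R := Iff.rfl

theorem Zc_le : Zc ≤ E := fun _ h => h.1

theorem R_le_Zc : R ≤ Zc := fun r hr => ⟨frame.RE hr, fun y hy => by
  rw [commutatorElement_def]
  have e1 : r * y * r⁻¹ * y⁻¹ = r * (y * r⁻¹ * y⁻¹) := by group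
  rw [e1]
  exact mul_mem hr (R_norm (E_z hy) (inv_mem hr))⟩

theorem Zc_norm {g : Spor.Fi24} (hg : g * z = z * g) {n : Spor.Fi24} (hn : n ∈ Zc) : g * n * g⁻¹ ∈ Zc := by
  refine ⟨PerfE.conj_E hg n hn.1, fun y hy => ?_⟩
  have e1 : ⁅g * n * g⁻¹, y⁆ = g * ⁅n, g⁻¹ * y * g⁻¹⁻¹⁆ * g⁻¹ := by
    simp only [commutatorElement_def]; group
  rw [e1]
  exact R_norm hg (hn.2 _ (PerfE.conj_E (z_comm_inv hg) y hy))

theorem Zc_ne : Zc ≠ E := by
  have : Finite Spor.Fi24 := Cfsg.Agent.R08.FiTwentyFour.finite_Fi24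
  intro h
  have h1 : E ≤ R := by
    conv_lhs => rw [← frame.perf]
    rw [commutator_le]
    intro a ha b hb
    rw [← h] at ha
    exact ha.2 b hb
  have h2 := card_le_of_le h1
  rw [frame.cardR] at h2
  have h3 := SheetMFi.card_E
  omega

/-- **the elements of `Zc` fix all the tetrads** -/
theorem small : ∀ n ∈ Zc, Fixes n := by
  rcases dich Zc Zc_le R_le_Zc (fun e he n hn => Zc_norm (E_z he) hn) with h | h
  · exact h
  · exact absurd h Zc_ne

theorem mem_Zc_of_fixes {n : Spor.Fi24} (hn : n ∈ E) (h : Fixes n) : n ∈ Zc :=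
  ⟨hn, fun y hy => by
    rw [commutatorElement_def]
    exact SheetMFi.fixes_R FixZ.tran h y hy⟩

/-! ### `R` is the kernel of the action on `R / ⟨z⟩` -/

theorem zz : z * z = 1 := frame.zz

theorem z_inv : (z : Spor.Fi24)⁻¹ = z := inv_eq_of_mul_eq_one_left zz

theorem Rz {r : Spor.Fi24} (hr : r ∈ R) : r * z = z * r := E_z (frame.RE hr)

/-- the elements acting trivially on `R / ⟨z⟩` -/
def Ker : Subgroup Spor.Fi24 where
  carrier := {g | g * z = z * g ∧ ∀ r ∈ R, g * r * g⁻¹ = r ∨ g * r * g⁻¹ = z * r}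
  one_mem' := ⟨by rw [one_mul, mul_one], fun r _ => Or.inl (by group)⟩
  mul_mem' := by
    rintro a b ⟨ha, ha'⟩ ⟨hb, hb'⟩
    refine ⟨by rw [mul_assoc, hb, ← mul_assoc, ha, mul_assoc], fun r hr => ?_⟩
    have e1 : a * b * r * (a * b)⁻¹ = a * (b * r * b⁻¹) * a⁻¹ := by group
    rw [e1]
    rcases hb' r hr with h | h
    · rw [h]; exact ha' r hr
    · rw [h]
      have e2 : a * (z * r) * a⁻¹ = z * (a * r * a⁻¹) := by
        rw [← mul_assoc, ha]; group
      rw [e2]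
      rcases ha' r hr with h' | h'
      · rw [h']; exact Or.inr rfl
      · rw [h', ← mul_assoc, zz, one_mul]; exact Or.inl rfl
  inv_mem' := by
    rintro a ⟨ha, ha'⟩
    refine ⟨z_comm_inv ha, fun r hr => ?_⟩
    rcases ha' _ (R_norm (z_comm_inv ha) hr) with h | h
    · left
      have e1 : a * (a⁻¹ * r * a⁻¹⁻¹) * a⁻¹ = r := by group
      rw [e1] at h
      exact h.symm
    · right
      have e1 : a * (a⁻¹ * r * a⁻¹⁻¹) * a⁻¹ = r := by group
      rw [e1] at h
      calc a⁻¹ * r * a⁻¹⁻¹ = z * (z * (a⁻¹ * r * a⁻¹⁻¹)) := by rw [← mul_assoc z z, zz, one_mul]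
        _ = z * r := by rw [← h]

theorem R_le_Ker : R ≤ Ker := fun r hr => ⟨Rz hr, fun s hs => by
  rcases frame.com r hr s hs with h | h
  · left; rw [h]; group
  · right; rw [h]; group⟩

theorem card_Ker : Nat.card Ker ≤ 8192 := by
  classical
  have : Finite Spor.Fi24 := Cfsg.Agent.R08.FiTwentyFour.finite_Fi24
  -- the commutators with the generators
  let A : Subgroup Spor.Fi24 := zpowers z
  have hA : ∀ a ∈ A, a = 1 ∨ a = z := by
    intro a ha
    obtain ⟨k, rfl⟩ := mem_zpowers_iff.1 ha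
    have hz2 : (z : Spor.Fi24) ^ (2 : ℤ) = 1 := by
      rw [show (2 : ℤ) = ((2 : ℕ) : ℤ) from rfl, zpow_natCast, pow_two, zz]
    rcases Int.even_or_odd' k with ⟨m, rfl | rfl⟩
    · left; rw [zpow_mul, hz2, one_zpow]
    · right; rw [zpow_add, zpow_mul, hz2, one_zpow, one_mul, zpow_one]
  have hcomm : ∀ g ∈ Ker, ∀ r ∈ R, ⁅g, r⁆ ∈ A := by
    intro g hg r hr
    rw [commutatorElement_def]
    rcases hg.2 r hr with h | h
    · rw [h, mul_inv_cancel]; exact A.one_mem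
    · rw [h, mul_assoc, mul_inv_cancel, mul_one]; exact mem_zpowers z
  have hAc : IsMulCommutative A := inferInstance
  let f : ↥Ker →* (Fin 12 → ↥A) :=
    { toFun := fun g j => ⟨⁅(g : Spor.Fi24), x j⁆, hcomm g g.2 _ (RQ.x_mem j.2)⟩
      map_one' := by
        funext j
        apply Subtype.ext
        exact commutatorElement_one_left _
      map_mul' := by
        intro a b
        funext j
        apply Subtype.ext
        show ⁅(a : Spor.Fi24) * b, x j⁆ = ⁅(a : Spor.Fi24), x j⁆ * ⁅(b : Spor.Fi24), x j⁆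
        have h1 : ⁅(a : Spor.Fi24) * b, x j⁆ = (a * ⁅(b : Spor.Fi24), x j⁆ * (a : Spor.Fi24)⁻¹) * ⁅(a : Spor.Fi24), x j⁆ := by
          simp only [commutatorElement_def]; group
        rw [h1]
        have h2 := hA _ (hcomm b b.2 _ (RQ.x_mem j.2))
        have h3 := hA _ (hcomm a a.2 _ (RQ.x_mem j.2))
        have h4 : (a : Spor.Fi24) * ⁅(b : Spor.Fi24), x j⁆ * (a : Spor.Fi24)⁻¹ = ⁅(b : Spor.Fi24), x j⁆ := by
          rcases h2 with h2 | h2
          · rw [h2, mul_one, mul_inv_cancel]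
          · rw [h2, a.2.1]; group
        rw [h4]
        rcases h2 with h2 | h2
        · rw [h2, one_mul, mul_one]
        · rcases h3 with h3 | h3
          · rw [h3, one_mul, mul_one]
          · rw [h2, h3] }
  have hker : ∀ g : ↥Ker, g ∈ f.ker → (g : Spor.Fi24) = 1 ∨ (g : Spor.Fi24) = z := by
    intro g hg
    apply frame.cent
    have h1 : R ≤ centralizer ({(g : Spor.Fi24)} : Set Spor.Fi24) := by
      unfold R KFacts.Codes.RG
      rw [closure_le]
      rintro r (rfl | ⟨j, hj, rfl⟩)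
      · exact mem_centralizer_singleton_iff.2 g.2.1.symm
      · have h2 : f g ⟨j, hj⟩ = 1 := congrFun (MonoidHom.mem_ker.1 hg) ⟨j, hj⟩
        have h3 : ⁅(g : Spor.Fi24), x j⁆ = 1 := congrArg Subtype.val h2
        exact mem_centralizer_singleton_iff.2 (commutatorElement_eq_one_iff_mul_comm.1 h3).symm
    exact fun r hr => (mem_centralizer_singleton_iff.1 (h1 hr)).symm
  have hk2 : Nat.card f.ker ≤ 2 := by
    let i : f.ker → Bool := fun g => decide (((g : ↥Ker) : Spor.Fi24) = 1)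
    have hi : Function.Injective i := by
      intro a b hab
      apply Subtype.ext
      apply Subtype.ext
      have h1 : ((((a : ↥Ker) : Spor.Fi24) = 1) ↔ (((b : ↥Ker) : Spor.Fi24) = 1)) := by
        have := hab
        simp only [i, decide_eq_decide] at this
        exact this
      rcases hker a a.2 with h2 | h2
      · rw [h2, (h1.1 h2)]
      · rcases hker b b.2 with h3 | h3
        · rw [h3, (h1.2 h3)]
        · rw [h2, h3]
    have := Nat.card_le_card_of_injective i hi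
    rwa [Nat.card_eq_fintype_card (α := Bool), Fintype.card_bool] at this
  have hA2 : Nat.card A = 2 := by
    rw [Nat.card_zpowers]
    exact orderOf_eq_prime (by rw [pow_two, zz]) frame.z1
  have hr : Nat.card f.range ≤ 2 ^ 12 := by
    have h1 : Nat.card f.range ≤ Nat.card (Fin 12 → ↥A) := Nat.card_le_card_of_injective _ Subtype.val_injective
    rwa [Nat.card_fun, hA2, Nat.card_eq_fintype_card (α := Fin 12), Fintype.card_fin] at h1
  have h1 : Nat.card ↥Ker = Nat.card f.ker * Nat.card f.range := by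
    rw [← Nat.card_congr (QuotientGroup.quotientKerEquivRange f).toEquiv, mul_comm]
    exact Subgroup.card_eq_card_quotient_mul_card_subgroup f.ker
  rw [h1]
  calc Nat.card f.ker * Nat.card f.range ≤ 2 * 2 ^ 12 := Nat.mul_le_mul hk2 hr
    _ = 8192 := by norm_num

theorem Ker_eq : Ker = R := by
  have : Finite Spor.Fi24 := Cfsg.Agent.R08.FiTwentyFour.finite_Fi24
  refine (eq_of_le_of_card_ge R_le_Ker ?_).symm
  rw [frame.cardR]
  exact card_Ker

/-- an element of `Zc` fixing a noncentral element of `R` modulo `z` lies in `R` -/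
theorem mem_R_of_fix {s t : Spor.Fi24} (hs : s ∈ Zc) (ht : t ∈ R) (h1 : t ≠ 1) (hz : t ≠ z)
    (h : s * t * s⁻¹ = t ∨ s * t * s⁻¹ = z * t) : s ∈ R := by
  have hsz := E_z hs.1
  let B : Subgroup Spor.Fi24 :=
    { carrier := {r | r ∈ R ∧ (s * r * s⁻¹ = r ∨ s * r * s⁻¹ = z * r)}
      one_mem' := ⟨R.one_mem, Or.inl (by group)⟩
      mul_mem' := by
        rintro a b ⟨ha, ha'⟩ ⟨hb, hb'⟩
        refine ⟨R.mul_mem ha hb, ?_⟩
        have e1 : s * (a * b) * s⁻¹ = (s * a * s⁻¹) * (s * b * s⁻¹) := by group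
        rw [e1]
        have hza : z * a = a * z := (Rz ha).symm
        rcases ha' with h | h <;> rcases hb' with h' | h' <;> rw [h, h']
        · exact Or.inl rfl
        · right; rw [← mul_assoc, ← hza, mul_assoc]
        · right; rw [mul_assoc]
        · left
          calc z * a * (z * b) = z * (a * z) * b := by group
            _ = (z * z) * (a * b) := by rw [← hza]; group
            _ = a * b := by rw [zz, one_mul]
      inv_mem' := by
        rintro a ⟨ha, ha'⟩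
        refine ⟨R.inv_mem ha, ?_⟩
        have e1 : s * a⁻¹ * s⁻¹ = (s * a * s⁻¹)⁻¹ := by group
        rw [e1]
        have hza : z * a⁻¹ = a⁻¹ * z := (Rz (R.inv_mem ha)).symm
        rcases ha' with h | h
        · left; rw [h]
        · right; rw [h, mul_inv_rev, z_inv, hza] }
  have hB : ∀ r, r ∈ B ↔ r ∈ R ∧ (s * r * s⁻¹ = r ∨ s * r * s⁻¹ = z * r) := fun _ => Iff.rfl
  have hinv : ∀ g ∈ E, ∀ b ∈ B, g * b * g⁻¹ ∈ B := by
    rintro g hg b ⟨hb, hb'⟩
    have hgz := E_z hg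
    have hgb := R_norm hgz hb
    refine ⟨hgb, ?_⟩
    -- `s g = ⁅s, g⁆ g s`
    have hc := hs.2 g hg
    have e1 : s * (g * b * g⁻¹) * s⁻¹ = ⁅s, g⁆ * (g * (s * b * s⁻¹) * g⁻¹) * ⁅s, g⁆⁻¹ := by
      simp only [commutatorElement_def]; group
    have hcz := Rz hc
    rcases hb' with h | h
    · rw [e1, h]
      have := (R_le_Ker hc).2 _ hgb
      exact this
    · have e2 : g * (z * b) * g⁻¹ = z * (g * b * g⁻¹) := by rw [← mul_assoc, hgz]; group
      rw [e1, h, e2]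
      have e3 : ⁅s, g⁆ * (z * (g * b * g⁻¹)) * ⁅s, g⁆⁻¹ = z * (⁅s, g⁆ * (g * b * g⁻¹) * ⁅s, g⁆⁻¹) := by
        rw [← mul_assoc, hcz]; group
      rw [e3]
      rcases (R_le_Ker hc).2 _ hgb with h' | h'
      · rw [h']; exact Or.inr rfl
      · rw [h', ← mul_assoc, zz, one_mul]; exact Or.inl rfl
  rcases frame.irr B (fun b hb => hb.1) hinv with h2 | h2
  · exfalso
    rcases h2 t ⟨ht, h⟩ with h3 | h3
    · exact h1 h3
    · exact hz h3
  · rw [← Ker_eq]
    refine ⟨hsz, fun r hr => ?_⟩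
    rw [← h2] at hr
    exact hr.2

/-- `|Zc : R| ≤ 3` -/
theorem card_Zc : Nat.card Zc ≤ 3 * 8192 := by
  classical
  have : Finite Spor.Fi24 := Cfsg.Agent.R08.FiTwentyFour.finite_Fi24
  obtain ⟨D, T, hDE, hzT, hTR, hT8, hfix, hin⟩ := frame.line
  obtain ⟨t, ht, ht1, htz⟩ : ∃ t ∈ T, t ≠ 1 ∧ t ≠ z := by
    by_contra hcon
    push Not at hcon
    have h1 : (T : Set Spor.Fi24) ⊆ {1, z} := by
      intro x hx
      by_cases h2 : x = 1
      · exact Or.inl h2
      · exact Or.inr (hcon x hx h2)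
    have h2 := Set.ncard_le_ncard h1 (Set.toFinite _)
    have h3 : (T : Set Spor.Fi24).ncard = 8 := hT8
    have h4 : ({1, z} : Set Spor.Fi24).ncard ≤ 2 := by
      have := Set.ncard_insert_le (1 : Spor.Fi24) {z}
      rw [Set.ncard_singleton] at this
      exact this
    omega
  have htR := hTR ht
  -- the image of `t`
  have hT : ∀ s ∈ Zc, s * t * s⁻¹ ∈ T := by
    intro s hs
    have hsz := E_z hs.1
    have hst := R_norm hsz htR
    refine hin _ hst fun d hd => ?_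
    have hdE := hDE hd
    have hdz := E_z hdE
    have hc := hs.2 d hdE
    have hcz := Rz hc
    -- `d s = ⁅s, d⁆⁻¹ s d`
    have e1 : d * (s * t * s⁻¹) * d⁻¹ = ⁅s, d⁆⁻¹ * (s * (d * t * d⁻¹) * s⁻¹) * ⁅s, d⁆⁻¹⁻¹ := by
      simp only [commutatorElement_def]; group
    have hcz' := z_comm_inv hcz
    have key := (R_le_Ker (R.inv_mem hc)).2 _ hst
    have htz' : t * z = z * t := Rz htR
    rcases hfix d hd t ht with h | h
    · rw [e1, h]
      rcases key with h' | h'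
      · exact Or.inl h'
      · right; rw [h']; exact (Rz hst).symm
    · have e2 : s * (t * z) * s⁻¹ = s * t * s⁻¹ * z := by
        calc s * (t * z) * s⁻¹ = s * t * (z * s⁻¹) := by group
          _ = s * t * (s⁻¹ * z) := by rw [z_comm_inv hsz]
          _ = _ := by group
      rw [e1, h, e2]
      have e3 : ⁅s, d⁆⁻¹ * (s * t * s⁻¹ * z) * ⁅s, d⁆⁻¹⁻¹ = (⁅s, d⁆⁻¹ * (s * t * s⁻¹) * ⁅s, d⁆⁻¹⁻¹) * z := by
        calc ⁅s, d⁆⁻¹ * (s * t * s⁻¹ * z) * ⁅s, d⁆⁻¹⁻¹ = ⁅s, d⁆⁻¹ * (s * t * s⁻¹) * (z * ⁅s, d⁆⁻¹⁻¹) := by group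
          _ = ⁅s, d⁆⁻¹ * (s * t * s⁻¹) * (⁅s, d⁆⁻¹⁻¹ * z) := by rw [z_comm_inv hcz']
          _ = _ := by group
      rw [e3]
      rcases key with h' | h'
      · rw [h']; exact Or.inr rfl
      · left
        rw [h']
        calc z * (s * t * s⁻¹) * z = z * ((s * t * s⁻¹) * z) := by group
          _ = z * (z * (s * t * s⁻¹)) := by rw [Rz hst]
          _ = s * t * s⁻¹ := by rw [← mul_assoc, zz, one_mul]
  have hne : ∀ s ∈ Zc, s * t * s⁻¹ ≠ 1 ∧ s * t * s⁻¹ ≠ z := by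
    intro s hs
    have hsz := E_z hs.1
    constructor
    · intro h
      apply ht1
      calc t = s⁻¹ * (s * t * s⁻¹) * s := by group
        _ = 1 := by rw [h]; group
    · intro h
      apply htz
      calc t = s⁻¹ * (s * t * s⁻¹) * s := by group
        _ = s⁻¹ * (z * s) := by rw [h]; group
        _ = z := by rw [← hsz]; group
  -- `T / ⟨z⟩`
  have hnor : ((zpowers z).subgroupOf T).Normal := by
    refine ⟨fun n hn g => ?_⟩
    rw [mem_subgroupOf] at hn ⊢
    have hgz := Rz (hTR g.2)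
    have h1 : Commute (g : Spor.Fi24) (n : Spor.Fi24) := by
      obtain ⟨k, hk⟩ := mem_zpowers_iff.1 hn
      rw [← hk]
      exact (show Commute (g : Spor.Fi24) z from hgz).zpow_right k
    have h2 : ((g * n * g⁻¹ : ↥T) : Spor.Fi24) = n := by
      push_cast
      rw [h1.eq, mul_inv_cancel_right]
    rw [h2]
    exact hn
  let V := ↥T ⧸ (zpowers z).subgroupOf T
  have hzc : Nat.card ((zpowers z).subgroupOf T) = 2 := by
    rw [Nat.card_congr (subgroupOfEquivOfLe (by rw [zpowers_le]; exact hzT)).toEquiv, Nat.card_zpowers]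
    exact orderOf_eq_prime (by rw [pow_two, zz]) frame.z1
  have hV : Nat.card V = 4 := by
    have h1 := Subgroup.card_eq_card_quotient_mul_card_subgroup ((zpowers z).subgroupOf T)
    rw [hzc, hT8] at h1
    change 8 = Nat.card V * 2 at h1
    omega
  have hmemz : ∀ a : Spor.Fi24, a ∈ zpowers z → a = 1 ∨ a = z := by
    intro a ha
    obtain ⟨k, rfl⟩ := mem_zpowers_iff.1 ha
    have hz2 : (z : Spor.Fi24) ^ (2 : ℤ) = 1 := by
      rw [show (2 : ℤ) = ((2 : ℕ) : ℤ) from rfl, zpow_natCast, pow_two, zz]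
    rcases Int.even_or_odd' k with ⟨m, rfl | rfl⟩
    · left; rw [zpow_mul, hz2, one_zpow]
    · right; rw [zpow_add, zpow_mul, hz2, one_zpow, one_mul, zpow_one]
  -- the map `Zc / R → V`
  let φ : ↥Zc ⧸ R.subgroupOf Zc → {v : V // v ≠ 1} := Quotient.lift
    (fun s => (⟨QuotientGroup.mk (s := (zpowers z).subgroupOf T) ⟨(s : Spor.Fi24) * t * (s : Spor.Fi24)⁻¹, hT s s.2⟩, by
      intro h
      have h1 := (QuotientGroup.eq_one_iff _).1 h
      rcases hmemz _ (mem_subgroupOf.1 h1) with h2 | h2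
      · exact (hne s s.2).1 h2
      · exact (hne s s.2).2 h2⟩ : {v : V // v ≠ 1})) (by
    intro a b hab
    have h1 : a⁻¹ * b ∈ R.subgroupOf Zc := QuotientGroup.leftRel_apply.1 hab
    have h2 : (a : Spor.Fi24)⁻¹ * b ∈ R := mem_subgroupOf.1 h1
    apply Subtype.ext
    show QuotientGroup.mk _ = QuotientGroup.mk _
    rw [QuotientGroup.eq, mem_subgroupOf]
    have haz := E_z a.2.1
    have hat := R_norm haz htR
    rcases (R_le_Ker h2).2 t htR with h3 | h3
    · have e1 : (b : Spor.Fi24) * t * (b : Spor.Fi24)⁻¹ = a * t * (a : Spor.Fi24)⁻¹ := by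
        calc (b : Spor.Fi24) * t * (b : Spor.Fi24)⁻¹ = a * (((a : Spor.Fi24)⁻¹ * b) * t * ((a : Spor.Fi24)⁻¹ * b)⁻¹) * (a : Spor.Fi24)⁻¹ := by group
          _ = _ := by rw [h3]
      show ((a : Spor.Fi24) * t * (a : Spor.Fi24)⁻¹)⁻¹ * ((b : Spor.Fi24) * t * (b : Spor.Fi24)⁻¹) ∈ zpowers z
      rw [e1, inv_mul_cancel]
      exact one_mem _
    · have e1 : (b : Spor.Fi24) * t * (b : Spor.Fi24)⁻¹ = z * (a * t * (a : Spor.Fi24)⁻¹) := by
        calc (b : Spor.Fi24) * t * (b : Spor.Fi24)⁻¹ = a * (((a : Spor.Fi24)⁻¹ * b) * t * ((a : Spor.Fi24)⁻¹ * b)⁻¹) * (a : Spor.Fi24)⁻¹ := by group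
          _ = (a * z) * t * (a : Spor.Fi24)⁻¹ := by rw [h3]; group
          _ = (z * a) * t * (a : Spor.Fi24)⁻¹ := by rw [haz]
          _ = _ := by group
      show ((a : Spor.Fi24) * t * (a : Spor.Fi24)⁻¹)⁻¹ * ((b : Spor.Fi24) * t * (b : Spor.Fi24)⁻¹) ∈ zpowers z
      rw [e1, ← Rz hat, inv_mul_cancel_left]
      exact mem_zpowers z)
  have hφ : Function.Injective φ := by
    intro p q
    induction p using QuotientGroup.induction_on with
    | H a =>
      induction q using QuotientGroup.induction_on with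
      | H b =>
        intro hpq
        have h1 : (QuotientGroup.mk (s := (zpowers z).subgroupOf T) ⟨(a : Spor.Fi24) * t * (a : Spor.Fi24)⁻¹, hT a a.2⟩ : V)
            = QuotientGroup.mk (s := (zpowers z).subgroupOf T) ⟨(b : Spor.Fi24) * t * (b : Spor.Fi24)⁻¹, hT b b.2⟩ := congrArg Subtype.val hpq
        rw [QuotientGroup.eq, mem_subgroupOf] at h1
        have h2 : ((a : Spor.Fi24) * t * (a : Spor.Fi24)⁻¹)⁻¹ * ((b : Spor.Fi24) * t * (b : Spor.Fi24)⁻¹) ∈ zpowers z := h1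
        rw [QuotientGroup.eq, mem_subgroupOf]
        have haz := E_z a.2.1
        have hat := R_norm haz htR
        refine mem_R_of_fix (Zc.mul_mem (Zc.inv_mem a.2) b.2) htR ht1 htz ?_
        have e1 : ((a⁻¹ * b : ↥Zc) : Spor.Fi24) * t * ((a⁻¹ * b : ↥Zc) : Spor.Fi24)⁻¹ =
            (a : Spor.Fi24)⁻¹ * ((b : Spor.Fi24) * t * (b : Spor.Fi24)⁻¹) * a := by
          push_cast; group
        rw [e1]
        rcases hmemz _ h2 with h3 | h3
        · left
          have h4 : (b : Spor.Fi24) * t * (b : Spor.Fi24)⁻¹ = a * t * (a : Spor.Fi24)⁻¹ := (inv_mul_eq_one.1 h3).symm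
          rw [h4]; group
        · right
          have h4 : (b : Spor.Fi24) * t * (b : Spor.Fi24)⁻¹ = a * t * (a : Spor.Fi24)⁻¹ * z := inv_mul_eq_iff_eq_mul.1 h3
          rw [h4, Rz hat]
          have haz' := z_comm_inv haz
          calc (a : Spor.Fi24)⁻¹ * (z * (a * t * (a : Spor.Fi24)⁻¹)) * a = ((a : Spor.Fi24)⁻¹ * z) * a * t := by group
            _ = (z * (a : Spor.Fi24)⁻¹) * a * t := by rw [haz']
            _ = z * t := by group
  have h3 : Nat.card {v : V // v ≠ 1} = 3 := by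
    have hVf : Finite V := inferInstance
    have : Fintype V := Fintype.ofFinite V
    rw [Nat.card_eq_fintype_card, Fintype.card_subtype_compl, Fintype.card_subtype_eq, ← Nat.card_eq_fintype_card, hV]
  have h4 := Nat.card_le_card_of_injective φ hφ
  rw [h3] at h4
  have h5 := Subgroup.card_eq_card_quotient_mul_card_subgroup (R.subgroupOf Zc)
  rw [Nat.card_congr (subgroupOfEquivOfLe R_le_Zc).toEquiv, frame.cardR] at h5
  rw [h5]
  exact Nat.mul_le_mul_right _ h4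

/-! ### The simple group `E / Zc` -/

instance : (Zc.subgroupOf E).Normal :=
  ⟨fun _ hn g => Zc_norm (E_z g.2) hn⟩

theorem simple : IsSimpleGroup (↥E ⧸ Zc.subgroupOf E) := by
  have hne : (Zc.subgroupOf E) ≠ ⊤ := by
    intro h
    rw [subgroupOf_eq_top] at h
    exact Zc_ne (le_antisymm Zc_le h)
  have hnt : Nontrivial (↥E ⧸ Zc.subgroupOf E) := QuotientGroup.nontrivial_iff.2 hne
  refine { exists_pair_ne := hnt.exists_pair_ne, eq_bot_or_eq_top_of_normal := fun N hN => ?_ }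
  let N1 : Subgroup ↥E := N.comap (QuotientGroup.mk' (Zc.subgroupOf E))
  have hN1 : N1.Normal := hN.comap _
  let N2 : Subgroup Spor.Fi24 := N1.map E.subtype
  have hle : Zc ≤ N2 := by
    intro g hg
    refine ⟨⟨g, Zc_le hg⟩, ?_, rfl⟩
    show QuotientGroup.mk' (Zc.subgroupOf E) ⟨g, Zc_le hg⟩ ∈ N
    have : QuotientGroup.mk' (Zc.subgroupOf E) ⟨g, Zc_le hg⟩ = 1 := (QuotientGroup.eq_one_iff _).2 hg
    rw [this]
    exact N.one_mem
  have hN2 : N2 ≤ E := map_subtype_le _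
  rcases dich N2 hN2 (R_le_Zc.trans hle) (by
    rintro e he _ ⟨n, hn, rfl⟩
    exact ⟨(⟨e, he⟩ * n * ⟨e, he⟩⁻¹ :), hN1.conj_mem n hn ⟨e, he⟩, rfl⟩) with h | h
  · left
    rw [eq_bot_iff]
    intro q hq
    induction q using QuotientGroup.induction_on with
    | H g =>
      rw [mem_bot]
      refine (QuotientGroup.eq_one_iff _).2 ?_
      have hg : (g : Spor.Fi24) ∈ N2 := ⟨g, hq, rfl⟩
      exact mem_Zc_of_fixes g.2 (h _ hg)
  · right
    rw [eq_top_iff]
    intro q _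
    induction q using QuotientGroup.induction_on with
    | H g =>
      have hg : (g : Spor.Fi24) ∈ N2 := by rw [h]; exact g.2
      obtain ⟨g', hg', h2⟩ := hg
      have h3 : g' = g := Subtype.ext h2
      rw [← h3]
      exact hg'

theorem card_mul : Nat.card (↥E ⧸ Zc.subgroupOf E) * Nat.card Zc = Nat.card E := by
  have h5 := Subgroup.card_eq_card_quotient_mul_card_subgroup (Zc.subgroupOf E)
  rw [Nat.card_congr (subgroupOfEquivOfLe Zc_le).toEquiv] at h5
  exact h5.symm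

theorem card_ge : 3265920 ≤ Nat.card (↥E ⧸ Zc.subgroupOf E) := by
  have h1 := card_mul
  have h2 := SheetMFi.card_E
  have h3 := card_Zc
  by_contra hcon
  push Not at hcon
  have h4 : Nat.card (↥E ⧸ Zc.subgroupOf E) * Nat.card Zc ≤ 3265919 * (3 * 8192) :=
    Nat.mul_le_mul (by omega) h3
  omega

theorem card_dvd : Nat.card (↥E ⧸ Zc.subgroupOf E) ∣ 2 ^ 21 * 3 ^ 7 * 5 * 7 := by
  have : Finite Spor.Fi24 := Cfsg.Agent.R08.FiTwentyFour.finite_Fi24
  have h1 : Nat.card (↥E ⧸ Zc.subgroupOf E) ∣ Nat.card E := ⟨_, card_mul.symm⟩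
  have h2 := Abs.card_CK frame
  have h3 := Abs.rel_mul frame
  rw [Order.card] at h2
  have h4 : Nat.card (centralizer ({Abs.zK frame} : Set (commutator Spor.Fi24))) = 2 ^ 21 * 3 ^ 7 * 5 * 7 := by
    norm_num only []
    omega
  rw [h4] at h3
  exact h1.trans ⟨_, h3.symm⟩

end Cfsg.Agent.PreUniq.FiTF.Z

end

-- merged: Cfsg.Agent.PreUniq.Fi24Abs
section

/-!
# Two facts on the centralizers of the 3-elements of a simple group of Lie type of characteristic 3
-/

set_option autoImplicit false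
set_option linter.unusedSectionVars false

namespace Cfsg.Agent.PreUniq.FiTF

open Cfsg Subgroup Cfsg.Agent.KFacts.RgdFilt

variable {S : Type} [Group S] [Finite S] [IsSimpleGroup S]

/-- A `3'`-subgroup of `C(x)`, normal in a normal subgroup `H` of `C(x)`, is trivial. -/
theorem coreless (hF : HasFilt 3 S) (hc : ∃ a b : S, a * b ≠ b * a) (h3 : 3 ∣ Nat.card S) {x : S} (hx : x ^ 3 = 1)
    {H Y : Subgroup S} (hH : H ≤ centralizer ({x} : Set S))
    (hHn : ∀ c ∈ centralizer ({x} : Set S), ∀ h ∈ H, c * h * c⁻¹ ∈ H) (hY : Y ≤ H)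
    (hYn : ∀ h ∈ H, ∀ y ∈ Y, h * y * h⁻¹ ∈ Y) (hcop : (Nat.card Y).Coprime 3) : Y = ⊥ := by
  have hF3 : Fact (Nat.Prime 3) := ⟨Nat.prime_three⟩
  by_cases h1 : x = 1
  · subst h1
    have hHN : H.Normal := ⟨fun h hh c => hHn c (by
      rw [mem_centralizer_singleton_iff, mul_one, one_mul]) h hh⟩
    rcases hHN.eq_bot_or_eq_top with h2 | h2
    · rw [eq_bot_iff, ← h2]
      exact hY
    · have hYN : Y.Normal := ⟨fun y hy c => hYn c (by rw [h2]; trivial) y hy⟩
      rcases hYN.eq_bot_or_eq_top with h4 | h4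
      · exact h4
      · exfalso
        rw [h4, card_top] at hcop
        have := Nat.dvd_gcd h3 (dvd_refl 3)
        rw [hcop] at this
        omega
  · have hxo : orderOf x = 3 := orderOf_eq_prime hx h1
    have hcore := hF.core hc hxo
    have hcore' : pPrimeCore 3 ↥(centralizer ({x} : Set S)) = ⊥ := by
      rw [eq_bot_iff]
      intro y hy
      have h2 : ((y : ↥(centralizer ({x} : Set S))) : S) ∈ centralizerPPrimeCore 3 x := ⟨y, hy, rfl⟩
      rw [hcore, mem_bot] at h2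
      rw [mem_bot]
      exact Subtype.ext h2
    set C := centralizer ({x} : Set S) with hC
    let N : Subgroup ↥C := H.subgroupOf C
    have hN : N.Normal := ⟨fun n hn c => mem_subgroupOf.2 (hHn c c.2 n (mem_subgroupOf.1 hn))⟩
    have h2 := Cfsg.Agent.Lib.Cores.map_subtype_pPrimeCore 3 hN
    rw [hcore', inf_bot_eq, Subgroup.map_eq_bot_iff, Subgroup.ker_subtype, le_bot_iff] at h2
    let Y1 : Subgroup ↥N := (Y.subgroupOf C).subgroupOf N
    have hY1n : Y1.Normal := ⟨fun y hy n => hYn _ (mem_subgroupOf.1 n.2) _ hy⟩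
    have hY1c : (Nat.card Y1).Coprime 3 := by
      have h3 : Nat.card Y1 ∣ Nat.card Y := by
        let g : ↥Y1 →* ↥Y := ((C.subtype.comp N.subtype).comp Y1.subtype).codRestrict Y (fun y => y.2)
        have hg : Function.Injective g := by
          intro a b hab
          have h4 : ((((a : ↥N) : ↥C) : S)) = (((b : ↥N) : ↥C) : S) :=
            congrArg (fun t : ↥Y => (t : S)) hab
          exact Subtype.ext (Subtype.ext (Subtype.ext h4))
        exact card_dvd_of_injective g hg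
      exact Nat.Coprime.coprime_dvd_left h3 hcop
    have h3 := Cfsg.Agent.Lib.Cores.le_pPrimeCore hY1n hY1c
    rw [h2, le_bot_iff] at h3
    rw [eq_bot_iff]
    intro y hy
    have hyH := hY hy
    have hyC := hH hyH
    have h4 : (⟨⟨y, hyC⟩, hyH⟩ : ↥N) ∈ Y1 := hy
    rw [h3, mem_bot] at h4
    rw [mem_bot]
    exact congrArg (fun t : ↥N => ((t : ↥C) : S)) h4

/-- No element of order 7 commutes with an element of order 3. -/
theorem no_seven (hF : HasFilt 3 S) (hc : ∃ a b : S, a * b ≠ b * a) (h37 : ¬ 3 ^ 7 ∣ Nat.card S) {x y : S}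
    (hx : orderOf x = 3) (hy : orderOf y = 7) (hxy : x * y = y * x) : False := by
  have hF3 : Fact (Nat.Prime 3) := ⟨Nat.prime_three⟩
  have hF7 : Fact (Nat.Prime 7) := ⟨by norm_num⟩
  have hK : IsPGroup 3 (zpowers x) := by
    rw [IsPGroup.iff_card]
    exact ⟨1, by rw [Nat.card_zpowers, hx, pow_one]⟩
  have hK1 : zpowers x ≠ ⊥ := by
    rw [Ne, zpowers_eq_bot]
    rintro rfl
    rw [orderOf_one] at hx
    omega
  have hlc := hF.local_char hc hK hK1
  set N := normalizer (zpowers x : Set S) with hN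
  set P := pCore 3 ↥N with hP
  have hPp : IsPGroup 3 ↥P := Cfsg.Agent.Lib.Cores.pCore_isPGroup 3
  obtain ⟨m, hm⟩ := IsPGroup.iff_card.1 hPp
  have hm6 : m ≤ 6 := by
    by_contra hcon
    apply h37
    have h1 : 3 ^ 7 ∣ 3 ^ m := pow_dvd_pow 3 (by omega)
    rw [← hm] at h1
    exact h1.trans ((card_subgroup_dvd_card P).trans (card_subgroup_dvd_card N))
  have hyN : y ∈ N := by
    apply centralizer_le_normalizer
    rw [mem_centralizer_iff]
    intro z hz
    obtain ⟨k, rfl⟩ := mem_zpowers_iff.1 hz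
    exact ((show Commute x y from hxy).zpow_left k).eq
  have hxN : x ∈ N := le_normalizer (mem_zpowers x)
  have hyo : orderOf (⟨y, hyN⟩ : ↥N) = 7 := by rw [orderOf_mk, hy]
  set y' : ↥N := ⟨y, hyN⟩ with hy'
  have hPn : P.Normal := Cfsg.Agent.Lib.Cores.pCore_normal 3
  have hxP : (⟨x, hxN⟩ : ↥N) ∈ P := by
    have h1 : ((zpowers x).subgroupOf N) ≤ P := by
      apply Cfsg.Agent.Lib.Cores.le_pCore
      · exact normal_in_normalizer
      · exact hK.comap_of_injective N.subtype N.subtype_injective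
    exact h1 (mem_subgroupOf.2 (mem_zpowers x))
  have hmod := Cfsg.Agent.LThreeFi22.fix_modEq (K := ↥N) (r := 7) (by norm_num) (y := y')
    (by rw [← hyo, pow_orderOf_eq_one]) (S := (P : Set ↥N)) (fun s hs => hPn.conj_mem s hs y')
  have hcard1 : (P : Set ↥N).ncard = 3 ^ m := by rw [← hm]; rfl
  let Q : Subgroup ↥N := P ⊓ centralizer ({y'} : Set ↥N)
  have hQ : {s | s ∈ (P : Set ↥N) ∧ y' * s = s * y'} = (Q : Set ↥N) := by
    ext s
    constructor
    · rintro ⟨h1, h2⟩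
      exact ⟨h1, mem_centralizer_singleton_iff.2 h2.symm⟩
    · rintro ⟨h1, h2⟩
      exact ⟨h1, (mem_centralizer_singleton_iff.1 h2).symm⟩
  have hQp : IsPGroup 3 ↥Q := hPp.to_le inf_le_left
  obtain ⟨c, hc'⟩ := IsPGroup.iff_card.1 hQp
  have hcard2 : (Q : Set ↥N).ncard = 3 ^ c := by rw [← hc']; rfl
  rw [hQ, hcard1, hcard2] at hmod
  have hxQ : (⟨x, hxN⟩ : ↥N) ∈ Q := ⟨hxP, mem_centralizer_singleton_iff.2 (Subtype.ext hxy)⟩
  have hc1 : 1 ≤ c := by
    by_contra hcon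
    have h0 : c = 0 := by omega
    rw [h0, pow_zero] at hc'
    have h1 : Q = ⊥ := Subgroup.eq_bot_of_card_eq Q hc'
    rw [h1, mem_bot] at hxQ
    have h2 : x = 1 := congrArg Subtype.val hxQ
    rw [h2, orderOf_one] at hx
    omega
  have hcm : c ≤ m := by
    have h1 : Nat.card Q ≤ Nat.card P := card_le_of_le inf_le_left
    rw [hc', hm] at h1
    exact (Nat.pow_le_pow_iff_right (by norm_num)).1 h1
  have hcm2 : c = m := by
    have key : ∀ m ≤ 6, ∀ c ≤ m, 1 ≤ c → 3 ^ m % 7 = 3 ^ c % 7 → c = m := by decide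
    exact key m hm6 c hcm hc1 hmod
  have hQP : Q = P := by
    refine eq_of_le_of_card_ge inf_le_left ?_
    rw [hc', hm, hcm2]
  have hyC : y' ∈ centralizer (P : Set ↥N) := by
    rw [mem_centralizer_iff]
    intro s hs
    have h1 : s ∈ Q := by rw [hQP]; exact hs
    exact mem_centralizer_singleton_iff.1 h1.2
  have hyP := hlc hyC
  have h1 : orderOf y' ∣ 3 ^ m := by
    rw [← hm]
    have := _root_.orderOf_dvd_natCard (⟨y', hyP⟩ : ↥P)
    rwa [orderOf_mk] at this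
  rw [hyo] at h1
  have h2 := (Nat.prime_dvd_prime_iff_eq (by norm_num) Nat.prime_three).1 ((show Nat.Prime 7 by norm_num).dvd_of_dvd_pow h1)
  omega

end Cfsg.Agent.PreUniq.FiTF

end

-- merged: Cfsg.Agent.PreUniq.Fi24S
section

/-!
# `Fi24'`: local facts in the centralizer of the 2-central involution `z`

`E / Zc ≅ PSU(4,3)` (order), `|Zc| = 3 |R|`.

* `le_R` : for `f` of order 3 in `C(z)`, the `3'`-subgroups normalized by `C(z) ∩ C(f)` lie in `R`;
* `not_seven` : no element of order 7 of `C(z)` commutes with `f ∈ E \ Zc` of order 3.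
-/

set_option autoImplicit false
set_option linter.unusedSectionVars false

namespace Cfsg.Agent.PreUniq.FiTF.Z

open Cfsg Cfsg.Spor Subgroup Cfsg.Agent.KFacts.FiTF Cfsg.Agent.KFacts.FiTF.Defs
open Cfsg.Agent.R08.FiTwentyFour (L)
open Cfsg.Agent.R08.TetTwo (IsTet Mate)
open Cfsg.Agent.KFacts.FiTF.QuasiA (Fixes)
open Cfsg.Agent.OrdDiv Cfsg.Agent.CpAut
open scoped commutatorElement

/-! ### The simple group `E / Zc` -/

abbrev S : Type := ↥E ⧸ Zc.subgroupOf E

instance : Finite Spor.Fi24 := Cfsg.Agent.R08.FiTwentyFour.finite_Fi24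

instance : IsSimpleGroup S := simple

/-- the class in `E / Zc` -/
def mk (g : ↥E) : S := QuotientGroup.mk g

theorem mk_eq_one {g : ↥E} : mk g = 1 ↔ (g : Spor.Fi24) ∈ Zc :=
  (QuotientGroup.eq_one_iff g).trans mem_subgroupOf

theorem mk_mul (g h : ↥E) : mk (g * h) = mk g * mk h := rfl

theorem mk_inv (g : ↥E) : mk g⁻¹ = (mk g)⁻¹ := rfl

theorem exists_mk (x : S) : ∃ g, mk g = x := QuotientGroup.mk_surjective x

set_option maxRecDepth 100000 in
theorem cands_eq : (cands [(2, 21), (3, 7), (5, 1), (7, 1)] (2 ^ 21 * 3 ^ 7 * 5 * 7)).filter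
    (fun g => Nat.ble 3265920 (ordN g)) = [.psu 4 3] := by decide +kernel

theorem ord_psu : ordN (.psu 4 3) = 3265920 := by decide +kernel

theorem not_comm : ∃ a b : S, a * b ≠ b * a := by
  by_contra hcon
  push Not at hcon
  -- `E` is perfect
  have h1 : E ≤ Zc := by
    conv_lhs => rw [← frame.perf]
    rw [commutator_le]
    intro a ha b hb
    have h2 : mk (⁅(⟨a, ha⟩ : ↥E), ⟨b, hb⟩⁆) = 1 := by
      have h3 : mk (⁅(⟨a, ha⟩ : ↥E), ⟨b, hb⟩⁆) = ⁅mk ⟨a, ha⟩, mk ⟨b, hb⟩⁆ := rfl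
      rw [h3, commutatorElement_eq_one_iff_mul_comm]
      exact hcon _ _
    exact mk_eq_one.1 h2
  exact Zc_ne (le_antisymm Zc_le h1)

/-- the facts obtained from the classification -/
theorem known (T : OrderTable.{0}) (hA : AllKnown.{0}) :
    Nat.card S = 3265920 ∧ Cfsg.Agent.KFacts.RgdFilt.HasFilt 3 S := by
  obtain ⟨g, hg, hr, hc⟩ := exists_good T (hA S) (fun h => by
    obtain ⟨a, b, hab⟩ := not_comm
    exact hab (h a b)) (l := [(2, 21), (3, 7), (5, 1), (7, 1)]) (N := 2 ^ 21 * 3 ^ 7 * 5 * 7) (by decide +kernel) card_dvd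
  have h1 : g ∈ (cands [(2, 21), (3, 7), (5, 1), (7, 1)] (2 ^ 21 * 3 ^ 7 * 5 * 7)).filter
      (fun g => Nat.ble 3265920 (ordN g)) := by
    rw [List.mem_filter]
    refine ⟨hg, ?_⟩
    rw [← hc]
    exact Nat.ble_eq_true_of_le card_ge
  rw [cands_eq, List.mem_singleton] at h1
  subst h1
  rw [ord_psu] at hc
  refine ⟨hc, ?_⟩
  obtain ⟨F, _, _, hF, ⟨e⟩⟩ := hr
  have h3 : Fact (Nat.Prime 3) := ⟨Nat.prime_three⟩
  have hch : CharP F 3 := by
    obtain ⟨p, hp⟩ := CharP.exists F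
    obtain ⟨n, hpp, hn⟩ := FiniteField.card F p
    rw [hF] at hn
    have h4 : p ∣ 3 ^ 2 := by
      rw [hn]
      exact dvd_pow_self p n.ne_zero
    have h5 := (Nat.prime_dvd_prime_iff_eq hpp Nat.prime_three).1 (hpp.dvd_of_dvd_pow h4)
    rw [← h5]
    exact hp
  have : Finite (PSU 4 F 3) := Quotient.finite _
  exact (Cfsg.Agent.KFacts.RgdFiltClass.hasFilt_PSU hF (by norm_num)).of_equiv e.symm

/-! ### Elements of `C(z)` -/

/-- an element commuting with `f` modulo `R` -/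
theorem exists_comm {f g : Spor.Fi24} (hf : f ^ 3 = 1) (hfz : f * z = z * f) (hgz : g * z = z * g)
    (h : ⁅g, f⁆ ∈ R) : ∃ r ∈ R, (g * r) * f = f * (g * r) := by
  let X : Subgroup Spor.Fi24 := centralizer ({z} : Set Spor.Fi24)
  have hRX : R ≤ X := fun r hr => mem_centralizer_singleton_iff.2 (Rz hr)
  have hn : (R.subgroupOf X).Normal := ⟨fun r hr x => mem_subgroupOf.2
    (R_norm (mem_centralizer_singleton_iff.1 x.2) (mem_subgroupOf.1 hr))⟩
  let f' : ↥X := ⟨f, mem_centralizer_singleton_iff.2 hfz⟩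
  let g' : ↥X := ⟨g, mem_centralizer_singleton_iff.2 hgz⟩
  have hO : (Nat.card ↥(R.subgroupOf X)).Coprime 3 := by
    rw [Nat.card_congr (subgroupOfEquivOfLe hRX).toEquiv, frame.cardR]
    norm_num
  have hf' : f' ^ 3 = 1 := Subtype.ext hf
  have hP : IsPGroup 3 ↥(zpowers f') := by
    intro a
    refine ⟨1, ?_⟩
    apply Subtype.ext
    obtain ⟨k, hk⟩ := mem_zpowers_iff.1 a.2
    rw [pow_one, coe_pow, ← hk, ← zpow_natCast, ← zpow_mul, mul_comm, zpow_mul, zpow_natCast, hf', one_zpow]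
    rfl
  have hc : Commute (f' : ↥X ⧸ R.subgroupOf X) (g' : ↥X ⧸ R.subgroupOf X) := by
    have h1 : ((⁅g', f'⁆ : ↥X) : ↥X ⧸ R.subgroupOf X) = 1 := (QuotientGroup.eq_one_iff _).2 (mem_subgroupOf.2 h)
    have h2 : ⁅(g' : ↥X ⧸ R.subgroupOf X), (f' : ↥X ⧸ R.subgroupOf X)⁆ = 1 := h1
    exact (commutatorElement_eq_one_iff_mul_comm.1 h2).symm
  obtain ⟨c, hc1, hc2⟩ := Cfsg.Agent.LThreeFi24.Comp.exists_fixed_lift Nat.prime_three (R.subgroupOf X) hO hP
    (y := (g' : ↥X ⧸ R.subgroupOf X)) (by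
      intro x hx
      obtain ⟨k, rfl⟩ := mem_zpowers_iff.1 hx
      rw [QuotientGroup.mk_zpow, (hc.zpow_left k).eq, mul_inv_cancel_right])
  have h3 : g'⁻¹ * c ∈ R.subgroupOf X := QuotientGroup.eq.1 hc1.symm
  refine ⟨g⁻¹ * c, mem_subgroupOf.1 h3, ?_⟩
  rw [mul_inv_cancel_left]
  exact (congrArg Subtype.val (hc2 f' (mem_zpowers f'))).symm

theorem comm_Zc {g u : Spor.Fi24} (hg : g ∈ E) (hu : u ∈ Zc) : ⁅g, u⁆ ∈ R := by
  rw [← commutatorElement_inv]
  exact R.inv_mem (hu.2 g hg)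

/-- the image of `C_E(f)` in `S` -/
def Hf (f : Spor.Fi24) : Subgroup S :=
  ((centralizer ({f} : Set Spor.Fi24)).subgroupOf E).map (QuotientGroup.mk' (Zc.subgroupOf E))

theorem mem_Hf {f : Spor.Fi24} {x : S} : x ∈ Hf f ↔ ∃ g : ↥E, (g : Spor.Fi24) * f = f * g ∧ mk g = x := by
  constructor
  · rintro ⟨g, hg, rfl⟩
    exact ⟨g, mem_centralizer_singleton_iff.1 (mem_subgroupOf.1 hg), rfl⟩
  · rintro ⟨g, hg, rfl⟩
    exact ⟨g, mem_subgroupOf.2 (mem_centralizer_singleton_iff.2 hg), rfl⟩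

theorem Hf_normal {f : ↥E} (hf : (f : Spor.Fi24) ^ 3 = 1) {c h : S} (hc : c ∈ centralizer ({mk f} : Set S))
    (hh : h ∈ Hf f) : c * h * c⁻¹ ∈ Hf f := by
  obtain ⟨n, rfl⟩ := exists_mk c
  obtain ⟨g, hg, rfl⟩ := mem_Hf.1 hh
  have h1 := mem_centralizer_singleton_iff.1 hc
  have hs : ⁅(n : Spor.Fi24), (f : Spor.Fi24)⁆ ∈ Zc := by
    have h2 : mk ⁅n, f⁆ = 1 := by
      have h3 : mk ⁅n, f⁆ = ⁅mk n, mk f⁆ := rfl
      rw [h3, commutatorElement_eq_one_iff_mul_comm]
      exact h1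
    exact mk_eq_one.1 h2
  have hnz := E_z n.2
  have hnz' := z_comm_inv hnz
  -- `n⁻¹ f n = u f`
  set u : Spor.Fi24 := (n : Spor.Fi24)⁻¹ * (⁅(n : Spor.Fi24), (f : Spor.Fi24)⁆)⁻¹ * n with hu
  have huZ : u ∈ Zc := by
    have h2 := Zc_norm hnz' (Zc.inv_mem hs)
    rwa [inv_inv] at h2
  have h2 : (n : Spor.Fi24)⁻¹ * f * n = u * f := by
    rw [hu, commutatorElement_def]
    group
  have hr : (n : Spor.Fi24) * ⁅(g : Spor.Fi24), u⁆ * (n : Spor.Fi24)⁻¹ ∈ R := R_norm hnz (comm_Zc g.2 huZ)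
  have h3 : ⁅(n : Spor.Fi24) * g * (n : Spor.Fi24)⁻¹, (f : Spor.Fi24)⁆ =
      (n : Spor.Fi24) * ⁅(g : Spor.Fi24), u⁆ * (n : Spor.Fi24)⁻¹ := by
    have e1 : (n : Spor.Fi24) * g * (n : Spor.Fi24)⁻¹ * f * ((n : Spor.Fi24) * g * (n : Spor.Fi24)⁻¹)⁻¹ * (f : Spor.Fi24)⁻¹ =
        n * (g * ((n : Spor.Fi24)⁻¹ * f * n) * (g : Spor.Fi24)⁻¹) * (n : Spor.Fi24)⁻¹ * (f : Spor.Fi24)⁻¹ := by group
    have e2 : (g : Spor.Fi24) * (u * f) * (g : Spor.Fi24)⁻¹ = ⁅(g : Spor.Fi24), u⁆ * (u * f) := by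
      rw [commutatorElement_def]
      calc (g : Spor.Fi24) * (u * f) * (g : Spor.Fi24)⁻¹ = g * u * (g : Spor.Fi24)⁻¹ * ((g : Spor.Fi24) * f * (g : Spor.Fi24)⁻¹) := by group
        _ = g * u * (g : Spor.Fi24)⁻¹ * f := by rw [hg, mul_inv_cancel_right]
        _ = _ := by group
    rw [commutatorElement_def, e1, h2, e2, ← h2]
    group
  obtain ⟨r, hr', h4⟩ := exists_comm hf (E_z f.2) (g := (n : Spor.Fi24) * g * (n : Spor.Fi24)⁻¹)
    (E_z (E.mul_mem (E.mul_mem n.2 g.2) (E.inv_mem n.2))) (by rw [h3]; exact hr)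
  have hrE := frame.RE hr'
  refine mem_Hf.2 ⟨n * g * n⁻¹ * ⟨r, hrE⟩, h4, ?_⟩
  rw [mk_mul]
  have h5 : mk ⟨r, hrE⟩ = 1 := mk_eq_one.2 (R_le_Zc hr')
  rw [h5, mul_one]
  rfl

variable (T : OrderTable.{0}) (hA : AllKnown.{0})

include T hA

theorem three_dvd : 3 ∣ Nat.card S := by rw [(known T hA).1]; norm_num

theorem card_Zc_eq : Nat.card Zc = 24576 := by
  have h1 := card_mul
  have h2 := SheetMFi.card_E
  have h3 := card_Zc
  change Nat.card S * Nat.card Zc = _ at h1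
  rw [(known T hA).1] at h1
  by_contra hcon
  have h4 : Nat.card Zc ≤ 24575 := by omega
  have h5 : 3265920 * Nat.card Zc ≤ 3265920 * 24575 := Nat.mul_le_mul_left _ h4
  omega

/-- the cubes of the elements of `Zc` lie in `R` -/
theorem cube_mem {s : Spor.Fi24} (hs : s ∈ Zc) : s ^ 3 ∈ R := by
  have hn : (R.subgroupOf Zc).Normal := ⟨fun r hr x => mem_subgroupOf.2
    (R_norm (E_z (Zc_le x.2)) (mem_subgroupOf.1 hr))⟩
  have h1 : (R.subgroupOf Zc).index = 3 := by
    have h2 := (R.subgroupOf Zc).card_mul_index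
    rw [Nat.card_congr (subgroupOfEquivOfLe R_le_Zc).toEquiv, frame.cardR, card_Zc_eq T hA] at h2
    omega
  have h3 := (R.subgroupOf Zc).pow_index_mem (⟨s, hs⟩ : ↥Zc)
  rw [h1] at h3
  exact mem_subgroupOf.1 h3

theorem exists_s : ∃ s ∈ Zc, s ∉ R := by
  by_contra hcon
  push Not at hcon
  have h1 := card_le_of_le (show Zc ≤ R from hcon)
  rw [frame.cardR, card_Zc_eq T hA] at h1
  omega

/-- a `3'`-subgroup of `E` normalized by `C_E(f)` lies in `R` -/
theorem le_R_of_le_E {f : ↥E} (hf : (f : Spor.Fi24) ^ 3 = 1) {Y : Subgroup Spor.Fi24} (hY : Y ≤ E)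
    (hcop : (Nat.card Y).Coprime 3) (hYf : ∀ y ∈ Y, y * f = f * y)
    (hYn : ∀ g ∈ E, g * f = f * g → ∀ y ∈ Y, g * y * g⁻¹ ∈ Y) : Y ≤ R := by
  let Y1 : Subgroup S := (Y.subgroupOf E).map (QuotientGroup.mk' (Zc.subgroupOf E))
  have hmf : (mk f) ^ 3 = 1 := by
    have : f ^ 3 = 1 := Subtype.ext hf
    have h1 : (mk f) ^ 3 = mk (f ^ 3) := rfl
    rw [h1, this]
    rfl
  have h1 : Y1 = ⊥ := by
    refine coreless (known T hA).2 not_comm (three_dvd T hA) hmf (H := Hf f) ?_ (fun c hc h hh => Hf_normal hf hc hh)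
      ?_ ?_ ?_
    · intro x hx
      obtain ⟨g, hg, rfl⟩ := mem_Hf.1 hx
      rw [mem_centralizer_singleton_iff]
      show mk (g * f) = mk (f * g)
      congr 1
      exact Subtype.ext hg
    · rintro _ ⟨y, hy, rfl⟩
      exact mem_Hf.2 ⟨y, hYf y (mem_subgroupOf.1 hy), rfl⟩
    · intro h hh
      obtain ⟨g, hg, rfl⟩ := mem_Hf.1 hh
      rintro _ ⟨y, hy, rfl⟩
      exact ⟨g * y * g⁻¹, mem_subgroupOf.2 (hYn g g.2 hg y (mem_subgroupOf.1 hy)), rfl⟩
    · refine Nat.Coprime.coprime_dvd_left (card_map_dvd _ _) ?_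
      rw [Nat.card_congr (subgroupOfEquivOfLe hY).toEquiv]
      exact hcop
  intro y hy
  have hyZ : y ∈ Zc := by
    have h2 : mk ⟨y, hY hy⟩ ∈ Y1 := ⟨⟨y, hY hy⟩, mem_subgroupOf.2 hy, rfl⟩
    rw [h1, mem_bot] at h2
    exact mk_eq_one.1 h2
  have h3 := cube_mem T hA hyZ
  -- `y` is a power of `y ^ 3`
  have h4 : (orderOf y).Coprime 3 := by
    refine Nat.Coprime.coprime_dvd_left ?_ hcop
    have := _root_.orderOf_dvd_natCard (⟨y, hy⟩ : ↥Y)
    rwa [orderOf_mk] at this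
  obtain ⟨m, hm⟩ := exists_pow_eq_self_of_coprime h4.symm
  rw [← hm]
  exact R.pow_mem h3 m

/-! ### The elements outside `E` -/

omit T hA in
theorem card_CK_eq : Nat.card (centralizer ({Abs.zK frame} : Set (commutator Spor.Fi24))) = 160526499840 := by
  have h2 := Abs.card_CK frame
  rw [Order.card] at h2
  omega

theorem relIndex_eq : (E.subgroupOf (commutator Spor.Fi24)).relIndex
    (centralizer ({Abs.zK frame} : Set (commutator Spor.Fi24))) = 2 := by
  have h1 := Abs.rel_mul frame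
  have h3 := card_mul
  change Nat.card S * Nat.card Zc = _ at h3
  rw [(known T hA).1, card_Zc_eq T hA] at h3
  rw [← h3, card_CK_eq] at h1
  omega

theorem mul_mem_E {g h : Spor.Fi24} (hg : g ∈ commutator Spor.Fi24) (hgz : g * z = z * g) (hgE : g ∉ E)
    (hh : h ∈ commutator Spor.Fi24) (hhz : h * z = z * h) (hhE : h ∉ E) : g * h ∈ E := by
  set C := centralizer ({Abs.zK frame} : Set (commutator Spor.Fi24)) with hC
  have h1 : ((E.subgroupOf (commutator Spor.Fi24)).subgroupOf C).index = 2 := relIndex_eq T hA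
  let g' : ↥C := ⟨⟨g, hg⟩, mem_centralizer_singleton_iff.2 (Subtype.ext hgz)⟩
  let h' : ↥C := ⟨⟨h, hh⟩, mem_centralizer_singleton_iff.2 (Subtype.ext hhz)⟩
  have h2 := Subgroup.mul_mem_iff_of_index_two h1 (a := g') (b := h')
  have h3 : g' * h' ∈ (E.subgroupOf (commutator Spor.Fi24)).subgroupOf C := h2.2 ⟨fun h => absurd h hgE, fun h => absurd h hhE⟩
  exact h3

/-- the elements of order 3 of `C(z)` lie in `E` -/
theorem mem_E_of_cube {f : Spor.Fi24} (hf : f ^ 3 = 1) (hfK : f ∈ _root_.commutator Spor.Fi24) (hfz : f * z = z * f) : f ∈ E := by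
  by_contra hcon
  have h1 := mul_mem_E T hA hfK hfz hcon hfK hfz hcon
  apply hcon
  have h2 : f = (f * f) * (f * f) := by
    calc f = f ^ 3 * f := by rw [hf, one_mul]
      _ = _ := by simp only [pow_succ, pow_zero, one_mul, mul_assoc]
  rw [h2]
  exact E.mul_mem h1 h1

omit T hA in
/-- equality up to `z` -/
def Eqz (a b : Spor.Fi24) : Prop := a = b ∨ a = z * b

omit T hA in
theorem Eqz.symm {a b : Spor.Fi24} (h : Eqz a b) : Eqz b a := by
  rcases h with h | h
  · exact Or.inl h.symm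
  · right; rw [h, ← mul_assoc, zz, one_mul]

omit T hA in
theorem Eqz.trans {a b c : Spor.Fi24} (h : Eqz a b) (h' : Eqz b c) : Eqz a c := by
  rcases h with rfl | rfl
  · exact h'
  · rcases h' with rfl | rfl
    · exact Or.inr rfl
    · left; rw [← mul_assoc, zz, one_mul]

omit T hA in
theorem Eqz.conj {a b g : Spor.Fi24} (hg : g * z = z * g) (h : Eqz a b) : Eqz (g * a * g⁻¹) (g * b * g⁻¹) := by
  rcases h with rfl | rfl
  · exact Or.inl rfl
  · right
    rw [← mul_assoc, hg]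
    group

omit T hA in
theorem Eqz.mul {a b c d : Spor.Fi24} (hb : b * z = z * b) (h : Eqz a b) (h' : Eqz c d) : Eqz (a * c) (b * d) := by
  rcases h with rfl | rfl <;> rcases h' with rfl | rfl
  · exact Or.inl rfl
  · right; rw [← mul_assoc, hb, mul_assoc]
  · right; rw [mul_assoc]
  · left
    calc z * b * (z * d) = z * (b * z) * d := by group
      _ = (z * z) * (b * d) := by rw [hb]; group
      _ = b * d := by rw [zz, one_mul]

omit T hA in
theorem Eqz.mem {a b : Spor.Fi24} (h : Eqz a b) (ha : a ∈ R) : b ∈ R := by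
  rcases h with rfl | rfl
  · exact ha
  · have := R.mul_mem frame.zR ha
    rwa [← mul_assoc, zz, one_mul] at this

omit T hA in
/-- an element of `Zc` outside `R` moves the noncentral elements of `R` modulo `z` -/
theorem not_eqz {s t : Spor.Fi24} (hs : s ∈ Zc) (hsR : s ∉ R) (ht : t ∈ R) (h1 : t ≠ 1) (hz : t ≠ z) :
    ¬ Eqz (s * t * s⁻¹) t := fun h => hsR (mem_R_of_fix hs ht h1 hz h)

omit T hA in
theorem pair_mem {a b c d : Spor.Fi24} (h : IsTet L z a b c d) : a * b ∈ R :=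
  RQ.pair_mem_R FixZ.tran (Cfsg.Agent.R08.TetThree.Pairs.eq_1 L z ▸ ⟨a, b, ⟨c, d, h⟩, rfl⟩)

omit T hA in
theorem pair_ne {a b c d : Spor.Fi24} (h : IsTet L z a b c d) : a * b ≠ 1 ∧ a * b ≠ z := by
  have hbb : b * b = 1 := Cfsg.Agent.R08.FiTwentyFour.sq h.hb
  have hcc : c * c = 1 := Cfsg.Agent.R08.FiTwentyFour.sq h.hc
  have hdd : d * d = 1 := Cfsg.Agent.R08.FiTwentyFour.sq h.hd
  constructor
  · intro h1
    apply h.nab
    calc a = a * (b * b) := by rw [hbb, mul_one]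
      _ = (a * b) * b := by rw [mul_assoc]
      _ = b := by rw [h1, one_mul]
  · intro h1
    apply h.ncd
    have h2 : a * b * (c * d) = a * b := by rw [← mul_assoc, h.prod, h1]
    have h3 : c * d = 1 := mul_left_cancel (h2.trans (mul_one _).symm)
    calc c = c * (d * d) := by rw [hdd, mul_one]
      _ = (c * d) * d := by rw [mul_assoc]
      _ = d := by rw [h3, one_mul]

omit T hA in
/-- complementary pairs are equal up to `z` -/
theorem eqz_compl {a b c d : Spor.Fi24} (h : IsTet L z a b c d) : Eqz (c * d) (a * b) := by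
  right
  have haa : a * a = 1 := Cfsg.Agent.R08.FiTwentyFour.sq h.ha
  have hbb : b * b = 1 := Cfsg.Agent.R08.FiTwentyFour.sq h.hb
  have h1 : (a * b) * (a * b) = 1 := by
    calc (a * b) * (a * b) = a * (b * a) * b := by simp only [mul_assoc]
      _ = a * (a * b) * b := by rw [h.ab.eq]
      _ = (a * a) * (b * b) := by simp only [mul_assoc]
      _ = 1 := by rw [haa, hbb, one_mul]
  have h2 : (z : Spor.Fi24) * (a * b) = (a * b) * z := (Rz (pair_mem h)).symm
  rw [h2]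
  calc c * d = (a * b) * (a * b) * (c * d) := by rw [h1, one_mul]
    _ = (a * b) * (a * b * c * d) := by simp only [mul_assoc]
    _ = (a * b) * z := by rw [h.prod]

omit T hA in
/-- the relations between the six pairs of a tetrad -/
theorem step {s a b c d : Spor.Fi24} (hs : s ∈ Zc) (hsR : s ∉ R) (hT : IsTet L z a b c d) :
    Eqz (s * (a * b) * s⁻¹) (a * c) ∨ Eqz (s * (a * b) * s⁻¹) (a * d) := by
  have hsz := E_z hs.1
  have mab := not_eqz hs hsR (pair_mem hT) (pair_ne hT).1 (pair_ne hT).2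
  have kcd : Eqz (c * d) (a * b) := eqz_compl hT
  have kbd : Eqz (b * d) (a * c) := eqz_compl hT.sw23
  have kbc : Eqz (b * c) (a * d) := eqz_compl hT.sw34.sw23
  have hcm : ∀ u v : Spor.Fi24, s * (u * v) * s⁻¹ = (s * u * s⁻¹) * (s * v * s⁻¹) := fun u v => by group
  have hfix := small s hs
  have hDz : ∀ {x y u v : Spor.Fi24}, IsTet L z x y u v → x ∈ Dz := by
    intro x y u v h
    refine ⟨h.ha, ?_⟩
    have h1 : Commute x (x * y * u * v) :=
      (((Commute.refl x).mul_right h.ab).mul_right h.ac).mul_right h.ad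
    rw [h.prod] at h1
    exact h1.eq
  have mem4 : ∀ {x y u v : Spor.Fi24}, IsTet L z x y u v → s * x * s⁻¹ = x ∨ s * x * s⁻¹ = y ∨ s * x * s⁻¹ = u ∨
      s * x * s⁻¹ = v := by
    intro x y u v h
    rcases hfix x (hDz h) with h1 | h1
    · exact Or.inl h1
    · exact Or.inr (h.mate_cases Tet.tr h1)
  have ha4 := mem4 hT
  have hb4 := mem4 hT.sw12
  have hne : s * a * s⁻¹ ≠ s * b * s⁻¹ := fun h1 => hT.nab (mul_left_cancel (mul_right_cancel h1))
  rw [hcm]
  rw [hcm] at mab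
  have r1 : Eqz (b * a) (a * b) := Or.inl hT.ab.eq.symm
  have r2 : Eqz (d * c) (a * b) := by rw [← hT.cd.eq]; exact kcd
  have r3 : Eqz (c * a) (a * c) := Or.inl hT.ac.eq.symm
  have r4 : Eqz (d * b) (a * c) := by rw [← hT.bd.eq]; exact kbd
  have r5 : Eqz (d * a) (a * d) := Or.inl hT.ad.eq.symm
  have r6 : Eqz (c * b) (a * d) := by rw [← hT.bc.eq]; exact kbc
  have r0 : ∀ x : Spor.Fi24, Eqz x x := fun x => Or.inl rfl
  rcases ha4 with h1 | h1 | h1 | h1 <;> rcases hb4 with h2 | h2 | h2 | h2 <;> rw [h1, h2] at hne mab <;>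
    rw [h1, h2]
  · exact absurd (r0 _) mab
  · exact absurd rfl hne
  · exact Or.inl (r0 _)
  · exact Or.inr (r0 _)
  · exact absurd rfl hne
  · exact absurd r1 mab
  · exact Or.inr kbc
  · exact Or.inl kbd
  · exact Or.inr r6
  · exact Or.inl r3
  · exact absurd rfl hne
  · exact absurd kcd mab
  · exact Or.inl r4
  · exact Or.inr r5
  · exact absurd r2 mab
  · exact absurd rfl hne

omit T hA in
/-- the products of the pairs -/
theorem prods {a b c d : Spor.Fi24} (hT : IsTet L z a b c d) : Eqz (a * b * (a * c)) (a * d) := by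
  have haa : a * a = 1 := Cfsg.Agent.R08.FiTwentyFour.sq hT.ha
  have e1 : a * b * (a * c) = b * c := by
    calc a * b * (a * c) = a * (b * a) * c := by simp only [mul_assoc]
      _ = a * (a * b) * c := by rw [hT.ab.eq]
      _ = (a * a) * (b * c) := by simp only [mul_assoc]
      _ = b * c := by rw [haa, one_mul]
  rw [e1]; exact eqz_compl hT.sw34.sw23

omit T hA in
/-- the action on the pairs is a 3-cycle -/
theorem three_cycle {s a b c d : Spor.Fi24} (hs : s ∈ Zc) (hsR : s ∉ R) (hT : IsTet L z a b c d)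
    (h : Eqz (s * (a * b) * s⁻¹) (a * c)) :
    Eqz (s * (a * c) * s⁻¹) (a * d) ∧ Eqz (s * (a * d) * s⁻¹) (a * b) := by
  have hsz := E_z hs.1
  have hcm : ∀ u v : Spor.Fi24, s * (u * v) * s⁻¹ = (s * u * s⁻¹) * (s * v * s⁻¹) := fun u v => by group
  have zac := Rz (pair_mem hT.sw23)
  have mad := not_eqz hs hsR (pair_mem hT.sw34.sw23) (pair_ne hT.sw34.sw23).1 (pair_ne hT.sw34.sw23).2
  have h1 : Eqz (s * (a * c) * s⁻¹) (a * d) := by
    rcases step hs hsR hT.sw23 with h4 | h4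
    · exfalso
      -- `a c → a b`: then `a d` is fixed
      have h5 := h.mul zac h4
      rw [← hcm] at h5
      exact mad (((prods hT).symm.conj hsz).trans (h5.trans (prods hT.sw23)))
    · exact h4
  refine ⟨h1, ?_⟩
  have h5 := h.mul zac h1
  rw [← hcm] at h5
  exact ((prods hT).symm.conj hsz).trans (h5.trans (prods hT.sw23.sw34))

omit T hA in
/-- **an odd permutation of a tetrad inverts `Zc / R`** -/
theorem exists_inv : ∃ g ∈ commutator Spor.Fi24, g * z = z * g ∧ ∀ s ∈ Zc, g * s * g⁻¹ * s ∈ R := by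
  have hT := Order.hT
  generalize D 0 0 = a at hT
  generalize D 0 1 = b at hT
  generalize D 0 2 = c at hT
  generalize D 0 3 = d at hT
  obtain ⟨g, hg, ga, gb, gc, gd⟩ := Cfsg.Agent.R08.TetBig.quad Cfsg.Agent.R08.TetBigInst.hyp hT hT.sw12
  have hgz : g * z * g⁻¹ = z := by
    rw [← hT.prod, Cfsg.Agent.R08.TetBig.conj_mul, Cfsg.Agent.R08.TetBig.conj_mul, Cfsg.Agent.R08.TetBig.conj_mul,
      ga, gb, gc, gd, hT.ab.eq]
  have hgz' : g * z = z * g := mul_inv_eq_iff_eq_mul.1 hgz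
  refine ⟨g, hg, hgz', fun s hs => ?_⟩
  by_cases hsR : s ∈ R
  · exact R.mul_mem (R_norm hgz' hsR) hsR
  have hsz := E_z hs.1
  -- the action of `g`
  have gab : Eqz (g * (a * b) * g⁻¹) (a * b) := by
    left; rw [Cfsg.Agent.R08.TetBig.conj_mul, ga, gb, hT.ab.eq]
  have gac : Eqz (g * (a * c) * g⁻¹) (a * d) := by
    rw [Cfsg.Agent.R08.TetBig.conj_mul, ga, gc]; exact eqz_compl hT.sw34.sw23
  have gad : Eqz (g * (a * d) * g⁻¹) (a * c) := by
    rw [Cfsg.Agent.R08.TetBig.conj_mul, ga, gd]; exact eqz_compl hT.sw23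
  have hgi : g⁻¹ * z = z * g⁻¹ := z_comm_inv hgz'
  have giac : Eqz (g⁻¹ * (a * c) * g⁻¹⁻¹) (a * d) := by
    have h1 := (gad.symm).conj hgi
    have e1 : g⁻¹ * (g * (a * d) * g⁻¹) * g⁻¹⁻¹ = a * d := by group
    rwa [e1] at h1
  have giad : Eqz (g⁻¹ * (a * d) * g⁻¹⁻¹) (a * c) := by
    have h1 := (gac.symm).conj hgi
    have e1 : g⁻¹ * (g * (a * c) * g⁻¹) * g⁻¹⁻¹ = a * c := by group
    rwa [e1] at h1
  have fin : Eqz (g * s * g⁻¹ * s * (a * b) * (g * s * g⁻¹ * s)⁻¹) (a * b) := by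
    have e1 : g * s * g⁻¹ * s * (a * b) * (g * s * g⁻¹ * s)⁻¹ =
        g * (s * (g⁻¹ * (s * (a * b) * s⁻¹) * g⁻¹⁻¹) * s⁻¹) * g⁻¹ := by group
    rw [e1]
    rcases step hs hsR hT with h1 | h1
    · obtain ⟨-, h2⟩ := three_cycle hs hsR hT h1
      exact (((((h1.conj hgi).trans giac).conj hsz).trans h2).conj hgz').trans gab
    · obtain ⟨-, h2⟩ := three_cycle hs hsR hT.sw34 h1
      exact (((((h1.conj hgi).trans giad).conj hsz).trans h2).conj hgz').trans gab
  exact mem_R_of_fix (Zc.mul_mem (Zc_norm hgz' hs) hs) (pair_mem hT) (pair_ne hT).1 (pair_ne hT).2 fin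

/-- `s² ∈ R`, `s³ ∈ R` imply `s ∈ R` -/
theorem mem_R_of_sq {s : Spor.Fi24} (hs : s ∈ Zc) (h2 : s * s ∈ R) : s ∈ R := by
  have h3 := cube_mem T hA hs
  have h4 : s = (s * s)⁻¹ * s ^ 3 := by
    rw [pow_succ, pow_two]; group
  rw [h4]
  exact R.mul_mem (R.inv_mem h2) h3

/-- the elements of `C(z)` outside `E` invert `Zc / R` -/
theorem inv_all {g : Spor.Fi24} (hg : g ∈ commutator Spor.Fi24) (hgz : g * z = z * g) (hgE : g ∉ E) {s : Spor.Fi24}
    (hs : s ∈ Zc) : g * s * g⁻¹ * s ∈ R := by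
  obtain ⟨g0, hg0, hg0z, h0⟩ := exists_inv
  have hg0E : g0 ∉ E := by
    intro h
    obtain ⟨t, ht, htR⟩ := exists_s T hA
    apply htR
    apply mem_R_of_sq T hA ht
    have h1 := h0 t ht
    have h2 := comm_Zc h ht
    have h3 : t * t = (⁅g0, t⁆)⁻¹ * (g0 * t * g0⁻¹ * t) := by rw [commutatorElement_def]; group
    rw [h3]
    exact R.mul_mem (R.inv_mem h2) h1
  have he : g0⁻¹ * g ∈ E := mul_mem_E T hA ((commutator Spor.Fi24).inv_mem hg0) (z_comm_inv hg0z)
    (fun h => hg0E (by have := E.inv_mem h; rwa [inv_inv] at this)) hg hgz hgE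
  have h1 := comm_Zc he hs
  have h2 : g * s * g⁻¹ * s = g0 * ⁅g0⁻¹ * g, s⁆ * g0⁻¹ * (g0 * s * g0⁻¹ * s) := by
    rw [commutatorElement_def]; group
  rw [h2]
  exact R.mul_mem (R_norm hg0z h1) (h0 s hs)

/-- **the local condition** -/
theorem loc {f : Spor.Fi24} (hf : f ^ 3 = 1) (hfK : f ∈ _root_.commutator Spor.Fi24) (hfz : f * z = z * f)
    {Y : Subgroup Spor.Fi24} (hYK : Y ≤ commutator Spor.Fi24) (hYz : ∀ y ∈ Y, y * z = z * y)
    (hYf : ∀ y ∈ Y, y * f = f * y) (hcop : (Nat.card Y).Coprime 3)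
    (hYn : ∀ c ∈ _root_.commutator Spor.Fi24, c * z = z * c → c * f = f * c → ∀ y ∈ Y, c * y * c⁻¹ ∈ Y) : Y ≤ R := by
  have hfE := mem_E_of_cube T hA hf hfK hfz
  have h1 : Y ⊓ E ≤ R := by
    refine le_R_of_le_E T hA (f := ⟨f, hfE⟩) hf inf_le_right ?_ (fun y hy => hYf y hy.1) ?_
    · exact Nat.Coprime.coprime_dvd_left (card_dvd_of_le inf_le_left) hcop
    · intro g hg hgf y hy
      exact ⟨hYn g (frame.EK hg) (E_z hg) hgf y hy.1, E.mul_mem (E.mul_mem hg hy.2) (E.inv_mem hg)⟩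
  intro y hy
  by_cases hyE : y ∈ E
  · exact h1 ⟨hy, hyE⟩
  exfalso
  obtain ⟨s, hs, hsR⟩ := exists_s T hA
  have h2 : ⁅s, f⁆ ∈ R := by
    rw [← commutatorElement_inv]
    exact R.inv_mem (comm_Zc hfE hs)
  obtain ⟨r, hr, hc⟩ := exists_comm hf hfz (E_z (Zc_le hs)) h2
  have hcZ : s * r ∈ Zc := Zc.mul_mem hs (R_le_Zc hr)
  have hcR : s * r ∉ R := fun h => hsR (by
    have := R.mul_mem h (R.inv_mem hr)
    rwa [mul_inv_cancel_right] at this)
  generalize s * r = c at hc hcZ hcR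
  have hcE := Zc_le hcZ
  apply hcR
  apply mem_R_of_sq T hA hcZ
  have h3 : c * y * c⁻¹ * y⁻¹ ∈ Y := Y.mul_mem (hYn c (frame.EK hcE) (E_z hcE) hc y hy) (Y.inv_mem hy)
  have h4 : c * y * c⁻¹ * y⁻¹ ∈ E := by
    have h5 := Zc_le (Zc_norm (hYz y hy) (Zc.inv_mem hcZ))
    have h6 : c * y * c⁻¹ * y⁻¹ = c * (y * c⁻¹ * y⁻¹) := by group
    rw [h6]
    exact E.mul_mem hcE h5
  have h5 := h1 ⟨h3, h4⟩
  have h6 := inv_all T hA (hYK hy) (hYz y hy) hyE hcZ
  have h7 : c * c = c * y * c⁻¹ * y⁻¹ * (y * c * y⁻¹ * c) := by group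
  rw [h7]
  exact R.mul_mem h5 h6

/-- **no element of order 7 of `C(z)` commutes with `f`** -/
theorem not_seven {f y : Spor.Fi24} (hf : f ^ 3 = 1) (hfK : f ∈ _root_.commutator Spor.Fi24) (hfz : f * z = z * f)
    (hfZ : f ∉ Zc) (hy : orderOf y = 7) (hyK : y ∈ _root_.commutator Spor.Fi24) (hyz : y * z = z * y)
    (hyf : y * f = f * y) : False := by
  have hfE := mem_E_of_cube T hA hf hfK hfz
  have hy7 : y ^ 7 = 1 := hy ▸ pow_orderOf_eq_one y
  have hyE : y ∈ E := by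
    by_contra hcon
    have h1 := mul_mem_E T hA hyK hyz hcon hyK hyz hcon
    apply hcon
    have h2 : y = (y * y) ^ 4 := by
      rw [← pow_two, ← pow_mul]
      calc y = y ^ 7 * y := by rw [hy7, one_mul]
        _ = y ^ (2 * 4) := by rw [← pow_succ]
    rw [h2]
    exact E.pow_mem h1 4
  have hyZ : y ∉ Zc := by
    intro h
    have h1 := _root_.orderOf_dvd_natCard (⟨y, h⟩ : ↥Zc)
    rw [orderOf_mk, hy, card_Zc_eq T hA] at h1
    norm_num at h1
  have hmf : orderOf (mk ⟨f, hfE⟩) = 3 := by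
    apply orderOf_eq_prime
    · have : (⟨f, hfE⟩ : ↥E) ^ 3 = 1 := Subtype.ext hf
      have h1 : (mk ⟨f, hfE⟩) ^ 3 = mk (⟨f, hfE⟩ ^ 3) := rfl
      rw [h1, this]; rfl
    · intro h; exact hfZ (mk_eq_one.1 h)
  have hF7 : Fact (Nat.Prime 7) := ⟨by norm_num⟩
  have hmy : orderOf (mk ⟨y, hyE⟩) = 7 := by
    apply orderOf_eq_prime
    · have : (⟨y, hyE⟩ : ↥E) ^ 7 = 1 := Subtype.ext hy7
      have h1 : (mk ⟨y, hyE⟩) ^ 7 = mk (⟨y, hyE⟩ ^ 7) := rfl
      rw [h1, this]; rfl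
    · intro h; exact hyZ (mk_eq_one.1 h)
  refine no_seven (known T hA).2 not_comm ?_ hmf hmy ?_
  · rw [(known T hA).1]; norm_num
  · show mk (⟨f, hfE⟩ * ⟨y, hyE⟩) = mk (⟨y, hyE⟩ * ⟨f, hfE⟩)
    congr 1
    exact Subtype.ext hyf.symm

end Cfsg.Agent.PreUniq.FiTF.Z

end
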