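import Cfsg.Agent.PreUniq.Transport
import Cfsg.Agent.Prune
set_option linter.all false
prune_inst 0x7f00000000000000000000000000000000000000000000000000000000000000000000000000000000000000000000000000000000000000000000000000000000000000000000000000000000000000003fffffffffffffffffffffffffffbeffbdffffffff
open scoped Cfsg.Agent.FastGrp

/-!
No `p`-component preuniqueness subgroups in groups of (local) characteristic `p`.

* `noPre_of_charP` : if `N_G(⟨x⟩)` has characteristic `p` for all `x` of order `p`, then `NoPre p G`;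
* `noPre_of_solvable` : if `C_G(x)` is solvable for all `x` of order `p`, then `NoPre p G`.
-/

set_option autoImplicit false

namespace Cfsg.Agent.PreUniq

variable {G : Type*} [Group G] {p : ℕ} {M K : Subgroup G}

/-- A group whose `p`-core contains its centralizer has no component. -/
theorem not_isComponent_of_char {N : Type*} [Group N] [Finite N] {p : ℕ} [Fact p.Prime]
    (h : Subgroup.centralizer (pCore p N : Set N) ≤ pCore p N) {L : Subgroup N} : ¬ IsComponent L := by
  intro hL
  have hn : (pCore p N).Normal := Cfsg.Agent.Lib.Cores.pCore_normal p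
  have hp : IsPGroup p ↥(pCore p N) := Cfsg.Agent.Lib.Cores.pCore_isPGroup p
  have hs : Group.IsSolvable ↥(pCore p N) :=
    have := hp.isNilpotent
    inferInstance
  have h1 := Cfsg.Agent.Lib.ComponentSolvable.commutator_component_solvable_eq_bot hL hs
    (by rw [Subgroup.normalizer_eq_top]; exact le_top)
  have h2 : L ≤ pCore p N := (Subgroup.commutator_eq_bot_iff_le_centralizer.1 h1).trans h
  have h3 : IsPGroup p ↥L := hp.to_le h2
  have h4 : Group.IsSolvable ↥L :=
    have := h3.isNilpotent
    inferInstance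
  exact Cfsg.Agent.Lib.ComponentSolvable.quasisimple_not_solvable hL.2 h4

/-- A group whose `p`-core contains its centralizer has trivial `p'`-core. -/
theorem pPrimeCore_eq_bot_of_char {N : Type*} [Group N] [Finite N] {p : ℕ} [Fact p.Prime]
    (h : Subgroup.centralizer (pCore p N : Set N) ≤ pCore p N) : pPrimeCore p N = ⊥ := by
  have h1 : pCore p N ⊓ pPrimeCore p N = ⊥ := Cfsg.Agent.Lib.Cores.pCore_inf_pPrimeCore p
  have hn : (pCore p N).Normal := Cfsg.Agent.Lib.Cores.pCore_normal p
  have hn' : (pPrimeCore p N).Normal := Cfsg.Agent.Lib.Cores.pPrimeCore_normal p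
  have h2 : ⁅pPrimeCore p N, pCore p N⁆ = ⊥ := by
    rw [eq_bot_iff, ← h1, inf_comm]
    exact Subgroup.commutator_le_inf _ _
  have h3 : pPrimeCore p N ≤ pCore p N := (Subgroup.commutator_eq_bot_iff_le_centralizer.1 h2).trans h
  rw [← h1, inf_eq_right.2 h3]

/-- A preuniqueness pair gives an element `x` of order `p` and a component of `C_G(⟨x⟩) / O_{p'}(C_G(⟨x⟩))`. -/
theorem exists_component [Finite G] [hp : Fact p.Prime] (h : PreuniquenessHypothesis p M K) :
    ∃ x ∈ perp p M K, orderOf x = p ∧
      IsComponent (bar p (Subgroup.centralizer (Subgroup.zpowers x : Set G)) K) := by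
  obtain ⟨E, hE, hg⟩ := exists_grip hp.out h
  obtain ⟨x, hx, hx1⟩ := E.bot_or_exists_ne_one.resolve_left (hg.ne_bot hp.out)
  have hxp : orderOf x = p := orderOf_eq hp.out hg.1.2 hx hx1
  refine ⟨x, hE hx, hxp, (isComponent_centralizer h.1 (R := Subgroup.zpowers x) ?_ ?_ ?_).1⟩
  · rw [Subgroup.zpowers_le]
    exact hE hx
  · rw [IsPGroup.iff_card]
    exact ⟨1, by rw [Nat.card_zpowers, hxp, pow_one]⟩
  · rw [Ne, Subgroup.zpowers_eq_bot]
    exact hx1

/-- **No preuniqueness subgroups in groups of characteristic `p`.** -/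
theorem noPre_of_charP [Finite G] [hp : Fact p.Prime]
    (hG : ∀ x : G, orderOf x = p →
      Subgroup.centralizer (pCore p ↥(Subgroup.normalizer (Subgroup.zpowers x : Set G)) :
        Set ↥(Subgroup.normalizer (Subgroup.zpowers x : Set G))) ≤
      pCore p ↥(Subgroup.normalizer (Subgroup.zpowers x : Set G))) : NoPre p G := by
  intro M K h
  obtain ⟨x, hx, hxp, hcomp⟩ := exists_component h
  set R := Subgroup.zpowers x with hR
  set N := Subgroup.normalizer (R : Set G) with hN
  set C := Subgroup.centralizer (R : Set G) with hC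
  have hCN : C ≤ N := Subgroup.centralizer_le_normalizer _
  have hchar := hG x hxp
  have hCn : (C.subgroupOf N).Normal := Subgroup.normal_subgroupOf_centralizer_normalizer _
  -- `O_{p'}(C) = 1`
  let e : ↥(C.subgroupOf N) ≃* ↥C := Subgroup.subgroupOfEquivOfLe hCN
  have hcore' : pPrimeCore p ↥(C.subgroupOf N) = ⊥ := by
    have h1 := Cfsg.Agent.Lib.Cores.map_subtype_pPrimeCore p hCn
    rw [pPrimeCore_eq_bot_of_char hchar, inf_bot_eq, Subgroup.map_eq_bot_iff, Subgroup.ker_subtype, le_bot_iff] at h1
    exact h1
  have hcore : pPrimeCore p ↥C = ⊥ := by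
    rw [← Cfsg.Agent.Lib.Cores.map_equiv_pPrimeCore e p, hcore', Subgroup.map_bot]
  -- the component of `C`
  have hinj : Function.Injective (QuotientGroup.mk' (pPrimeCore p ↥C)) := by
    rw [← MonoidHom.ker_eq_bot_iff, QuotientGroup.ker_mk', hcore]
  let e1 : (↥C) ≃* (↥C ⧸ pPrimeCore p ↥C) :=
    MulEquiv.ofBijective (QuotientGroup.mk' (pPrimeCore p ↥C)) ⟨hinj, QuotientGroup.mk'_surjective _⟩
  have h1 := Cfsg.Agent.SignalizersComponents.Components.isComponent_map_equiv (e1.symm.trans e.symm) hcomp
  have h2 := Cfsg.Agent.SignalizersComponents.Components.isComponent_map_subtype hCn.isSubnormal h1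
  exact not_isComponent_of_char hchar h2

/-- **No preuniqueness subgroups if the centralizers of elements of order `p` are solvable.** -/
theorem noPre_of_solvable [Finite G] [hp : Fact p.Prime]
    (hG : ∀ x : G, orderOf x = p → Group.IsSolvable ↥(Subgroup.centralizer ({x} : Set G))) : NoPre p G := by
  intro M K h
  obtain ⟨x, hx, hxp, -⟩ := exists_component h
  have hRE : Subgroup.zpowers x ≤ perp p M K := by
    rw [Subgroup.zpowers_le]
    exact hx
  have hRp : IsPGroup p (Subgroup.zpowers x) := by
    rw [IsPGroup.iff_card]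
    exact ⟨1, by rw [Nat.card_zpowers, hxp, pow_one]⟩
  refine not_isSolvable_fix h.1.2.1 h.1.2.2.1 hRE hRp ?_
  have h1 := hG x hxp
  have h2 : K ⊓ Subgroup.centralizer (Subgroup.zpowers x : Set G) ≤ Subgroup.centralizer ({x} : Set G) :=
    inf_le_right.trans (Subgroup.centralizer_le (Set.singleton_subset_iff.2 (Subgroup.mem_zpowers x)))
  exact Group.isSolvable_of_isSolvable_injective (f := Subgroup.inclusion h2) (Subgroup.inclusion_injective h2)

end Cfsg.Agent.PreUniq
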