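import Cfsg.Agent.KFacts.RgdLieCharP
import Cfsg.Agent.Solvable.SZ
import Cfsg.Agent.PreUniq.Transport
import Cfsg.Agent.PreUniq.FT
import Cfsg.Agent.PreUniq.Assembly
import Mathlib
import Cfsg.Agent.LieClassical.OrthFinite
import Cfsg.Agent.LieClassical.OrthForms
import Cfsg.Agent.LieClassical.SympCenter
import Cfsg.Agent.ClassicalGeometry.SympBasic
import Cfsg.Agent.LieClassical.SUBasic
import Cfsg.Agent.ClassicalGeometry.UnitTransv
import Cfsg.Agent.PreUniq.Local
import Cfsg.Agent.LieRecognition.ReeSplit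
import Cfsg.Agent.ChevalleyStructure.Ree.Data
import Cfsg.Agent.PreUniq.RPBase
import Cfsg.Agent.SignalizersComponents.CompBasic
import Cfsg.Agent.BiChar.CycSyl
import Cfsg.Agent.S0262
import Cfsg.Agent.S0242
import Cfsg.Agent.H165.RV.HexLin
import Cfsg.Agent.PreUniq.LowExc.Index
import Cfsg.Agent.Cit.HexG2
import Cfsg.Agent.Cit.HexD4
import Cfsg.Agent.ChevalleyStructure.FixedCard
import Cfsg.Agent.S1059
import Cfsg.Agent.S1067
import Cfsg.Agent.FastGrp
import Cfsg.Agent.Prune
set_option linter.all false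
prune_inst 0x7ffcb8fba9b82ddffdff7e7fafdcdffc39901fffa6dff94bbfe02bcf3bdf23080dc52bad89e080fe0ee3623410b87803f9ffceffe26bdc7ffffd5df41ffbee0ff5f7b50851d68c340fbc0ff683f0778e7f3fffffffffffffffffffffffffffbeffbdffffffff
open scoped Cfsg.Agent.FastGrp

-- merged: Cfsg.Agent.PreUniq.LeviPair
section

/-!
# Opposite unipotent radicals normalized by an `r'`-subgroup (helper50)

* `exists_conj_le` : in a finite group, an `r'`-subgroup of `L V` (`V` an `r`-group normalized by `L`, `L ⊓ V = ⊥`) is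
  conjugate into `L`;
* `levi_pair` : `G` simple with a (filtered) root group datum in characteristic `r`; if the `r'`-subgroup `E` normalizes a
  nontrivial `r`-subgroup, then `E` normalizes two `r`-subgroups which generate `G`.
-/

set_option autoImplicit false
set_option linter.unusedSectionVars false

namespace Cfsg.Agent.PreUniq.LeviPair

open CoxeterSystem Cfsg.Agent.ChevalleyStructure.CoxeterGeom Cfsg.Agent.Tits.Roots Cfsg.Agent.Tits.Core
  Cfsg.Agent.Tits.RootComb Cfsg.Agent.Tits.Exchange Cfsg.Agent.Nodes.Reps Cfsg.Agent.Nodes.BNOf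
  Cfsg.Agent.Nodes.StabComb Cfsg.Agent.Nodes.Bruhat Cfsg.Agent.Nodes.OppDec Cfsg.Agent.Nodes.LeviDec
  Cfsg.Agent.Nodes.NormX Cfsg.Agent.KFacts.RgdPar Cfsg.Agent.KFacts.RgdCent Cfsg.Agent.KFacts.RgdEx
  Cfsg.Agent.KFacts.RgdVJ Cfsg.Agent.KFacts.RgdCharP Cfsg.Agent.KFacts.RgdLieCharP Cfsg.Agent.KFacts.RgdFilt
open Pointwise

/-- Conjugating an `r'`-subgroup of `L V` into `L`. -/
theorem exists_conj_le {Y : Type*} [Group Y] [Finite Y] {r : ℕ} [hr : Fact r.Prime] {L V E : Subgroup Y}
    (hV : IsPGroup r V) (hLV : L ≤ Subgroup.normalizer (V : Set Y)) (hinf : L ⊓ V = ⊥)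
    (hE : (Nat.card E).Coprime r) (hEP : E ≤ L ⊔ V) : ∃ x : Y, E ≤ cj x L := by
  classical
  -- the group `H = E V`
  set H : Subgroup Y := E ⊔ V with hH
  have hVH : V ≤ H := le_sup_right
  have hEH : E ≤ H := le_sup_left
  have hHP : H ≤ L ⊔ V := sup_le hEP le_sup_right
  have hPn : L ⊔ V ≤ Subgroup.normalizer (V : Set Y) := sup_le hLV Subgroup.le_normalizer
  set N : Subgroup H := V.subgroupOf H with hN
  have hNn : N.Normal := (Subgroup.normal_subgroupOf_iff_le_normalizer hVH).2 (hHP.trans hPn)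
  have hNp : IsPGroup r N := hV.comap_of_injective H.subtype H.subtype_injective
  obtain ⟨k, hk⟩ := hNp.exists_card_eq
  -- first complement
  set E' : Subgroup H := E.subgroupOf H with hE'
  have hE'c : (Nat.card E').Coprime r := by
    rw [hE', Nat.card_congr (Subgroup.subgroupOfEquivOfLe hEH).toEquiv]
    exact hE
  have hdisj : Disjoint N E' := by
    rw [disjoint_iff]
    apply Subgroup.inf_eq_bot_of_coprime
    rw [hk]
    exact Nat.Coprime.pow_left k hE'c.symm
  have hsup : N ⊔ E' = ⊤ := by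
    rw [hN, hE', ← Subgroup.subgroupOf_sup hVH hEH, sup_comm, ← hH, Subgroup.subgroupOf_self]
  have hc1 : Subgroup.IsComplement' N E' := by
    apply Subgroup.isComplement'_of_disjoint_and_mul_eq_univ hdisj
    rw [← Subgroup.normal_mul, hsup]
    rfl
  -- second complement
  set L' : Subgroup H := L.subgroupOf H with hL'
  have hdisj2 : Disjoint N L' := by
    rw [disjoint_iff, eq_bot_iff]
    intro y hy
    have h1 : (y : Y) ∈ L ⊓ V := ⟨hy.2, hy.1⟩
    rw [hinf, Subgroup.mem_bot] at h1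
    exact Subtype.ext h1
  have hsup2 : N ⊔ L' = ⊤ := by
    rw [eq_top_iff]
    intro y _
    have h1 : (y : Y) ∈ ((L ⊔ V : Subgroup Y) : Set Y) := hHP y.2
    rw [Subgroup.coe_mul_of_left_le_normalizer_right L V hLV] at h1
    obtain ⟨l, hl, v, hv, hlv⟩ := h1
    have hlH : l ∈ H := by
      have h2 : l = (y : Y) * v⁻¹ := by rw [← hlv]; simp
      rw [h2]
      exact mul_mem y.2 (inv_mem (hVH hv))
    have h3 : y = (⟨l, hlH⟩ : H) * ⟨v, hVH hv⟩ := Subtype.ext hlv.symm
    rw [h3]
    exact mul_mem (le_sup_right (a := N) (b := L') hl) (le_sup_left (a := N) (b := L') hv)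
  have hc2 : Subgroup.IsComplement' N L' := by
    apply Subgroup.isComplement'_of_disjoint_and_mul_eq_univ hdisj2
    rw [← Subgroup.normal_mul, hsup2]
    rfl
  have hcop : (Nat.card N).Coprime N.index := by
    rw [hc1.symm.index_eq_card, hk]
    exact Nat.Coprime.pow_left k hE'c.symm
  have hsolv : Group.IsSolvable N := by
    have := hNp.isNilpotent
    infer_instance
  obtain ⟨g, hg⟩ := Cfsg.Agent.Solvable.SZ.main (Nat.card H) H rfl N hcop L' E' (Or.inl hsolv)
    hc2.symm.index_eq_card.symm hc1.symm.index_eq_card.symm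
  refine ⟨(g : Y), fun e he => ?_⟩
  have h1 : (⟨e, hEH he⟩ : H) ∈ E' := he
  rw [← hg, Subgroup.mem_pointwise_smul_iff_inv_smul_mem] at h1
  rw [mem_cj]
  have h2 : ((g⁻¹ * ⟨e, hEH he⟩ * g : H) : Y) ∈ L := by
    have h3 : (MulAut.conj g)⁻¹ • (⟨e, hEH he⟩ : H) = g⁻¹ * ⟨e, hEH he⟩ * g := by
      rw [← map_inv, MulAut.smul_def, MulAut.conj_apply, inv_inv]
    rw [h3] at h1
    exact h1
  simpa only [_root_.Subgroup.coe_mul, _root_.InvMemClass.coe_inv] using h2

theorem normalizer_cj' {Y : Type*} [Group Y] {A B : Subgroup Y} (g : Y)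
    (hAB : A ≤ Subgroup.normalizer (B : Set Y)) : cj g A ≤ Subgroup.normalizer (cj g B : Set Y) := by
  intro a ha
  rw [mem_cj] at ha
  have h1 := hAB ha
  rw [mem_normalizer_iff_cj] at h1 ⊢
  have h2 : a * g = g * (g⁻¹ * a * g) := by group
  rw [← cj_mul, h2, cj_mul, h1]

variable {G : Type*} [Group G] [Finite G] [IsSimpleGroup G] {r : ℕ} [hr : Fact r.Prime]

/-- **Opposite unipotent radicals**: if the `r'`-subgroup `E` of the simple group `G` of Lie type in characteristic `r`
normalizes a nontrivial `r`-subgroup, then it normalizes two `r`-subgroups generating `G`. -/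
theorem levi_pair (hG : HasFilt r G) (hc : ∃ a b : G, a * b ≠ b * a) {R : Subgroup G} (hR : IsPGroup r R)
    (hR1 : R ≠ ⊥) {E : Subgroup G} (hE : (Nat.card E).Coprime r) (hEn : E ≤ Subgroup.normalizer (R : Set G)) :
    ∃ U V : Subgroup G, IsPGroup r U ∧ IsPGroup r V ∧ E ≤ Subgroup.normalizer (U : Set G) ∧
      E ≤ Subgroup.normalizer (V : Set G) ∧ U ⊔ V = ⊤ := by
  obtain ⟨l, M, A, h, T, n, X, Rg, hW, hBT, hGG, hN, hconn, hX, hl⟩ := hG.data hc
  obtain ⟨g, J, hJ, h1, h2⟩ := hBT R hR hR1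
  have hE2 : E ≤ cj g (PJ M.toCoxeterSystem h T X J) := hEn.trans h2
  have hE3 : cj g⁻¹ E ≤ LJ M.toCoxeterSystem h T X J ⊔ VJ M.toCoxeterSystem h X J := by
    have := cj_mono g⁻¹ hE2
    rwa [cj_inv_cj] at this
  have hE4 : (Nat.card (cj g⁻¹ E)).Coprime r := by
    unfold cj
    rwa [Nat.card_congr (E.equivMapOfInjective _ (MulAut.conj g⁻¹).injective).toEquiv.symm]
  obtain ⟨x, hx⟩ := exists_conj_le (isPGroup_VJ Rg J) (LJ_le_normalizer_VJ Rg J) (LJ_inf_VJ Rg J) hE4 hE3
  have hx2 : E ≤ cj (g * x) (LJ M.toCoxeterSystem h T X J) := by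
    have := cj_mono g hx
    rwa [cj_cj_inv, ← cj_mul] at this
  have hVN : IsPGroup r (VNJ M.toCoxeterSystem h X J) := by
    have h3 : VNJ M.toCoxeterSystem h X J ≤ UN M.toCoxeterSystem h X := VNJ_le_UN J
    obtain ⟨k, hk⟩ := exists_rp M.toCoxeterSystem Rg.nsys (w0 M.toCoxeterSystem)
    have h4 := cj_U Rg hk
    have h5 : IsPGroup r (UN M.toCoxeterSystem h X) := by
      rw [← h4]
      unfold cj
      exact (Rg.isPGroup_Upos).map _
    exact h5.to_le h3
  refine ⟨cj (g * x) (VJ M.toCoxeterSystem h X J), cj (g * x) (VNJ M.toCoxeterSystem h X J), ?_, ?_, ?_, ?_, ?_⟩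
  · unfold cj
    exact (isPGroup_VJ Rg J).map _
  · unfold cj
    exact hVN.map _
  · exact hx2.trans (normalizer_cj' _ (LJ_le_normalizer_VJ Rg J))
  · exact hx2.trans (normalizer_cj' _ (LJ_le_normalizer_VNJ Rg J))
  · rw [← cj_sup]
    have key : VJ M.toCoxeterSystem h X J ⊔ VNJ M.toCoxeterSystem h X J = ⊤ := by
      set D := VJ M.toCoxeterSystem h X J ⊔ VNJ M.toCoxeterSystem h X J with hD
      have hnorm : D.Normal := by
        rw [← Subgroup.normalizer_eq_top_iff, eq_top_iff, ← hX]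
        refine RGD.Sup_le fun y hy => ?_
        have hLn : LJ M.toCoxeterSystem h T X J ≤ Subgroup.normalizer (D : Set G) := by
          intro a ha
          rw [mem_normalizer_iff_cj, hD, cj_sup]
          have h3 := mem_normalizer_iff_cj.1 (LJ_le_normalizer_VJ Rg J ha)
          have h4 := mem_normalizer_iff_cj.1 (LJ_le_normalizer_VNJ Rg J ha)
          rw [h3, h4]
        rcases hy.pos_or_neg with h0 | h0
        · rcases mem_PosJ_or_NotJ J hy h0 with h3 | h3
          · exact (X_le_LJ (PosJ_subset _ h3)).trans hLn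
          · exact ((RGD.le_Sup h3).trans (le_sup_left : VJ M.toCoxeterSystem h X J ≤ D)).trans
              Subgroup.le_normalizer
        · rcases mem_PosJ_or_NotJ J hy.neg (neg_nonneg.2 h0) with h3 | h3
          · refine (X_le_LJ ?_).trans hLn
            refine ⟨hy, fun k hk => ?_⟩
            have h4 := h3.2.2 k hk
            rwa [Pi.neg_apply, neg_eq_zero] at h4
          · have h4 : y ∈ NotNJ M.toCoxeterSystem h J := h3
            exact ((RGD.le_Sup h4).trans (le_sup_right : VNJ M.toCoxeterSystem h X J ≤ D)).trans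
              Subgroup.le_normalizer
      rcases hnorm.eq_bot_or_eq_top with h3 | h3
      · exfalso
        obtain ⟨i, hi⟩ : ∃ i, i ∉ J := by
          by_contra hcon
          push Not at hcon
          exact hJ (Set.eq_univ_of_forall hcon)
        have h4 : sr i ∈ NotJ M.toCoxeterSystem h J :=
          ⟨isRoot_sr _ h i, sr_nonneg i, i, hi, by rw [sr_self]; norm_num⟩
        apply X_ne_bot Rg (isRoot_sr M.toCoxeterSystem h i)
        rw [eq_bot_iff, ← h3]
        exact (RGD.le_Sup h4).trans (le_sup_left : VJ M.toCoxeterSystem h X J ≤ D)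
      · exact h3
    rw [key, eq_top_iff]
    intro y _
    rw [mem_cj]
    trivial

end Cfsg.Agent.PreUniq.LeviPair

end

-- merged: Cfsg.Agent.PreUniq.LieBase
section

/-!
# Preuniqueness in the groups of Lie type of characteristic `r ≠ p`: the parabolic argument (helper50)

`not_grip` : `G` simple with a filtered root group datum in characteristic `r ≠ p`; a grip `E` of `M < G` normalizes no
nontrivial `r`-subgroup.
-/

set_option autoImplicit false
set_option linter.unusedSectionVars false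

namespace Cfsg.Agent.PreUniq.Lie

open Cfsg Cfsg.Agent.PreUniq Cfsg.Agent.KFacts.RgdFilt

universe u

variable {G : Type u} [Group G] [Finite G] [IsSimpleGroup G] {p r : ℕ}

/-- An `r`-group has order prime to `p ≠ r`. -/
theorem not_dvd_card {Y : Type*} [Group Y] [Finite Y] {U : Subgroup Y} (hp : p.Prime) [hr : Fact r.Prime] (hrp : r ≠ p)
    (hU : IsPGroup r U) : ¬ p ∣ Nat.card U := by
  intro h
  obtain ⟨k, hk⟩ := hU.exists_card_eq
  rw [hk] at h
  have h1 := hp.dvd_of_dvd_pow h
  exact hrp ((Nat.prime_dvd_prime_iff_eq hp hr.out).1 h1).symm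

/-- **A grip of `M < G` normalizes no nontrivial `r`-subgroup.** -/
theorem not_grip (hp : p.Prime) [hr : Fact r.Prime] (hrp : r ≠ p) (hG : HasFilt r G)
    (hc : ∃ a b : G, a * b ≠ b * a) {M : Subgroup G} (hM : M ≠ ⊤) {E : Subgroup G} (hE : Grip p M E)
    {R : Subgroup G} (hR : IsPGroup r R) (hR1 : R ≠ ⊥) (hER : E ≤ Subgroup.normalizer (R : Set G)) : False := by
  have hcop : (Nat.card E).Coprime r := by
    rw [hE.2.1]
    exact Nat.Coprime.pow_left 2 ((Nat.coprime_primes hp hr.out).2 hrp.symm)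
  obtain ⟨U, V, hU, hV, hEU, hEV, hUV⟩ := LeviPair.levi_pair hG hc hR hR1 hcop hER
  apply hM
  rw [eq_top_iff, ← hUV]
  exact sup_le (hE.le_of_coprime hp (not_dvd_card hp hrp hU) hEU)
    (hE.le_of_coprime hp (not_dvd_card hp hrp hV) hEV)

/-- The condition on a subgroup `E ≤ C_M(K mod O_{p'}(M))` of order `p ^ 2` which is available for the rows: it centralizes
a nonsolvable group. -/
def RSub (r p : ℕ) (G : Type*) [Group G] : Prop :=
  ∀ E : Subgroup G, IsElementaryAbelian p E → Nat.card E = p ^ 2 →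
    ¬ Group.IsSolvable ↥(Subgroup.centralizer (E : Set G)) →
      ∃ R : Subgroup G, IsPGroup r R ∧ R ≠ ⊥ ∧ E ≤ Subgroup.normalizer (R : Set G)

/-- `C_G(E)` is nonsolvable for a `p`-subgroup `E` of `C_M(K mod O_{p'}(M))`. -/
theorem not_solvable_centralizer {H : Type*} [Group H] [Finite H] [Fact p.Prime] {M K : Subgroup H}
    (h : IsPreuniquenessSubgroup p M K) {E : Subgroup H} (hE : E ≤ perp p M K) (hEp : IsPGroup p E) :
    ¬ Group.IsSolvable ↥(Subgroup.centralizer (E : Set H)) := by
  intro hs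
  apply not_isSolvable_fix h.2.1 h.2.2.1 hE hEp
  have : K ⊓ Subgroup.centralizer (E : Set H) ≤ Subgroup.centralizer (E : Set H) := inf_le_right
  exact Group.isSolvable_of_isSolvable_injective (f := Subgroup.inclusion this) (Subgroup.inclusion_injective this)

/-- **The row of a group of Lie type of characteristic `r ≠ p`, from `RSub`.** -/
theorem noPre_of_rsub (hp : p.Prime) (hr : r.Prime) (hrp : r ≠ p) (hG : HasFilt r G)
    (hc : ∃ a b : G, a * b ≠ b * a) (hR : RSub r p G) : NoPre p G := by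
  intro M K h
  have := Fact.mk hp
  have := Fact.mk hr
  obtain ⟨E, hE, hEg⟩ := exists_grip hp h
  obtain ⟨R, hR, hR1, hER⟩ := hR E hEg.1 hEg.2.1 (not_solvable_centralizer h.1 hE hEg.isPGroup)
  exact not_grip hp hrp hG hc h.1.1 hEg hR hR1 hER

theorem exists_ne_comm (hna : ¬ IsMulCommutative G) : ∃ a b : G, a * b ≠ b * a := by
  by_contra h
  push Not at h
  exact hna ⟨⟨fun a b => h a b⟩⟩

/-- The same for the simple groups of Lie type of characteristic `r`, except `Sz(q)`, `²F₄(q)`, `²G₂(q)`. -/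
theorem stdPre_of_rsub (hp : p.Prime) (hr : r.Prime) (hrp : r ≠ p) (hna : ¬ IsMulCommutative G)
    (hG : KFacts.RgdLieCharP.IsLieFilt r G) (hR : RSub r p G) : StdPre p G :=
  (noPre_of_rsub hp hr hrp (KFacts.RgdLieCharP.hasFilt_of_lie hG) (exists_ne_comm hna) hR).stdPre

end Cfsg.Agent.PreUniq.Lie

end

-- merged: Cfsg.Agent.PreUniq.LieTwo
section

/-!
# Preuniqueness in the groups of Lie type of characteristic 2, `p` odd (helper50)

`noPre_two` : no preuniqueness pair, for the simple groups with a filtered root group datum in characteristic 2;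
`lieRows_two` : the rows in characteristic 2 of `Assembly.Rows`.
-/

set_option autoImplicit false
set_option linter.unusedSectionVars false

namespace Cfsg.Agent.PreUniq.Lie

open Cfsg Cfsg.Agent.PreUniq Cfsg.Agent.KFacts.RgdFilt Cfsg.Agent.KFacts.RgdLieCharP

universe u

variable {G : Type u} [Group G] [Finite G] [IsSimpleGroup G] {p : ℕ}

/-- **No preuniqueness pair in characteristic 2.** -/
theorem noPre_two (hp : p.Prime) (hp2 : p ≠ 2) (hG : HasFilt 2 G) (hc : ∃ a b : G, a * b ≠ b * a) : NoPre p G := by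
  intro M K h
  have := Fact.mk hp
  have : Fact (Nat.Prime 2) := ⟨Nat.prime_two⟩
  obtain ⟨E, hE, hEg⟩ := exists_grip hp h
  obtain ⟨t, ht, hto⟩ := exists_involution h.1.2.1 h.1.2.2.1 hE hEg.isPGroup
  refine not_grip hp hp2.symm hG hc h.1.1 hEg (R := Subgroup.zpowers t) ?_ ?_ ?_
  · rw [IsPGroup.iff_card]
    exact ⟨1, by rw [Nat.card_zpowers, hto, pow_one]⟩
  · rw [Ne, Subgroup.zpowers_eq_bot]
    rintro rfl
    rw [orderOf_one] at hto
    exact absurd hto (by norm_num)
  · intro e he
    apply Subgroup.centralizer_le_normalizer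
    rw [Subgroup.mem_centralizer_iff]
    intro k hk
    obtain ⟨j, rfl⟩ := Subgroup.mem_zpowers_iff.1 hk
    have h1 : Commute e t := Subgroup.mem_centralizer_iff.1 ht.2 e he
    exact (h1.zpow_right j).symm

theorem stdPre_two (hp : p.Prime) (hp2 : p ≠ 2) (hna : ¬ IsMulCommutative G) (hG : IsLieFilt 2 G) : StdPre p G :=
  (noPre_two hp hp2 (hasFilt_of_lie hG) (exists_ne_comm hna)).stdPre

/-- **The rows of the groups of Lie type in characteristic 2.** -/
theorem lieRows_two (hp : p.Prime) (hp2 : p ≠ 2) (hna : ¬ IsMulCommutative G) : Assembly.LieRows p 2 G where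
  psl h := stdPre_two hp hp2 hna (Or.inl h)
  psp h := stdPre_two hp hp2 hna (Or.inr (Or.inl h))
  psu h := stdPre_two hp hp2 hna (Or.inr (Or.inr (Or.inl h)))
  omegaOdd h := stdPre_two hp hp2 hna (Or.inr (Or.inr (Or.inr (Or.inl h))))
  omegaPlus h := stdPre_two hp hp2 hna (Or.inr (Or.inr (Or.inr (Or.inr (Or.inl h)))))
  omegaMinus h := stdPre_two hp hp2 hna (Or.inr (Or.inr (Or.inr (Or.inr (Or.inr (Or.inl h))))))
  g2 F _ _ _ h3 e := stdPre_two hp hp2 hna (Or.inr (Or.inr (Or.inr (Or.inr (Or.inr (Or.inr (Or.inl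
    ⟨F, inferInstance, inferInstance, inferInstance, Or.inl ⟨h3, e⟩⟩)))))))
  f4 F _ _ _ e := stdPre_two hp hp2 hna (Or.inr (Or.inr (Or.inr (Or.inr (Or.inr (Or.inr (Or.inl
    ⟨F, inferInstance, inferInstance, inferInstance, Or.inr (Or.inl e)⟩)))))))
  e6 F _ _ _ e := stdPre_two hp hp2 hna (Or.inr (Or.inr (Or.inr (Or.inr (Or.inr (Or.inr (Or.inl
    ⟨F, inferInstance, inferInstance, inferInstance, Or.inr (Or.inr (Or.inl e))⟩)))))))
  e7 F _ _ _ e := stdPre_two hp hp2 hna (Or.inr (Or.inr (Or.inr (Or.inr (Or.inr (Or.inr (Or.inl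
    ⟨F, inferInstance, inferInstance, inferInstance, Or.inr (Or.inr (Or.inr (Or.inl e)))⟩)))))))
  e8 F _ _ _ e := stdPre_two hp hp2 hna (Or.inr (Or.inr (Or.inr (Or.inr (Or.inr (Or.inr (Or.inl
    ⟨F, inferInstance, inferInstance, inferInstance, Or.inr (Or.inr (Or.inr (Or.inr e)))⟩)))))))
  twE6 K _ _ _ q hq hc e := stdPre_two hp hp2 hna (Or.inr (Or.inr (Or.inr (Or.inr (Or.inr (Or.inr (Or.inr
    ⟨K, inferInstance, inferInstance, inferInstance, q, hq, Or.inl ⟨hc, e⟩⟩)))))))
  twD4 K _ _ _ q hq hc e := stdPre_two hp hp2 hna (Or.inr (Or.inr (Or.inr (Or.inr (Or.inr (Or.inr (Or.inr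
    ⟨K, inferInstance, inferInstance, inferInstance, q, hq, Or.inr ⟨hc, e⟩⟩)))))))

end Cfsg.Agent.PreUniq.Lie

end

-- merged: Cfsg.Agent.PreUniq.ClNorm
section

/-!
# Norms of involutory automorphisms of finite fields (PREUNIQ-LIEODD, helper14)

* `exists_norm` : an involutory automorphism `σ ≠ 1` of a finite field has surjective norm `x ↦ σ x * x` onto its fixed
  field.
-/

set_option autoImplicit false

namespace Cfsg.Agent.PreUniq.Cl

theorem exists_norm {D : Type*} [Field D] [Finite D] (σ : D ≃+* D) (h2 : ∀ x, σ (σ x) = x) (h1 : ∃ x, σ x ≠ x)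
    {a : D} (ha : σ a = a) : ∃ x, σ x * x = a := by
  classical
  let K : Subfield D :=
    { carrier := {x | σ x = x}
      mul_mem' := fun {x y} hx hy => by
        change σ (x * y) = x * y
        rw [map_mul, show σ x = x from hx, show σ y = y from hy]
      one_mem' := map_one σ
      add_mem' := fun {x y} hx hy => by
        change σ (x + y) = x + y
        rw [map_add, show σ x = x from hx, show σ y = y from hy]
      zero_mem' := map_zero σ
      neg_mem' := fun {x} hx => by
        change σ (-x) = -x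
        rw [map_neg, show σ x = x from hx]
      inv_mem' := fun x hx => by
        change σ x⁻¹ = x⁻¹
        rw [map_inv₀, show σ x = x from hx] }
  let s : D ≃ₐ[K] D := AlgEquiv.ofRingEquiv (f := σ) (fun r => r.2)
  have hsx : ∀ x, s x = σ x := fun _ => rfl
  have hs1 : s ≠ 1 := by
    obtain ⟨x, hx⟩ := h1
    intro h
    apply hx
    rw [← hsx, h]
    rfl
  have hs2 : s ^ 2 = 1 := by
    ext x
    rw [pow_two]
    exact h2 x
  have hfix : IntermediateField.fixedField (Subgroup.zpowers s) = ⊥ := by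
    rw [eq_bot_iff]
    intro x hx
    rw [IntermediateField.mem_bot]
    have h3 : σ x = x := hx ⟨s, Subgroup.mem_zpowers s⟩
    exact ⟨⟨x, h3⟩, rfl⟩
  have htop : Subgroup.zpowers s = ⊤ := by
    rw [← IntermediateField.fixingSubgroup_fixedField (Subgroup.zpowers s), hfix, IntermediateField.fixingSubgroup_bot]
  obtain ⟨x, hx⟩ := FiniteField.norm_surjective K D ⟨a, ha⟩
  refine ⟨x, ?_⟩
  have h4 := Algebra.norm_eq_prod_automorphisms K x
  rw [hx] at h4
  have h5 : (Finset.univ : Finset (D ≃ₐ[K] D)) = {1, s} := by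
    ext t
    simp only [Finset.mem_univ, Finset.mem_insert, Finset.mem_singleton, true_iff]
    have ht : t ∈ Subgroup.zpowers s := htop ▸ Subgroup.mem_top t
    obtain ⟨k, rfl⟩ := Subgroup.mem_zpowers_iff.1 ht
    rcases Int.even_or_odd' k with ⟨m, rfl | rfl⟩
    · left
      rw [zpow_mul, show (s ^ (2 : ℤ)) = 1 from hs2, one_zpow]
    · right
      rw [zpow_add, zpow_mul, show (s ^ (2 : ℤ)) = 1 from hs2, one_zpow, one_mul, zpow_one]
  rw [h5, Finset.prod_insert (by simpa using hs1.symm), Finset.prod_singleton] at h4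
  change a = x * σ x at h4
  rw [h4, mul_comm]

end Cfsg.Agent.PreUniq.Cl

end

-- merged: Cfsg.Agent.PreUniq.ClForm
section

/-!
# Centralizers in isometry groups (PREUNIQ-LIEODD, helper14)

`B` a nondegenerate reflexive sesquilinear form on the finite space `V`, `A` an algebra of endomorphisms of `V` closed
under adjoints, without nonzero totally isotropic invariant subspace. For an irreducible `A`-submodule `W` such that the
adjoint involution of `End_A(W)` is not trivial, every isometry commuting with `A` leaves `W` invariant, and these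
isometries commute on `W` (`Setup.invariant`, `Setup.comm`).
-/

set_option autoImplicit false
set_option linter.unusedSectionVars false
set_option linter.unusedVariables false

namespace Cfsg.Agent.PreUniq.Cl

section Norm

/-- A non-trivial involutory antiautomorphism of a finite domain has a surjective norm. -/
theorem exists_star_mul {D : Type*} [Ring D] [Finite D] (hD : IsDomain D) (s : D → D)
    (hadd : ∀ x y, s (x + y) = s x + s y) (hmul : ∀ x y, s (x * y) = s y * s x) (hinv : ∀ x, s (s x) = x)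
    (hne : ∃ x, s x ≠ x) {a : D} (ha : s a = a) : ∃ x, s x * x = a := by
  let _ : Field D := (Finite.isDomain_to_isField D).toField
  let σ : D ≃+* D :=
    { toFun := s
      invFun := s
      left_inv := hinv
      right_inv := hinv
      map_mul' := fun x y => by
        rw [hmul]; exact mul_comm _ _
      map_add' := hadd }
  exact exists_norm σ hinv hne ha

theorem mul_comm_of_domain {D : Type*} [Ring D] [Finite D] (hD : IsDomain D) (x y : D) : x * y = y * x :=
  (Finite.isDomain_to_isField D).mul_comm x y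

theorem isDomain_end {R M : Type*} [Ring R] [AddCommGroup M] [Module R M] (h : IsSimpleModule R M) :
    IsDomain (Module.End R M) := by
  classical
  exact @DivisionRing.isDomain _ (Module.End.instDivisionRing)

end Norm

variable {F V : Type*} [Field F] [AddCommGroup V] [Module F V]

/-- A nondegenerate reflexive sesquilinear form. -/
structure Form (τ : F →+* F) (ε : F) (B : V → V → F) : Prop where
  add : ∀ x y z, B (x + y) z = B x z + B y z
  smul : ∀ (a : F) x y, B (a • x) y = a * B x y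
  symm : ∀ x y, B y x = ε * τ (B x y)
  invol : ∀ a, τ (τ a) = a
  eps : ε = 1 ∨ ε = -1
  nondeg : ∀ x, (∀ y, B x y = 0) → x = 0

namespace Form

variable {τ : F →+* F} {ε : F} {B : V → V → F} (hB : Form τ ε B)

include hB

theorem add_right (z x y : V) : B z (x + y) = B z x + B z y := by
  rw [hB.symm (x + y) z, hB.symm x z, hB.symm y z, hB.add, map_add, mul_add]

theorem smul_right (a : F) (x y : V) : B x (a • y) = τ a * B x y := by
  rw [hB.symm (a • y) x, hB.symm y x, hB.smul, map_mul]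
  ring

theorem zero_left (y : V) : B 0 y = 0 := by
  have := hB.smul 0 0 y
  rwa [zero_smul, zero_mul] at this

theorem zero_right (y : V) : B y 0 = 0 := by
  rw [hB.symm 0 y, hB.zero_left, map_zero, mul_zero]

theorem neg_left (x y : V) : B (-x) y = -B x y := by
  have := hB.smul (-1) x y
  rwa [neg_one_smul, neg_one_mul] at this

theorem neg_right (x y : V) : B x (-y) = -B x y := by
  have := hB.smul_right (-1) x y
  rwa [neg_one_smul, map_neg, map_one, neg_one_mul] at this

theorem sub_left (x y z : V) : B (x - y) z = B x z - B y z := by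
  rw [sub_eq_add_neg, hB.add, hB.neg_left, sub_eq_add_neg]

theorem sub_right (x y z : V) : B z (x - y) = B z x - B z y := by
  rw [sub_eq_add_neg, hB.add_right, hB.neg_right, sub_eq_add_neg]

theorem symm_zero {x y : V} (h : B x y = 0) : B y x = 0 := by
  rw [hB.symm x y, h, map_zero, mul_zero]

/-- equality is symmetric -/
theorem symm_eq {x y x' y' : V} (h : B x y = B x' y') : B y x = B y' x' := by
  rw [hB.symm x y, h, ← hB.symm]

theorem nondeg' (y : V) (h : ∀ x, B x y = 0) : y = 0 :=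
  hB.nondeg y fun x => hB.symm_zero (h x)

end Form

/-- `A` is closed under adjoints. -/
def AdjClosed (A : Type*) [Ring A] [Module A V] (B : V → V → F) : Prop :=
  ∀ a : A, ∃ a' : A, ∀ x y : V, B (a' • x) y = B x (a • y)

/-- the set up: a form and an algebra of endomorphisms closed under adjoints, without nonzero totally isotropic
invariant subspace -/
structure Setup (τ : F →+* F) (ε : F) (B : V → V → F) (A : Type*) [Ring A] [Module A V] : Prop where
  form : Form τ ε B
  adj : AdjClosed A B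
  aniso : ∀ W : Submodule A V, (∀ x ∈ W, ∀ y ∈ W, B x y = 0) → W = ⊥

namespace Setup

variable {τ : F →+* F} {ε : F} {B : V → V → F} {A : Type*} [Ring A] [Algebra F A] [Module A V] [IsScalarTower F A V]
  (S : Setup τ ε B A)

include S

/-- the orthogonal space of an invariant subspace -/
def orth (W : Submodule A V) : Submodule A V where
  carrier := {v | ∀ w ∈ W, B v w = 0}
  add_mem' := fun {x y} hx hy w hw => by rw [S.form.add, hx w hw, hy w hw, add_zero]
  zero_mem' := fun w _ => S.form.zero_left w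
  smul_mem' := fun a x hx w hw => by
    obtain ⟨a', ha'⟩ := S.adj a
    have h1 : B (a • x) w = B x (a' • w) := (S.form.symm_eq (ha' w x)).symm
    rw [h1]
    exact hx _ (W.smul_mem a' hw)

theorem disjoint (W : Submodule A V) : W ⊓ S.orth W = ⊥ :=
  S.aniso _ fun x hx y hy => hx.2 y hy.1

theorem eq_zero {W : Submodule A V} {v : V} (h1 : v ∈ W) (h2 : ∀ w ∈ W, B v w = 0) : v = 0 := by
  have : v ∈ W ⊓ S.orth W := ⟨h1, h2⟩
  rw [S.disjoint] at this
  exact this

variable [Finite F] [Finite V]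

/-- Riesz -/
theorem riesz (W : Submodule A V) (f : W →ₗ[F] F) : ∃ z : W, ∀ x : W, f x = B x z := by
  have hadd := S.form.add
  have hsm := S.form.smul
  let Λ : W → (W →ₗ[F] F) := fun z =>
    { toFun := fun x => B x z
      map_add' := fun x y => hadd x y z
      map_smul' := fun a x => hsm a x z }
  have hinj : Function.Injective Λ := by
    intro z z' h
    have h1 : ∀ w ∈ W, B ((z : V) - z') w = 0 := by
      intro w hw
      apply S.form.symm_zero
      have h2 : Λ z ⟨w, hw⟩ = Λ z' ⟨w, hw⟩ := by rw [h]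
      rw [S.form.sub_right]
      exact sub_eq_zero.2 h2
    have h3 := S.eq_zero (W.sub_mem z.2 z'.2) h1
    exact Subtype.ext (sub_eq_zero.1 h3)
  have hfin : Finite (W →ₗ[F] F) := Finite.of_injective (fun f => (f : W → F)) DFunLike.coe_injective
  have hcard : Nat.card (W →ₗ[F] F) ≤ Nat.card W := by
    have h1 : Module.finrank F (Module.Dual F W) = Module.finrank F W := by
      convert Subspace.dual_finrank_eq (K := F) (V := W)
    have := Fintype.ofFinite F
    have := Fintype.ofFinite W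
    have : Fintype (Module.Dual F W) := @Fintype.ofFinite _ hfin
    have h2 := Module.card_eq_pow_finrank (K := F) (V := W)
    have h3 := Module.card_eq_pow_finrank (K := F) (V := Module.Dual F W)
    rw [h1, ← h2] at h3
    have h4 : Nat.card (W →ₗ[F] F) = Nat.card (Module.Dual F W) := rfl
    rw [h4, Nat.card_eq_fintype_card, h3, Nat.card_eq_fintype_card]
  have hbij := Function.Injective.bijective_of_nat_card_le hinj hcard
  obtain ⟨z, hz⟩ := hbij.2 f
  refine ⟨z, fun x => ?_⟩
  rw [← hz]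
  rfl

theorem exists_rep (W : Submodule A V) (g : W → W → F) (h1 : ∀ x x' y, g (x + x') y = g x y + g x' y)
    (h2 : ∀ (a : F) x y, g (a • x) y = a * g x y) (h3 : ∀ x y y', g x (y + y') = g x y + g x y')
    (h4 : ∀ a a' : A, (∀ x y : V, B (a' • x) y = B x (a • y)) → ∀ x y : W, g (a' • x) y = g x (a • y)) :
    ∃ d : Module.End A W, ∀ x y : W, g x y = B x (d y) := by
  have key : ∀ y : W, ∃ z : W, ∀ x : W, g x y = B x z := fun y =>
    S.riesz W { toFun := fun x => g x y, map_add' := fun x x' => h1 x x' y, map_smul' := fun a x => h2 a x y }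
  choose d hd using key
  have huniq : ∀ z z' : W, (∀ x : W, B x z = B x z') → z = z' := by
    intro z z' h
    have h5 : ∀ w ∈ W, B ((z : V) - z') w = 0 := by
      intro w hw
      apply S.form.symm_zero
      rw [S.form.sub_right]
      exact sub_eq_zero.2 (h ⟨w, hw⟩)
    exact Subtype.ext (sub_eq_zero.1 (S.eq_zero (W.sub_mem z.2 z'.2) h5))
  refine ⟨{ toFun := d, map_add' := ?_, map_smul' := ?_ }, fun x y => hd y x⟩
  · intro y y'
    apply huniq
    intro x
    rw [← hd, h3, hd, hd, Submodule.coe_add, S.form.add_right]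
  · intro a y
    obtain ⟨a', ha'⟩ := S.adj a
    apply huniq
    intro x
    rw [← hd, ← h4 a a' ha' x y, hd, RingHom.id_apply, Submodule.coe_smul, Submodule.coe_smul, ha']

theorem rep_unique (W : Submodule A V) {d d' : Module.End A W} (h : ∀ x y : W, B x (d y) = B x (d' y)) : d = d' := by
  ext y
  have h5 : ∀ w ∈ W, B ((d y : V) - d' y) w = 0 := by
    intro w hw
    apply S.form.symm_zero
    rw [S.form.sub_right]
    exact sub_eq_zero.2 (h ⟨w, hw⟩ y)
  exact sub_eq_zero.1 (S.eq_zero (W.sub_mem (d y).2 (d' y).2) h5)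

theorem exists_star (W : Submodule A V) (d : Module.End A W) : ∃ d' : Module.End A W, ∀ x y : W, B (d x) y = B x (d' y) := by
  refine S.exists_rep W (fun x y => B (d x) y) ?_ ?_ ?_ ?_
  · intro x x' y
    rw [map_add, Submodule.coe_add, S.form.add]
  · intro a x y
    have h1 : d (a • x) = a • d x := by
      have h2 : a • x = (algebraMap F A a) • x := by
        rw [algebraMap_smul]
      have h3 : a • d x = (algebraMap F A a) • d x := by
        rw [algebraMap_smul]
      rw [h2, h3, map_smul]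
    simp only [h1, Submodule.coe_smul_of_tower, S.form.smul]
  · intro x y y'
    simp only [Submodule.coe_add, S.form.add_right]
  · intro a a' h x y
    simp only [map_smul, Submodule.coe_smul, h]

/-- The adjoint involution of `End_A(W)`. -/
noncomputable def star (W : Submodule A V) (d : Module.End A W) : Module.End A W := (S.exists_star W d).choose

theorem star_spec (W : Submodule A V) (d : Module.End A W) (x y : W) : B (d x) y = B x (S.star W d y) :=
  (S.exists_star W d).choose_spec x y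

theorem star_spec' (W : Submodule A V) (d : Module.End A W) (x y : W) : B (S.star W d x) y = B x (d y) :=
  S.form.symm_eq (S.star_spec W d y x).symm

theorem star_add (W : Submodule A V) (d d' : Module.End A W) : S.star W (d + d') = S.star W d + S.star W d' := by
  apply S.rep_unique W
  intro x y
  rw [← S.star_spec, LinearMap.add_apply, LinearMap.add_apply, Submodule.coe_add, Submodule.coe_add, S.form.add,
    S.form.add_right, S.star_spec, S.star_spec]

theorem star_mul (W : Submodule A V) (d d' : Module.End A W) : S.star W (d * d') = S.star W d' * S.star W d := by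
  apply S.rep_unique W
  intro x y
  rw [← S.star_spec, Module.End.mul_apply, S.star_spec, S.star_spec, Module.End.mul_apply]

theorem star_star (W : Submodule A V) (d : Module.End A W) : S.star W (S.star W d) = d := by
  apply S.rep_unique W
  intro x y
  rw [← S.star_spec, S.star_spec']

theorem star_one (W : Submodule A V) : S.star W 1 = 1 := by
  apply S.rep_unique W
  intro x y
  rw [← S.star_spec, Module.End.one_apply, Module.End.one_apply]

theorem star_neg (W : Submodule A V) (d : Module.End A W) : S.star W (-d) = -S.star W d := by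
  apply S.rep_unique W
  intro x y
  rw [← S.star_spec, LinearMap.neg_apply, LinearMap.neg_apply, Submodule.coe_neg, Submodule.coe_neg, S.form.neg_left,
    S.form.neg_right, S.star_spec]

theorem star_sub (W : Submodule A V) (d d' : Module.End A W) : S.star W (d - d') = S.star W d - S.star W d' := by
  rw [sub_eq_add_neg, S.star_add, S.star_neg, sub_eq_add_neg]

/-- `W` is good: the adjoint involution of `End_A(W)` is not trivial. -/
def Good (W : Submodule A V) : Prop := ∃ d : Module.End A W, S.star W d ≠ d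

/-- Isometries commuting with `A` leave the good irreducible submodules invariant. -/
theorem invariant {W : Submodule A V} (hW : IsAtom W) (hg : S.Good W) {c : Module.End A V}
    (hc : ∀ x y, B (c x) (c y) = B x y) {w : V} (hw : w ∈ W) : c w ∈ W := by
  classical
  have hs : IsSimpleModule A W := isSimpleModule_iff_isAtom.2 hW
  have hfin : Finite (Module.End A W) := Finite.of_injective (fun f => (f : W → W)) DFunLike.coe_injective
  obtain ⟨ψ, hψ⟩ := S.exists_rep W (fun x y => B x (c y)) (fun x x' y => by rw [Submodule.coe_add, S.form.add])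
    (fun a x y => by rw [Submodule.coe_smul_of_tower, S.form.smul])
    (fun x y y' => by rw [Submodule.coe_add, map_add, S.form.add_right])
    (fun a a' h x y => by rw [Submodule.coe_smul, Submodule.coe_smul, h, map_smul])
  obtain ⟨δ, hδ⟩ := exists_star_mul (isDomain_end hs) (S.star W) (S.star_add W) (S.star_mul W) (S.star_star W) hg
    (a := S.star W ψ * ψ - 1) (by rw [S.star_sub, S.star_mul, S.star_star, S.star_one])
  -- `φ = c - ψ`
  have hφ : ∀ x y : W, B x (c y - ψ y) = 0 := fun x y => by rw [S.form.sub_right, hψ, sub_self]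
  have hφφ : ∀ x y : W, B (c x - ψ x) (c y - ψ y) = B x y - B (ψ x) (ψ y) := by
    intro x y
    have h1 : B (ψ x) (c y) = B (ψ x) (ψ y) := hψ _ _
    have h2 : B (c x) (ψ y) = B (ψ x) (ψ y) := S.form.symm_eq (hψ (ψ y) x)
    rw [S.form.sub_left, S.form.sub_right, S.form.sub_right, hc, h1, h2]
    ring
  let T : W →ₗ[A] V := W.subtype ∘ₗ δ + (c ∘ₗ W.subtype - W.subtype ∘ₗ ψ)
  have hT : ∀ x : W, T x = δ x + (c x - ψ x) := fun _ => rfl
  have hT0 : LinearMap.range T = ⊥ := by
    apply S.aniso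
    rintro _ ⟨x, rfl⟩ _ ⟨y, rfl⟩
    rw [hT, hT, S.form.add, S.form.add_right, S.form.add_right, hφ, S.form.symm_zero (hφ (δ y) x), hφφ]
    have h3 : B (δ x) (δ y) = B (ψ x) (ψ y) - B x y := by
      rw [S.star_spec, ← Module.End.mul_apply, hδ, LinearMap.sub_apply, Submodule.coe_sub, S.form.sub_right,
        Module.End.mul_apply, ← S.star_spec, Module.End.one_apply]
    rw [h3]
    ring
  have h4 : T ⟨w, hw⟩ = 0 := by
    have : T ⟨w, hw⟩ ∈ LinearMap.range T := ⟨_, rfl⟩
    rw [hT0] at this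
    exact this
  rw [hT] at h4
  have h5 : c w - ψ ⟨w, hw⟩ = -(δ ⟨w, hw⟩ : V) := by
    rw [eq_neg_iff_add_eq_zero, add_comm]
    exact h4
  have h6 : (c w - ψ ⟨w, hw⟩ : V) ∈ W := by
    rw [h5]
    exact W.neg_mem (δ _).2
  have h7 : c w - ψ ⟨w, hw⟩ = 0 := S.eq_zero h6 fun x hx => S.form.symm_zero (hφ ⟨x, hx⟩ ⟨w, hw⟩)
  rw [sub_eq_zero.1 h7]
  exact (ψ _).2

/-- Isometries commuting with `A` commute on the good irreducible submodules. -/
theorem comm {W : Submodule A V} (hW : IsAtom W) (hg : S.Good W) {c c' : Module.End A V}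
    (hc : ∀ x y, B (c x) (c y) = B x y) (hc' : ∀ x y, B (c' x) (c' y) = B x y) {w : V} (hw : w ∈ W) :
    c (c' w) = c' (c w) := by
  classical
  have hs : IsSimpleModule A W := isSimpleModule_iff_isAtom.2 hW
  have hfin : Finite (Module.End A W) := Finite.of_injective (fun f => (f : W → W)) DFunLike.coe_injective
  let ψ : Module.End A W := LinearMap.restrict c fun x hx => S.invariant hW hg hc hx
  let ψ' : Module.End A W := LinearMap.restrict c' fun x hx => S.invariant hW hg hc' hx
  have h1 : (ψ * ψ') ⟨w, hw⟩ = (ψ' * ψ) ⟨w, hw⟩ := by rw [mul_comm_of_domain (isDomain_end hs)]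
  exact congrArg Subtype.val h1

/-- A property of the good irreducible submodules which passes to sums holds everywhere. -/
theorem eq_top (Y : Submodule A V) (h : ∀ W : Submodule A V, IsAtom W → W ≤ S.orth Y → W ≤ Y) : Y = ⊤ := by
  have h0 : S.orth Y = ⊥ := by
    by_contra hne
    obtain ⟨W, hW, hWY⟩ := (IsAtomic.eq_bot_or_exists_atom_le (S.orth Y)).resolve_left hne
    apply hW.1
    rw [eq_bot_iff, ← S.disjoint Y]
    exact le_inf (h W hW hWY) hWY
  rw [eq_top_iff]
  intro v _
  obtain ⟨z, hz⟩ := S.riesz Y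
    { toFun := fun x => B x v
      map_add' := fun x y => S.form.add _ _ _
      map_smul' := fun a x => by
        simp only [Submodule.coe_smul_of_tower, S.form.smul, RingHom.id_apply, smul_eq_mul] }
  have h1 : v - z ∈ S.orth Y := by
    intro w hw
    apply S.form.symm_zero
    rw [S.form.sub_right]
    exact sub_eq_zero.2 (hz ⟨w, hw⟩)
  rw [h0] at h1
  have h2 : v = z := sub_eq_zero.1 h1
  rw [h2]
  exact z.2

end Setup

end Cfsg.Agent.PreUniq.Cl

end

-- merged: Cfsg.Agent.PreUniq.ClGroup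
section

/-!
# Centralizers of `p`-subgroups in projective isometry groups (PREUNIQ-LIEODD, helper14)

`π : X → G` surjective, `X` a group of isometries of `(V, B)`, the kernel acts by scalars, `E ≤ G`.

* `solvable_of_lift` : `C_X(π⁻¹ E)` solvable implies `C_G(E)` solvable;
* `Act.solvable_unitary` : `τ ≠ 1` and `π⁻¹ E` has no nonzero totally isotropic invariant subspace: `C_G(E)` is solvable;
* `Act.solvable_symm` : the same for bilinear forms, `E` of odd exponent `p`, the kernel of exponent 2.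
-/

set_option autoImplicit false
set_option linter.unusedSectionVars false
set_option linter.unusedVariables false

namespace Cfsg.Agent.PreUniq.Cl

section Solvable

variable {X G : Type*} [Group X] [Group G]

theorem solvable_of_comm_mem {C D : Subgroup X} (hD : Group.IsSolvable D)
    (h : ∀ a ∈ C, ∀ b ∈ C, a * b * a⁻¹ * b⁻¹ ∈ D) : Group.IsSolvable C := by
  have h1 : commutator C ≤ D.subgroupOf C := by
    rw [commutator_def, Subgroup.commutator_le]
    rintro a - b -
    exact h a a.2 b b.2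
  let f : (D.subgroupOf C) →* D :=
    { toFun := fun a => ⟨((a : C) : X), a.2⟩
      map_one' := rfl
      map_mul' := fun _ _ => rfl }
  have hf : Function.Injective f := fun a b hab =>
    Subtype.ext (Subtype.ext (congrArg (fun z : D => (z : X)) hab))
  have h2 : Group.IsSolvable (D.subgroupOf C) := Group.isSolvable_of_isSolvable_injective (f := f) hf
  have h3 : Group.IsSolvable (commutator C) :=
    Group.isSolvable_of_isSolvable_injective (f := Subgroup.inclusion h1) (Subgroup.inclusion_injective h1)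
  rw [Group.isSolvable_iff_subgroup_quotient (commutator C)]
  refine ⟨h3, ?_⟩
  have : Group.IsSolvable (Abelianization C) := inferInstance
  exact this

theorem solvable_of_comm {C : Subgroup X} (h : ∀ a ∈ C, ∀ b ∈ C, a * b = b * a) : Group.IsSolvable C :=
  Group.isSolvable_of_comm fun a b => Subtype.ext (h a a.2 b b.2)

theorem solvable_of_lift {π : X →* G} (hπ : Function.Surjective π) (hz : π.ker ≤ Subgroup.center X) {E : Subgroup G}
    (h : Group.IsSolvable ↥(Subgroup.centralizer (E.comap π : Set X))) :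
    Group.IsSolvable ↥(Subgroup.centralizer (E : Set G)) := by
  have hc : ∀ a ∈ (Subgroup.centralizer (E : Set G)).comap π, ∀ x ∈ E.comap π,
      ∃ z ∈ Subgroup.center X, a * x * a⁻¹ = z * x := by
    intro a ha x hx
    refine ⟨a * x * a⁻¹ * x⁻¹, hz ?_, by group⟩
    rw [MonoidHom.mem_ker]
    have h1 : π x * π a = π a * π x := Subgroup.mem_centralizer_iff.1 ha _ hx
    simp only [map_mul, map_inv]
    rw [← h1]
    group
  have h1 : Group.IsSolvable ↥((Subgroup.centralizer (E : Set G)).comap π) := by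
    refine solvable_of_comm_mem h fun a ha b hb => ?_
    rw [Subgroup.mem_centralizer_iff]
    intro x hx
    obtain ⟨z, hzc, hz1⟩ := hc a ha x hx
    obtain ⟨z', hzc', hz1'⟩ := hc b hb x hx
    have h2 : (a * b) * x * (a * b)⁻¹ = z' * z * x := by
      calc (a * b) * x * (a * b)⁻¹ = a * (b * x * b⁻¹) * a⁻¹ := by group
        _ = a * (z' * x) * a⁻¹ := by rw [hz1']
        _ = z' * (a * x * a⁻¹) := by
          rw [← mul_assoc, Subgroup.mem_center_iff.1 hzc' a]; group
        _ = z' * z * x := by rw [hz1, mul_assoc]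
    have h3 : (b * a) * x * (b * a)⁻¹ = z' * z * x := by
      calc (b * a) * x * (b * a)⁻¹ = b * (a * x * a⁻¹) * b⁻¹ := by group
        _ = b * (z * x) * b⁻¹ := by rw [hz1]
        _ = z * (b * x * b⁻¹) := by
          rw [← mul_assoc, Subgroup.mem_center_iff.1 hzc b]; group
        _ = z * z' * x := by rw [hz1', mul_assoc]
        _ = z' * z * x := by rw [Subgroup.mem_center_iff.1 hzc z']
    have hm : a * b ∈ (Subgroup.centralizer (E : Set G)).comap π := mul_mem ha hb
    -- `a b a⁻¹ b⁻¹` commutes with `(b a) x (b a)⁻¹`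
    have h4 : a * b * a⁻¹ * b⁻¹ * (z' * z * x) = z' * z * x * (a * b * a⁻¹ * b⁻¹) := by
      calc a * b * a⁻¹ * b⁻¹ * (z' * z * x) = a * b * a⁻¹ * b⁻¹ * ((b * a) * x * (b * a)⁻¹) := by rw [h3]
        _ = (a * b) * x * (a * b)⁻¹ * (a * b * a⁻¹ * b⁻¹) := by group
        _ = z' * z * x * (a * b * a⁻¹ * b⁻¹) := by rw [h2]
    have hzz : z' * z ∈ Subgroup.center X := mul_mem hzc' hzc
    have h5 : z' * z * (a * b * a⁻¹ * b⁻¹ * x) = z' * z * (x * (a * b * a⁻¹ * b⁻¹)) := by
      calc z' * z * (a * b * a⁻¹ * b⁻¹ * x) = (z' * z * (a * b * a⁻¹ * b⁻¹)) * x := by rw [mul_assoc (z' * z)]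
        _ = (a * b * a⁻¹ * b⁻¹ * (z' * z)) * x := by rw [Subgroup.mem_center_iff.1 hzz]
        _ = a * b * a⁻¹ * b⁻¹ * (z' * z * x) := by rw [mul_assoc (a * b * a⁻¹ * b⁻¹)]
        _ = z' * z * x * (a * b * a⁻¹ * b⁻¹) := h4
        _ = _ := by rw [mul_assoc (z' * z)]
    exact (mul_left_cancel h5).symm
  let f : ↥((Subgroup.centralizer (E : Set G)).comap π) →* ↥(Subgroup.centralizer (E : Set G)) :=
    π.subgroupComap _
  refine Group.isSolvable_of_surjective (f := f) ?_
  rintro ⟨g, hg⟩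
  obtain ⟨x, rfl⟩ := hπ g
  exact ⟨⟨x, hg⟩, rfl⟩

end Solvable

section Setup

variable {F V : Type*} [Field F] [AddCommGroup V] [Module F V] {τ : F →+* F} {ε : F} {B : V → V → F} {A : Type*} [Ring A]
  [Algebra F A] [Module A V] [IsScalarTower F A V] (S : Setup τ ε B A) [Finite F] [Finite V]

include S

theorem Setup.commute {c c' : Module.End A V} (hc : ∀ x y, B (c x) (c y) = B x y) (hc' : ∀ x y, B (c' x) (c' y) = B x y)
    {N : Submodule A V} (hN : ∀ W : Submodule A V, IsAtom W → S.Good W ∨ W ≤ N) (h : ∀ v ∈ N, c (c' v) = c' (c v))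
    (v : V) : c (c' v) = c' (c v) := by
  have h1 := S.eq_top (LinearMap.eqLocus (c * c') (c' * c)) fun W hW _ w hw => by
    rw [LinearMap.mem_eqLocus, Module.End.mul_apply, Module.End.mul_apply]
    rcases hN W hW with hg | hWN
    · exact S.comm hW hg hc hc' hw
    · exact h w (hWN hw)
  have h2 : v ∈ LinearMap.eqLocus (c * c') (c' * c) := h1 ▸ Submodule.mem_top
  exact h2

/-- Scalars moved by `τ` make every nonzero submodule good. -/
theorem Setup.good_of_ne {a : F} (ha : τ a ≠ a) {W : Submodule A V} (hW : W ≠ ⊥) : S.Good W := by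
  refine ⟨a • 1, fun h => ha ?_⟩
  have h1 : S.star W (a • 1) = τ a • 1 := by
    apply S.rep_unique W
    intro x y
    rw [← S.star_spec]
    simp only [LinearMap.smul_apply, Module.End.one_apply, Submodule.coe_smul_of_tower, S.form.smul, S.form.smul_right,
      S.form.invol]
  obtain ⟨w, hw, hw0⟩ := Submodule.exists_mem_ne_zero_of_ne_bot hW
  have h2 := congrArg (fun d : Module.End A W => ((d ⟨w, hw⟩ : W) : V)) (h1.symm.trans h)
  simp only [LinearMap.smul_apply, Module.End.one_apply, Submodule.coe_smul_of_tower] at h2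
  by_contra hne
  have h3 : (τ a - a) • w = 0 := by rw [sub_smul, h2, sub_self]
  rcases smul_eq_zero.1 h3 with h4 | h4
  · exact hne (sub_eq_zero.1 h4)
  · exact hw0 h4

end Setup

end Cfsg.Agent.PreUniq.Cl

end

-- merged: Cfsg.Agent.PreUniq.ClAct
section

/-!
# `RSub` for projective isometry groups (PREUNIQ-LIEODD, helper14)

`Act π ρ τ ε B` : `π : X → G` is surjective, `ρ` a faithful representation of `X` by isometries of `(V, B)`, the kernel of
`π` acts by scalars.
-/

set_option autoImplicit false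
set_option linter.unusedSectionVars false
set_option linter.unusedVariables false

namespace Cfsg.Agent.PreUniq.Cl

variable {X G F V : Type*} [Group X] [Group G] [Field F] [AddCommGroup V] [Module F V]

/-- the data -/
structure Act (π : X →* G) (ρ : X →* Module.End F V) (τ : F →+* F) (ε : F) (B : V → V → F) : Prop where
  surj : Function.Surjective π
  form : Form τ ε B
  inj : Function.Injective ρ
  isom : ∀ x v w, B (ρ x v) (ρ x w) = B v w
  ker : ∀ x, π x = 1 → ∃ a : F, ∀ v, ρ x v = a • v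

/-- The algebra generated by a subgroup. -/
abbrev Alg (π : X →* G) (ρ : X →* Module.End F V) (E : Subgroup G) : Subalgebra F (Module.End F V) :=
  Algebra.adjoin F (ρ '' (E.comap π : Set X))

section Alg

variable (π : X →* G) (ρ : X →* Module.End F V) {E : Subgroup G}

theorem rho_mem_alg {x : X} (hx : π x ∈ E) : ρ x ∈ Alg π ρ E := Algebra.subset_adjoin ⟨x, hx, rfl⟩

/-- an element of `π⁻¹ E` as an element of the algebra -/
def elt {x : X} (hx : π x ∈ E) : Alg π ρ E := ⟨ρ x, rho_mem_alg π ρ hx⟩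

theorem elt_smul {x : X} (hx : π x ∈ E) (v : V) : elt π ρ hx • v = ρ x v := rfl

/-- `ρ c` for `c` centralizing `π⁻¹ E` -/
def lin {c : X} (hc : c ∈ Subgroup.centralizer (E.comap π : Set X)) : Module.End (Alg π ρ E) V where
  toFun := ρ c
  map_add' := map_add _
  map_smul' := by
    intro a v
    have h : Alg π ρ E ≤ Subalgebra.centralizer F {ρ c} := by
      apply Algebra.adjoin_le
      rintro _ ⟨x, hx, rfl⟩
      rw [SetLike.mem_coe, Subalgebra.mem_centralizer_iff]
      rintro _ rfl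
      rw [← map_mul, ← map_mul, Subgroup.mem_centralizer_iff.1 hc x hx]
    have h1 := (Subalgebra.mem_centralizer_iff F).1 (h a.2) (ρ c) rfl
    exact congrArg (fun f : Module.End F V => f v) h1

theorem lin_apply {c : X} (hc : c ∈ Subgroup.centralizer (E.comap π : Set X)) (v : V) : lin π ρ hc v = ρ c v := rfl

/-- a subspace invariant under `π⁻¹ E`, as a module over the algebra -/
def subm (W : Submodule F V) (hW : ∀ x, π x ∈ E → ∀ w ∈ W, ρ x w ∈ W) : Submodule (Alg π ρ E) V where
  carrier := W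
  add_mem' := W.add_mem
  zero_mem' := W.zero_mem
  smul_mem' := by
    rintro ⟨a, ha⟩ w hw
    change a w ∈ W
    change w ∈ W at hw
    induction ha using Algebra.adjoin_induction generalizing w with
    | mem b hb => obtain ⟨x, hx, rfl⟩ := hb; exact hW x hx w hw
    | algebraMap r => exact W.smul_mem r hw
    | add b c _ _ h1 h2 => exact W.add_mem (h1 hw) (h2 hw)
    | mul b c _ _ h1 h2 => exact h1 (h2 hw)

theorem mem_subm {W : Submodule F V} {hW : ∀ x, π x ∈ E → ∀ w ∈ W, ρ x w ∈ W} {v : V} :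
    v ∈ subm π ρ W hW ↔ v ∈ W := Iff.rfl

end Alg

namespace Act

variable {π : X →* G} {ρ : X →* Module.End F V} {τ : F →+* F} {ε : F} {B : V → V → F} (H : Act π ρ τ ε B)

include H

theorem ker_le : π.ker ≤ Subgroup.center X := by
  intro z hz
  obtain ⟨a, ha⟩ := H.ker z hz
  rw [Subgroup.mem_center_iff]
  intro g
  apply H.inj
  ext v
  rw [map_mul, map_mul, Module.End.mul_apply, Module.End.mul_apply, ha, ha, map_smul]

theorem adjClosed (E : Subgroup G) : AdjClosed (Alg π ρ E) B := by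
  rintro ⟨a, ha⟩
  suffices h : ∃ a' ∈ Alg π ρ E, ∀ x y : V, B (a' x) y = B x (a y) by
    obtain ⟨a', h1, h2⟩ := h
    exact ⟨⟨a', h1⟩, h2⟩
  induction ha using Algebra.adjoin_induction with
  | mem b hb =>
    obtain ⟨x, hx, rfl⟩ := hb
    refine ⟨ρ x⁻¹, rho_mem_alg π ρ (by rw [map_inv]; exact E.inv_mem hx), fun v w => ?_⟩
    rw [← H.isom x, ← Module.End.mul_apply, ← map_mul, mul_inv_cancel, map_one, Module.End.one_apply]
  | algebraMap r =>
    refine ⟨algebraMap F _ (τ r), Subalgebra.algebraMap_mem _ _, fun v w => ?_⟩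
    rw [Module.algebraMap_end_apply, Module.algebraMap_end_apply, H.form.smul, H.form.smul_right]
  | add b c _ _ h1 h2 =>
    obtain ⟨b', hb', hb⟩ := h1
    obtain ⟨c', hc', hc⟩ := h2
    refine ⟨b' + c', add_mem hb' hc', fun v w => ?_⟩
    rw [LinearMap.add_apply, LinearMap.add_apply, H.form.add, H.form.add_right, hb, hc]
  | mul b c _ _ h1 h2 =>
    obtain ⟨b', hb', hb⟩ := h1
    obtain ⟨c', hc', hc⟩ := h2
    refine ⟨c' * b', mul_mem hc' hb', fun v w => ?_⟩
    rw [Module.End.mul_apply, Module.End.mul_apply, hc, hb]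

theorem setup {E : Subgroup G} (h : ∀ W : Submodule (Alg π ρ E) V, (∀ x ∈ W, ∀ y ∈ W, B x y = 0) → W = ⊥) :
    Setup τ ε B (Alg π ρ E) where
  form := H.form
  adj := H.adjClosed E
  aniso := h

/-- Elements of `C_X(π⁻¹ E)` commuting on a submodule containing the bad irreducible submodules commute. -/
theorem commute [Finite F] [Finite V] {E : Subgroup G} (S : Setup τ ε B (Alg π ρ E)) {N : Submodule (Alg π ρ E) V}
    (hN : ∀ W : Submodule (Alg π ρ E) V, IsAtom W → (S.Good W :) ∨ W ≤ N) {c c' : X}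
    (hc : c ∈ Subgroup.centralizer (E.comap π : Set X)) (hc' : c' ∈ Subgroup.centralizer (E.comap π : Set X))
    (h : ∀ v ∈ N, ρ c (ρ c' v) = ρ c' (ρ c v)) : c * c' = c' * c := by
  apply H.inj
  ext v
  rw [map_mul, map_mul, Module.End.mul_apply, Module.End.mul_apply]
  exact (S.commute (c := lin π ρ hc) (c' := lin π ρ hc') (H.isom c) (H.isom c') hN h v :)

/-- **The unitary case.** -/
theorem solvable_unitary [Finite F] [Finite V] {a : F} (ha : τ a ≠ a) {E : Subgroup G}
    (h : ∀ W : Submodule (Alg π ρ E) V, (∀ x ∈ W, ∀ y ∈ W, B x y = 0) → W = ⊥) :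
    Group.IsSolvable ↥(Subgroup.centralizer (E : Set G)) := by
  have S := H.setup h
  refine solvable_of_lift H.surj H.ker_le (solvable_of_comm fun c hc c' hc' => ?_)
  refine H.commute S (N := ⊥) (fun W hW => Or.inl ((S.good_of_ne ha hW.1 :))) hc hc' fun v hv => ?_
  rw [Submodule.mem_bot] at hv
  rw [hv, map_zero, map_zero, map_zero]

end Act

end Cfsg.Agent.PreUniq.Cl

end

-- merged: Cfsg.Agent.PreUniq.ClSymm
section

/-!
# The bilinear case (PREUNIQ-LIEODD, helper14)

`Act.solvable_symm` : `τ = 1`, characteristic not 2, `E` abelian of odd exponent `p`, `π⁻¹ E` has no nonzero totally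
isotropic invariant subspace: `C_G(E)` is solvable.
-/

set_option autoImplicit false
set_option linter.unusedSectionVars false
set_option linter.unusedVariables false

namespace Cfsg.Agent.PreUniq.Cl

variable {X G F V : Type*} [Group X] [Group G] [Field F] [AddCommGroup V] [Module F V]

/-- the infinitesimal rotation -/
def rot {ε : F} {B : V → V → F} (hB : Form (RingHom.id F) ε B) (v w : V) : V →ₗ[F] V where
  toFun u := B u v • w - B u w • v
  map_add' x y := by
    rw [hB.add, hB.add, add_smul, add_smul]; abel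
  map_smul' a x := by
    rw [hB.smul, hB.smul, mul_smul, mul_smul, RingHom.id_apply, smul_sub]

theorem rot_apply {ε : F} {B : V → V → F} (hB : Form (RingHom.id F) ε B) (v w u : V) :
    rot hB v w u = B u v • w - B u w • v := rfl

namespace Act

variable {π : X →* G} {ρ : X →* Module.End F V} {ε : F} {B : V → V → F} (H : Act π ρ (RingHom.id F) ε B)

include H

/-- The kernel has exponent 2. -/
theorem ker_sq {z : X} (hz : π z = 1) : z * z = 1 := by
  obtain ⟨a, ha⟩ := H.ker z hz
  apply H.inj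
  ext v
  rw [map_mul, Module.End.mul_apply, ha, ha, map_one, Module.End.one_apply, smul_smul]
  by_cases hv : v = 0
  · rw [hv, smul_zero]
  · have h1 : ∃ w, B v w ≠ 0 := by
      by_contra h
      push Not at h
      exact hv (H.form.nondeg v h)
    obtain ⟨w, hw⟩ := h1
    have h2 := H.isom z v w
    rw [ha, ha, H.form.smul, H.form.smul_right, RingHom.id_apply, ← mul_assoc] at h2
    have h3 : a * a = 1 := by
      have : (a * a - 1) * B v w = 0 := by rw [sub_mul, one_mul, h2, sub_self]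
      rcases mul_eq_zero.1 this with h4 | h4
      · exact sub_eq_zero.1 h4
      · exact absurd h4 hw
    rw [h3, one_smul]

/-- The squares in `π⁻¹ E` are central in `π⁻¹ E`. -/
theorem sq_mem {p : ℕ} (hp2 : Odd p) {E : Subgroup G} (hE : ∀ a ∈ E, ∀ b ∈ E, a * b = b * a)
    (hEp : ∀ a ∈ E, a ^ p = 1) {x : X} (hx : π x ∈ E) :
    (x * x) ^ p = 1 ∧ x * x ∈ Subgroup.centralizer (E.comap π : Set X) := by
  have h1 : (x * x) ^ p = 1 := by
    have h2 : π (x ^ p) = 1 := by rw [map_pow, hEp _ hx]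
    rw [(Commute.refl x).mul_pow, H.ker_sq h2]
  refine ⟨h1, ?_⟩
  rw [Subgroup.mem_centralizer_iff]
  intro z hz
  -- `k = x z x⁻¹ z⁻¹` is in the kernel
  have hk : π (x * z * x⁻¹ * z⁻¹) = 1 := by
    have h2 := hE _ hx _ hz
    simp only [map_mul, map_inv]
    rw [h2]
    group
  have hkc := H.ker_le (MonoidHom.mem_ker.2 hk)
  have hk2 := H.ker_sq hk
  set k := x * z * x⁻¹ * z⁻¹ with hkdef
  have h3 : x * z * x⁻¹ = k * z := by rw [hkdef]; group
  have h4 : x * x * z * (x * x)⁻¹ = z := by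
    calc x * x * z * (x * x)⁻¹ = x * (x * z * x⁻¹) * x⁻¹ := by group
      _ = x * (k * z) * x⁻¹ := by rw [h3]
      _ = k * (x * z * x⁻¹) := by
        rw [← mul_assoc x k z, Subgroup.mem_center_iff.1 hkc x]; group
      _ = k * k * z := by rw [h3]; exact (mul_assoc k k z).symm
      _ = z := by rw [hk2, one_mul]
  calc z * (x * x) = (x * x * z * (x * x)⁻¹) * (x * x) := by rw [h4]
    _ = x * x * z := by group

variable [Finite F] [Finite V]

/-- **The bilinear case.** -/
theorem solvable_symm (h2 : (2 : F) ≠ 0) {p : ℕ} (hp2 : Odd p) {E : Subgroup G} (hE : ∀ a ∈ E, ∀ b ∈ E, a * b = b * a)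
    (hEp : ∀ a ∈ E, a ^ p = 1)
    (h : ∀ W : Submodule (Alg π ρ E) V, (∀ x ∈ W, ∀ y ∈ W, B x y = 0) → W = ⊥) :
    Group.IsSolvable ↥(Subgroup.centralizer (E : Set G)) := by
  classical
  haveI tw90 : IsScalarTower F (Alg π ρ E) V := inferInstance
  have S := H.setup h
  have hB := H.form
  have hsq : ∀ x, π x ∈ E → (x * x) ^ p = 1 ∧ x * x ∈ Subgroup.centralizer (E.comap π : Set X) :=
    fun x hx => H.sq_mem hp2 hE hEp hx
  -- the fixed space of the squares
  let N : Submodule (Alg π ρ E) V := ⨅ (x : X) (hx : π x ∈ E), LinearMap.eqLocus (lin π ρ (hsq x hx).2) 1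
  have hN : ∀ v : V, v ∈ N ↔ ∀ x, π x ∈ E → ρ (x * x) v = v := by
    intro v
    simp only [N, Submodule.mem_iInf, LinearMap.mem_eqLocus, Module.End.one_apply, lin_apply]
  -- the irreducible submodules outside `N` are good
  have hgood : ∀ W : Submodule (Alg π ρ E) V, IsAtom W → S.Good W ∨ W ≤ N := by
    intro W hW
    by_contra hcon
    push Not at hcon
    obtain ⟨hng, hWN⟩ := hcon
    apply hWN
    intro w hw
    rw [hN]
    intro x hx
    obtain ⟨h3, h4⟩ := hsq x hx
    have hxx : π (x * x) ∈ E := by rw [map_mul]; exact E.mul_mem hx hx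
    have hinv : ∀ u ∈ W, ρ (x * x) u ∈ W := fun u hu => by
      rw [← elt_smul π ρ hxx]; exact W.smul_mem _ hu
    let d : (Module.End (Alg π ρ E) W :) := LinearMap.restrict (lin π ρ h4) fun u hu => hinv u hu
    have hd : ∀ u : W, ((d u : W) : V) = ρ (x * x) u := fun u => rfl
    have hsd : S.star W d = d := by
      by_contra hne
      exact hng ⟨d, hne⟩
    have hdd : ∀ u : W, d (d u) = u := by
      intro u
      have h5 : ∀ w ∈ W, B ((d (d u) : V) - u) w = 0 := by
        intro w hw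
        rw [hB.sub_left]
        have h6 := S.star_spec W d (d u) ⟨w, hw⟩
        rw [hsd] at h6
        have h7 : B (d u : V) (d ⟨w, hw⟩ : V) = B u w := H.isom (x * x) u w
        exact sub_eq_zero.2 (h6.trans h7)
      exact Subtype.ext (sub_eq_zero.1 (S.eq_zero (W.sub_mem (d (d u)).2 u.2) h5))
    have h7 : ∀ n : ℕ, ∀ u : V, u ∈ W → ρ ((x * x) ^ (2 * n + 1)) u = ρ (x * x) u := by
      intro n
      induction n with
      | zero => intro u _; rw [mul_zero, zero_add, pow_one]
      | succ n ih =>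
        intro u hu
        have h8 : 2 * (n + 1) + 1 = (2 * n + 1) + 1 + 1 := by ring
        rw [h8, pow_succ, pow_succ, map_mul, map_mul, Module.End.mul_apply, Module.End.mul_apply]
        have h9 : ρ (x * x) (ρ (x * x) u) = u := congrArg Subtype.val (hdd ⟨u, hu⟩)
        rw [h9, ih u hu]
    obtain ⟨n, hn⟩ := hp2
    have h10 := h7 n w hw
    rw [← hn, h3, map_one, Module.End.one_apply] at h10
    exact h10.symm
  -- `B` is anisotropic on `N`
  have haniso : ∀ v ∈ N, B v v = 0 → v = 0 := by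
    intro v hv hvv
    have hsc : ∀ x, π x ∈ E → ∃ a : F, ρ x v = a • v := by
      intro x hx
      obtain ⟨n, hn⟩ := hp2
      have h3 : π (x ^ p) = 1 := by rw [map_pow, hEp _ hx]
      obtain ⟨a, ha⟩ := H.ker _ h3
      have h4 : ∀ n : ℕ, ρ ((x * x) ^ n) v = v := by
        intro n
        induction n with
        | zero => rw [pow_zero, map_one, Module.End.one_apply]
        | succ n ih => rw [pow_succ, map_mul, Module.End.mul_apply, (hN v).1 hv x hx, ih]
      -- `x = x ^ p * ((x * x) ^ n)⁻¹`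
      have h5 : x ^ p = (x * x) ^ n * x := by
        rw [hn, pow_succ, pow_mul, pow_two]
      have h6 : x = ((x * x) ^ n)⁻¹ * x ^ p := by rw [h5]; group
      refine ⟨a, ?_⟩
      rw [h6, map_mul, Module.End.mul_apply, ha, map_smul]
      have h7 : ρ ((x * x) ^ n)⁻¹ v = v := by
        conv_lhs => rw [← h4 n]
        rw [← Module.End.mul_apply, ← map_mul, inv_mul_cancel, map_one, Module.End.one_apply]
      rw [h7]
    have h8 : subm π ρ (Submodule.span F {v}) (E := E) (by
        intro x hx w hw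
        obtain ⟨b, rfl⟩ := Submodule.mem_span_singleton.1 hw
        obtain ⟨a, ha⟩ := hsc x hx
        rw [map_smul, ha, smul_smul]
        exact Submodule.mem_span_singleton.2 ⟨b * a, rfl⟩) = ⊥ := by
      apply h
      intro x hx y hy
      obtain ⟨b, rfl⟩ := Submodule.mem_span_singleton.1 ((mem_subm π ρ).1 hx)
      obtain ⟨b', rfl⟩ := Submodule.mem_span_singleton.1 ((mem_subm π ρ).1 hy)
      rw [hB.smul, hB.smul_right, hvv, mul_zero, mul_zero]
    have h9 : v ∈ (⊥ : Submodule (Alg π ρ E) V) := by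
      rw [← h8, mem_subm]
      exact Submodule.mem_span_singleton_self v
    exact h9
  have hcN : ∀ c ∈ Subgroup.centralizer (E.comap π : Set X), ∀ v ∈ N, ρ c v ∈ N := by
    intro c hc v hv
    rw [hN] at hv ⊢
    intro x hx
    have hxx : π (x * x) ∈ E := by rw [map_mul]; exact E.mul_mem hx hx
    rw [← Module.End.mul_apply, ← map_mul, Subgroup.mem_centralizer_iff.1 hc (x * x) hxx, map_mul, Module.End.mul_apply,
      hv x hx]
  refine solvable_of_lift H.surj H.ker_le ?_
  by_cases hN0 : ∀ v ∈ N, v = 0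
  · refine solvable_of_comm fun c hc c' hc' => H.commute S hgood hc hc' fun v hv => ?_
    rw [hN0 v hv, map_zero, map_zero, map_zero]
  push Not at hN0
  obtain ⟨v, hv, hv0⟩ := hN0
  have hva : B v v ≠ 0 := fun h3 => hv0 (haniso v hv h3)
  -- projection orthogonal to `v`
  by_cases hN1 : ∀ w ∈ N, B w v = 0 → w = 0
  · -- `N = F v`
    have hspan : ∀ u ∈ N, ∃ a : F, u = a • v := by
      intro u hu
      refine ⟨B u v / B v v, ?_⟩
      have h3 : (B u v / B v v) • v ∈ N := Submodule.smul_of_tower_mem N _ hv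
      have h4 := hN1 (u - (B u v / B v v) • v) (N.sub_mem hu h3) (by
        rw [hB.sub_left, hB.smul, div_mul_cancel₀ _ hva, sub_self])
      exact sub_eq_zero.1 h4
    refine solvable_of_comm fun c hc c' hc' => H.commute S hgood hc hc' fun u hu => ?_
    obtain ⟨a, ha⟩ := hspan _ (hcN c hc v hv)
    obtain ⟨a', ha'⟩ := hspan _ (hcN c' hc' v hv)
    obtain ⟨b, rfl⟩ := hspan u hu
    rw [map_smul, map_smul, map_smul, map_smul, ha', ha, map_smul, map_smul, ha, ha', smul_smul, smul_smul, smul_smul,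
      smul_smul]
    congr 1
    ring
  push Not at hN1
  obtain ⟨w, hw, hwv, hw0⟩ := hN1
  have hwb : B w w ≠ 0 := fun h3 => hw0 (haniso w hw h3)
  have hvw : B v w = 0 := hB.symm_zero hwv
  -- `ε = 1`
  have hε : ε = 1 := by
    rcases hB.eps with h3 | h3
    · exact h3
    · exfalso
      apply hva
      have h4 := hB.symm v v
      rw [h3, RingHom.id_apply, neg_one_mul] at h4
      have h5 : (2 : F) * B v v = 0 := by linear_combination h4
      exact (mul_eq_zero.1 h5).resolve_left h2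
  have hsym : ∀ x y, B x y = B y x := by
    intro x y
    rw [hB.symm y x, hε, one_mul, RingHom.id_apply]
  -- `N = F v + F w`
  have hspan : ∀ u ∈ N, ∃ a b : F, u = a • v + b • w := by
    intro u hu
    refine ⟨B u v / B v v, B u w / B w w, ?_⟩
    set u' := u - ((B u v / B v v) • v + (B u w / B w w) • w) with hu'
    have hu'N : u' ∈ N := N.sub_mem hu (N.add_mem (Submodule.smul_of_tower_mem N _ hv) (Submodule.smul_of_tower_mem N _ hw))
    have h3 : B u' v = 0 := by
      rw [hu', hB.sub_left, hB.add, hB.smul, hB.smul, hwv, div_mul_cancel₀ _ hva, mul_zero, add_zero, sub_self]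
    have h4 : B u' w = 0 := by
      rw [hu', hB.sub_left, hB.add, hB.smul, hB.smul, hvw, div_mul_cancel₀ _ hwb, mul_zero, zero_add, sub_self]
    have h5 : u' = 0 := by
      by_contra hne
      have h6 : B u' u' ≠ 0 := fun h7 => hne (haniso u' hu'N h7)
      have : Fintype F := Fintype.ofFinite F
      obtain ⟨x, y, hxy⟩ := FiniteField.exists_root_sum_quadratic (R := F)
        (f := Polynomial.C (B v v) * Polynomial.X ^ 2 + Polynomial.C 0 * Polynomial.X + Polynomial.C (B u' u'))
        (g := Polynomial.C (B w w) * Polynomial.X ^ 2 + Polynomial.C 0 * Polynomial.X + Polynomial.C 0)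
        (Polynomial.degree_quadratic hva) (Polynomial.degree_quadratic hwb) (by
          apply FiniteField.odd_card_of_char_ne_two
          intro hc
          apply h2
          have h7 := (ringChar.spec F 2).2 (by rw [hc])
          exact_mod_cast h7)
      simp only [Polynomial.eval_add, Polynomial.eval_mul, Polynomial.eval_C, Polynomial.eval_pow, Polynomial.eval_X,
        zero_mul, add_zero] at hxy
      have h7 : B (x • v + y • w + u') (x • v + y • w + u') = 0 := by
        simp only [hB.add, hB.add_right, hB.smul, hB.smul_right, RingHom.id_apply, hvw, hwv, h3, h4, hsym v u', hsym w u']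
        linear_combination hxy
      have h8 := haniso _ (N.add_mem (N.add_mem (Submodule.smul_of_tower_mem N x hv)
        (Submodule.smul_of_tower_mem N y hw)) hu'N) h7
      apply h6
      have h9 := congrArg (fun z => B z u') h8
      simp only [hB.add, hB.smul, hB.zero_left, hsym v u', hsym w u', h3, h4, mul_zero, zero_add] at h9
      exact h9
    rw [hu'] at h5
    exact sub_eq_zero.1 h5
  -- the infinitesimal rotation
  set K := rot hB v w with hK
  have hKv : K v = B v v • w := by rw [hK, rot_apply, hvw, zero_smul, sub_zero]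
  have hKw : K w = -(B w w • v) := by rw [hK, rot_apply, hwv, zero_smul, zero_sub]
  -- isometries normalize `K`
  have hnorm : ∀ c ∈ Subgroup.centralizer (E.comap π : Set X), ∃ s : F, s ≠ 0 ∧ ∀ u, ρ c (K u) = s • K (ρ c u) := by
    intro c hc
    obtain ⟨x, y, hxy⟩ := hspan _ (hcN c hc v hv)
    obtain ⟨z, t, hzt⟩ := hspan _ (hcN c hc w hw)
    have h3 : ∀ u, ρ c (K u) = (x * t - y * z) • K (ρ c u) := by
      intro u
      rw [hK, rot_apply, rot_apply, map_sub, map_smul, map_smul, ← H.isom c u v, ← H.isom c u w, hxy, hzt]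
      simp only [hB.add_right, hB.smul_right, RingHom.id_apply]
      module
    refine ⟨_, ?_, h3⟩
    intro h4
    have h5 := h3 v
    rw [h4, zero_smul, hKv, map_smul] at h5
    rcases smul_eq_zero.1 h5 with h6 | h6
    · exact hva h6
    · have h7 := H.isom c w w
      rw [h6, hB.zero_left] at h7
      exact hwb h7.symm
  -- the rotations
  let D : Subgroup X :=
    { carrier := {c | c ∈ Subgroup.centralizer (E.comap π : Set X) ∧ ∀ u, ρ c (K u) = K (ρ c u)}
      mul_mem' := by
        rintro c c' ⟨hc, h3⟩ ⟨hc', h4⟩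
        refine ⟨mul_mem hc hc', fun u => ?_⟩
        rw [map_mul, Module.End.mul_apply, Module.End.mul_apply, h4, h3]
      one_mem' := ⟨one_mem _, fun u => by rw [map_one, Module.End.one_apply, Module.End.one_apply]⟩
      inv_mem' := by
        rintro c ⟨hc, h3⟩
        refine ⟨inv_mem hc, fun u => ?_⟩
        have h4 : ∀ u, ρ c⁻¹ (ρ c u) = u := fun u => by
          rw [← Module.End.mul_apply, ← map_mul, inv_mul_cancel, map_one, Module.End.one_apply]
        have h5 : ∀ u, ρ c (ρ c⁻¹ u) = u := fun u => by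
          rw [← Module.End.mul_apply, ← map_mul, mul_inv_cancel, map_one, Module.End.one_apply]
        have h6 := h3 (ρ c⁻¹ u)
        rw [h5] at h6
        rw [← h6, h4] }
  have hD : ∀ {c : X}, c ∈ D ↔ c ∈ Subgroup.centralizer (E.comap π : Set X) ∧ ∀ u, ρ c (K u) = K (ρ c u) := Iff.rfl
  refine solvable_of_comm_mem (D := D) ?_ ?_
  · refine solvable_of_comm fun c hc c' hc' => ?_
    rw [hD] at hc hc'
    obtain ⟨x, y, hxy⟩ := hspan _ (hcN c hc.1 v hv)
    obtain ⟨x', y', hxy'⟩ := hspan _ (hcN c' hc'.1 v hv)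
    have hwK : w = (B v v)⁻¹ • K v := by rw [hKv, smul_smul, inv_mul_cancel₀ hva, one_smul]
    have h3 : ρ c v = x • v + (y * (B v v)⁻¹) • K v := by rw [hxy, mul_smul, ← hwK]
    have h4 : ρ c' v = x' • v + (y' * (B v v)⁻¹) • K v := by rw [hxy', mul_smul, ← hwK]
    have h5 : ρ c (ρ c' v) = ρ c' (ρ c v) := by
      rw [h4, h3, map_add, map_add, map_smul, map_smul, map_smul, map_smul, hc.2, hc'.2, h3, h4, map_add, map_add,
        map_smul, map_smul, map_smul, map_smul]
      module
    refine H.commute S hgood hc.1 hc'.1 fun u hu => ?_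
    obtain ⟨a, b, rfl⟩ := hspan u hu
    have h6 : ρ c (ρ c' w) = ρ c' (ρ c w) := by
      conv_lhs => rw [hwK]
      conv_rhs => rw [hwK]
      rw [map_smul, map_smul, map_smul, map_smul, hc.2, hc'.2, hc.2, hc'.2, h5]
    rw [map_add, map_add, map_add, map_add, map_smul, map_smul, map_smul, map_smul, map_smul, map_smul, map_smul,
      map_smul, h5, h6]
  · intro c hc c' hc'
    obtain ⟨s, hs0, hs⟩ := hnorm c hc
    obtain ⟨s', hs0', hs'⟩ := hnorm c' hc'
    refine hD.2 ⟨mul_mem (mul_mem (mul_mem hc hc') (inv_mem hc)) (inv_mem hc'), fun z => ?_⟩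
    set k := c * c' * c⁻¹ * c'⁻¹ with hk
    have hkc : k * (c' * c) = c * c' := by rw [hk]; group
    -- `z = ρ (c' c) u`
    set u := ρ (c' * c)⁻¹ z with hu
    have hz : z = ρ (c' * c) u := by
      rw [hu, ← Module.End.mul_apply, ← map_mul, mul_inv_cancel, map_one, Module.End.one_apply]
    have h3 : ρ (c * c') (K u) = (s' * s) • K (ρ (c * c') u) := by
      rw [map_mul, Module.End.mul_apply, hs', map_smul, hs, smul_smul, Module.End.mul_apply]
    have h4 : ρ (c' * c) (K u) = (s' * s) • K (ρ (c' * c) u) := by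
      rw [map_mul, Module.End.mul_apply, hs, map_smul, hs', smul_smul, Module.End.mul_apply, mul_comm s]
    have h5 : ρ k (ρ (c' * c) (K u)) = ρ (c * c') (K u) := by
      rw [← Module.End.mul_apply, ← map_mul, hkc]
    have h6 : ρ k (ρ (c' * c) u) = ρ (c * c') u := by
      rw [← Module.End.mul_apply, ← map_mul, hkc]
    rw [h4, h3, map_smul, ← h6] at h5
    have h7 : (s' * s) ≠ 0 := mul_ne_zero hs0' hs0
    have h8 := congrArg (fun q => (s' * s)⁻¹ • q) h5
    simp only [smul_smul, inv_mul_cancel₀ h7, one_smul] at h8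
    rw [hz]
    exact h8

end Act

end Cfsg.Agent.PreUniq.Cl

end

-- merged: Cfsg.Agent.PreUniq.ClRsub
section

/-!
# `RSub` for projective isometry groups: conclusion (PREUNIQ-LIEODD, helper14)
-/

set_option autoImplicit false
set_option linter.unusedSectionVars false
set_option linter.unusedVariables false

namespace Cfsg.Agent.PreUniq.Cl

variable {X G F V : Type*} [Group X] [Group G] [Field F] [AddCommGroup V] [Module F V]

/-- Unipotent of class at most 3 -/
theorem pow_eq_one_of_cube {r : ℕ} [hr : Fact r.Prime] [CharP F r] {ρ : X →* Module.End F V}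
    (hinj : Function.Injective ρ) {x : X} (h : (ρ x - 1) ^ 3 = 0) : x ^ (r ^ 2) = 1 := by
  apply hinj
  rw [map_one, map_pow]
  have hch : CharP (Module.End F V) r ∨ Subsingleton (Module.End F V) := by
    rcases subsingleton_or_nontrivial (Module.End F V) with h1 | h1
    · exact Or.inr h1
    · exact Or.inl (charP_of_injective_algebraMap (algebraMap F (Module.End F V)).injective r)
  rcases hch with hch | hch
  · have h1 := sub_pow_char_pow_of_commute (p := r) (n := 2) (Commute.one_right (ρ x))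
    have h3 : 3 ≤ r ^ 2 := by
      have := hr.out.two_le
      nlinarith
    have h2 : (ρ x - 1) ^ r ^ 2 = 0 := by
      rw [← Nat.sub_add_cancel h3, pow_add, h, mul_zero]
    rw [h2, one_pow] at h1
    exact (sub_eq_zero.1 h1.symm)
  · exact Subsingleton.elim _ _

namespace Act

variable {π : X →* G} {ρ : X →* Module.End F V} {τ : F →+* F} {ε : F} {B : V → V → F} (H : Act π ρ τ ε B)

/-- the unipotent radical of the stabilizer of a totally isotropic subspace -/
def rad (W : Submodule F V) (hW : ∀ x ∈ W, ∀ y ∈ W, B x y = 0) : Subgroup X where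
  carrier := {x | (∀ w ∈ W, ρ x w = w) ∧ (∀ v, (∀ w ∈ W, B v w = 0) → ρ x v - v ∈ W) ∧
    (∀ v, ∀ w ∈ W, B (ρ x v - v) w = 0)}
  mul_mem' := by
    rintro x y ⟨h1, h2, h3⟩ ⟨h4, h5, h6⟩
    have hW1 : ∀ v, (∀ w ∈ W, B v w = 0) → ∀ w ∈ W, B (ρ y v) w = 0 := fun v hv w hw => by
      have := hW _ (h5 v hv) w hw
      rw [H.form.sub_left, hv w hw, sub_zero] at this
      exact this
    refine ⟨fun w hw => ?_, fun v hv => ?_, fun v w hw => ?_⟩
    · rw [map_mul, Module.End.mul_apply, h4 w hw, h1 w hw]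
    · have h7 : ρ (x * y) v - v = (ρ x (ρ y v) - ρ y v) + (ρ y v - v) := by
        rw [map_mul, Module.End.mul_apply]; abel
      rw [h7]
      exact W.add_mem (h2 _ (hW1 v hv)) (h5 v hv)
    · have h7 : ρ (x * y) v - v = (ρ x (ρ y v) - ρ y v) + (ρ y v - v) := by
        rw [map_mul, Module.End.mul_apply]; abel
      rw [h7, H.form.add, h3 _ w hw, h6 _ w hw, add_zero]
  one_mem' := by
    refine ⟨fun w _ => by rw [map_one, Module.End.one_apply], fun v _ => ?_, fun v w _ => ?_⟩
    · rw [map_one, Module.End.one_apply, sub_self]; exact W.zero_mem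
    · rw [map_one, Module.End.one_apply, sub_self, H.form.zero_left]
  inv_mem' := by
    rintro x ⟨h1, h2, h3⟩
    have hx : ∀ u, ρ x⁻¹ (ρ x u) = u := fun u => by
      rw [← Module.End.mul_apply, ← map_mul, inv_mul_cancel, map_one, Module.End.one_apply]
    have hx' : ∀ u, ρ x (ρ x⁻¹ u) = u := fun u => by
      rw [← Module.End.mul_apply, ← map_mul, mul_inv_cancel, map_one, Module.End.one_apply]
    have h4 : ∀ w ∈ W, ρ x⁻¹ w = w := fun w hw => by
      conv_lhs => rw [← h1 w hw]
      rw [hx]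
    have hB : ∀ v, ∀ w ∈ W, B (ρ x⁻¹ v) w = B v w := fun v w hw => by
      rw [← H.isom x, hx', h1 w hw]
    refine ⟨h4, fun v hv => ?_, fun v w hw => ?_⟩
    · have h5 : ρ x⁻¹ v - v = -(ρ x (ρ x⁻¹ v) - ρ x⁻¹ v) := by rw [hx']; abel
      rw [h5]
      exact W.neg_mem (h2 _ fun w hw => by rw [hB v w hw, hv w hw])
    · have h5 : ρ x⁻¹ v - v = -(ρ x (ρ x⁻¹ v) - ρ x⁻¹ v) := by rw [hx']; abel
      rw [h5, H.form.neg_left, h3 _ w hw, neg_zero]

theorem mem_rad {W : Submodule F V} {hW : ∀ x ∈ W, ∀ y ∈ W, B x y = 0} {x : X} :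
    x ∈ H.rad W hW ↔ (∀ w ∈ W, ρ x w = w) ∧ (∀ v, (∀ w ∈ W, B v w = 0) → ρ x v - v ∈ W) ∧
      (∀ v, ∀ w ∈ W, B (ρ x v - v) w = 0) := Iff.rfl

theorem isPGroup_rad {r : ℕ} [hr : Fact r.Prime] [CharP F r] (W : Submodule F V)
    (hW : ∀ x ∈ W, ∀ y ∈ W, B x y = 0) : IsPGroup r (H.rad W hW) := by
  rintro ⟨x, hx⟩
  refine ⟨2, Subtype.ext ?_⟩
  rw [H.mem_rad] at hx
  change x ^ r ^ 2 = 1
  apply pow_eq_one_of_cube H.inj
  ext v
  have h1 : ∀ u, (ρ x - 1) u = ρ x u - u := fun u => by
    rw [LinearMap.sub_apply, Module.End.one_apply]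
  rw [pow_succ, pow_two, Module.End.mul_apply, Module.End.mul_apply, h1 v, h1 (ρ x v - v), h1, LinearMap.zero_apply]
  rw [hx.1 _ (hx.2.1 _ (hx.2.2 v)), sub_self]

/-- What is needed of the family: the radicals of the stabilizers of the nonzero totally isotropic subspaces are
nontrivial. -/
def RadNe (_H : Act π ρ τ ε B) : Prop :=
  ∀ W : Submodule F V, W ≠ ⊥ → (∀ x ∈ W, ∀ y ∈ W, B x y = 0) → ∃ x : X, x ≠ 1 ∧ (∀ w ∈ W, ρ x w = w) ∧
    (∀ v, (∀ w ∈ W, B v w = 0) → ρ x v - v ∈ W) ∧ (∀ v, ∀ w ∈ W, B (ρ x v - v) w = 0)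

theorem exists_normalized {r : ℕ} [hr : Fact r.Prime] [CharP F r] (hrad : H.RadNe) {E : Subgroup G}
    (h : ¬ ∀ W : Submodule (Alg π ρ E) V, (∀ x ∈ W, ∀ y ∈ W, B x y = 0) → W = ⊥) :
    ∃ R : Subgroup G, IsPGroup r R ∧ R ≠ ⊥ ∧ E ≤ Subgroup.normalizer (R : Set G) := by
  push Not at h
  obtain ⟨W, hW, hW0⟩ := h
  let W' : Submodule F V :=
    { carrier := W
      add_mem' := W.add_mem
      zero_mem' := W.zero_mem
      smul_mem' := fun a x hx => (Submodule.smul_of_tower_mem W a hx :) }
  have hmem : ∀ v, v ∈ W' ↔ v ∈ W := fun v => Iff.rfl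
  have hW' : ∀ x ∈ W', ∀ y ∈ W', B x y = 0 := hW
  have hW0' : W' ≠ ⊥ := by
    intro h1
    apply hW0
    rw [eq_bot_iff]
    intro v hv
    have : v ∈ W' := hv
    rw [h1] at this
    exact this
  refine ⟨(H.rad W' hW').map π, (H.isPGroup_rad W' hW').map π, ?_, ?_⟩
  · obtain ⟨x, hx1, hx⟩ := hrad W' hW0' hW'
    intro h1
    have h2 : π x ∈ (H.rad W' hW').map π := ⟨x, hx, rfl⟩
    rw [h1, Subgroup.mem_bot] at h2
    obtain ⟨a, ha⟩ := H.ker x h2
    obtain ⟨w, hw, hw0⟩ := Submodule.exists_mem_ne_zero_of_ne_bot hW0'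
    apply hx1
    apply H.inj
    ext v
    rw [ha, map_one, Module.End.one_apply]
    have h3 := hx.1 w hw
    rw [ha] at h3
    have h4 : (a - 1) • w = 0 := by rw [sub_smul, one_smul, h3, sub_self]
    have h5 : a = 1 := by
      rcases smul_eq_zero.1 h4 with h6 | h6
      · exact sub_eq_zero.1 h6
      · exact absurd h6 hw0
    rw [h5, one_smul]
  · intro e he
    obtain ⟨y, rfl⟩ := H.surj e
    have hyW : ∀ y, π y ∈ E → ∀ w ∈ W', ρ y w ∈ W' := fun y hy w hw => by
      rw [← elt_smul π ρ hy]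
      exact W.smul_mem _ hw
    have key : ∀ y, π y ∈ E → ∀ x ∈ H.rad W' hW', y * x * y⁻¹ ∈ H.rad W' hW' := by
      intro y hy x hx
      have hy' : π y⁻¹ ∈ E := by rw [map_inv]; exact E.inv_mem hy
      have h1 : ∀ u, ρ y (ρ y⁻¹ u) = u := fun u => by
        rw [← Module.End.mul_apply, ← map_mul, mul_inv_cancel, map_one, Module.End.one_apply]
      have h2 : ∀ u, ρ y⁻¹ (ρ y u) = u := fun u => by
        rw [← Module.End.mul_apply, ← map_mul, inv_mul_cancel, map_one, Module.End.one_apply]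
      have h3 : ∀ u, ρ (y * x * y⁻¹) u = ρ y (ρ x (ρ y⁻¹ u)) := fun u => by
        rw [map_mul, map_mul, Module.End.mul_apply, Module.End.mul_apply]
      rw [H.mem_rad] at hx ⊢
      refine ⟨fun w hw => ?_, fun v hv => ?_, fun v w hw => ?_⟩
      · rw [h3, hx.1 _ (hyW _ hy' w hw), h1]
      · have h4 : ρ (y * x * y⁻¹) v - v = ρ y (ρ x (ρ y⁻¹ v) - ρ y⁻¹ v) := by
          rw [map_sub, h1, h3]
        rw [h4]
        refine hyW _ hy _ (hx.2.1 _ fun w hw => ?_)
        rw [← H.isom y, h1]
        exact hv _ (hyW _ hy w hw)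
      · have h4 : ρ (y * x * y⁻¹) v - v = ρ y (ρ x (ρ y⁻¹ v) - ρ y⁻¹ v) := by
          rw [map_sub, h1, h3]
        rw [h4, ← H.isom y⁻¹, h2]
        exact hx.2.2 _ _ (hyW _ hy' w hw)
    rw [Subgroup.mem_normalizer_iff]
    intro g
    constructor
    · rintro ⟨x, hx, rfl⟩
      exact ⟨y * x * y⁻¹, key y he x hx, by simp only [map_mul, map_inv]⟩
    · rintro ⟨x, hx, hxg⟩
      have he' : π y⁻¹ ∈ E := by rw [map_inv]; exact E.inv_mem he
      refine ⟨y⁻¹ * x * y⁻¹⁻¹, key _ he' x hx, ?_⟩
      simp only [map_mul, map_inv, inv_inv, hxg]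
      group

variable [Finite F] [Finite V]

/-- **`RSub` for the unitary groups.** -/
theorem rsub_unitary {r p : ℕ} (hr : r.Prime) [CharP F r] (hrad : H.RadNe) {a : F} (ha : τ a ≠ a) :
    Lie.RSub r p G := by
  intro E _ _ hns
  have := Fact.mk hr
  exact H.exists_normalized hrad fun h => hns (H.solvable_unitary ha h)

end Act

/-- **`RSub` for the symplectic and orthogonal groups.** -/
theorem Act.rsub_symm [Finite F] [Finite V] {π : X →* G} {ρ : X →* Module.End F V} {ε : F} {B : V → V → F}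
    (H : Act π ρ (RingHom.id F) ε B) {r p : ℕ} (hr : r.Prime) (hr2 : r ≠ 2) [CharP F r] (hp : p.Prime) (hp2 : p ≠ 2)
    (hrad : H.RadNe) : Lie.RSub r p G := by
  intro E hE _ hns
  have := Fact.mk hr
  refine H.exists_normalized hrad fun h => hns (H.solvable_symm ?_ (hp.odd_of_ne_two hp2) ?_ hE.2 h)
  · intro h2
    have h3 : ((2 : ℕ) : F) = 0 := by exact_mod_cast h2
    rw [CharP.cast_eq_zero_iff F r] at h3
    exact hr2 ((Nat.prime_dvd_prime_iff_eq hr Nat.prime_two).1 h3)
  · intro a ha b hb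
    exact congrArg Subtype.val (hE.1.is_comm.comm (⟨a, ha⟩ : E) ⟨b, hb⟩)

end Cfsg.Agent.PreUniq.Cl

end

-- merged: Cfsg.Agent.PreUniq.ClOrth
section

/-!
# `RSub` for the orthogonal groups in odd characteristic (PREUNIQ-LIEODD, helper14)
-/

set_option autoImplicit false
set_option linter.unusedSectionVars false
set_option linter.unusedVariables false

namespace Cfsg.Agent.PreUniq.Cl

open Cfsg QuadraticMap
open Cfsg.Agent.LieClassical Cfsg.Agent.LieClassical.OrthCore Cfsg.Agent.LieClassical.OrthTrans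
  Cfsg.Agent.LieClassical.OrthSimple Cfsg.Agent.LieClassical.OrthFinite Cfsg.Agent.LieClassical.OrthForms

section

variable {F V : Type*} [Field F] [AddCommGroup V] [Module F V] {Q : QuadraticForm F V}

/-- the representation -/
def rhoE (Q : QuadraticForm F V) : ↥(E Q) →* Module.End F V :=
  (LinearEquiv.automorphismGroup.toLinearMapMonoidHom).comp (E Q).subtype

theorem rhoE_apply (x : ↥(E Q)) (v : V) : rhoE Q x v = (x : V ≃ₗ[F] V) v := rfl

theorem rhoE_injective : Function.Injective (rhoE Q) := by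
  intro x y h
  apply Subtype.ext
  ext v
  exact congrArg (fun f : Module.End F V => f v) h

theorem formE (hQ : Nondeg Q) : Form (RingHom.id F) 1 (fun x y : V => polar Q x y) where
  add x y z := polar_add_left Q x y z
  smul a x y := by rw [polar_smul_left, smul_eq_mul]
  symm x y := by rw [RingHom.id_apply, one_mul, polar_comm]
  invol a := rfl
  eps := Or.inl rfl
  nondeg := hQ

/-- The centre of `E Q` acts by scalars. -/
theorem center_smul (hG : Good Q) {z : ↥(E Q)} (hz : z ∈ Subgroup.center ↥(E Q)) :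
    ∃ c : F, ∀ v, (z : V ≃ₗ[F] V) v = c • v := by
  have hN : ∀ g ∈ E Q, ∀ n ∈ (Subgroup.center ↥(E Q)).map (E Q).subtype,
      g * n * g⁻¹ ∈ (Subgroup.center ↥(E Q)).map (E Q).subtype := by
    rintro g hg _ ⟨n, hn, rfl⟩
    exact ⟨(⟨g, hg⟩ * n * ⟨g, hg⟩⁻¹ :), (inferInstance : (Subgroup.center ↥(E Q)).Normal).conj_mem n hn ⟨g, hg⟩, rfl⟩
  rcases good_normal_dichotomy hG (Subgroup.map_subtype_le _) hN with h | h
  · exact h z ⟨z, hz, rfl⟩
  · exfalso
    obtain ⟨g, hg, hg1⟩ := good_E_ne_bot hG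
    apply hg1
    have h1 : ⁅E Q, E Q⁆ = ⊥ := by
      rw [Subgroup.commutator_eq_bot_iff_le_centralizer]
      intro a ha
      rw [Subgroup.mem_centralizer_iff]
      intro b hb
      rw [← h] at ha
      obtain ⟨a', ha', rfl⟩ := ha
      exact congrArg Subtype.val (Subgroup.mem_center_iff.1 ha' ⟨b, hb⟩)
    rw [hG.E_perfect] at h1
    rw [h1] at hg
    exact hg

variable {G : Type*} [Group G]

theorem actE (hG : Good Q) {π : ↥(E Q) →* G} (hπ : Function.Surjective π)
    (hk : ∀ x, π x = 1 → x ∈ Subgroup.center ↥(E Q)) :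
    Act π (rhoE Q) (RingHom.id F) 1 (fun x y : V => polar Q x y) where
  surj := hπ
  form := formE hG.nondeg
  inj := rhoE_injective
  isom x v w := polar_map (E_le_O x.2) v w
  ker x hx := center_smul hG (hk x hx)

theorem radNeE (h2 : (2 : F) ≠ 0) (hG : Good Q) {π : ↥(E Q) →* G} (hπ : Function.Surjective π)
    (hk : ∀ x, π x = 1 → x ∈ Subgroup.center ↥(E Q)) : (actE hG hπ hk).RadNe := by
  intro W hW hiso
  obtain ⟨w, hw, hw0⟩ := Submodule.exists_mem_ne_zero_of_ne_bot hW
  have hQw : Q w = 0 := by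
    have h1 := hiso w hw w hw
    simp only at h1
    rw [polar_self'] at h1
    exact (mul_eq_zero.1 h1).resolve_left h2
  -- `u ∈ Wᗮ` outside `F w`
  obtain ⟨u, hu, huw⟩ : ∃ u : V, (∀ v ∈ W, polar Q u v = 0) ∧ ∀ c : F, u ≠ c • w := by
    by_contra hcon
    push Not at hcon
    obtain ⟨y, hy⟩ := exists_hyp hG.nondeg hQw hw0
    have hd := hG.dim
    obtain ⟨t, ht0, ht⟩ := exists_perp_ne (Q := Q) ![w, y] (by omega)
    have h3 : polar Q w t = 0 := ht 0
    have h4 : polar Q y t = 0 := ht 1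
    have h5 : ∀ v ∈ W, polar Q t v = 0 := by
      intro v hv
      obtain ⟨c, rfl⟩ := hcon v (fun v' hv' => hiso v hv v' hv')
      rw [polar_smul_right, polar_comm, h3, smul_zero]
    obtain ⟨c, hc⟩ := hcon t h5
    apply ht0
    rw [hc, polar_smul_right, hy.pair', smul_eq_mul, mul_one] at h4
    rw [hc, h4, zero_smul]
  have hwu : polar Q w u = 0 := by rw [polar_comm]; exact hu w hw
  refine ⟨⟨siegel Q w u hQw hwu, siegel_mem_E _ _⟩, ?_, ?_, ?_, ?_⟩
  · intro h
    have h1 : ∀ v, siegel Q w u hQw hwu v = v := fun v => by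
      have := congrArg (fun f : ↥(E Q) => (f : V ≃ₗ[F] V) v) h
      exact this
    obtain ⟨y, hy⟩ := exists_hyp hG.nondeg hQw hw0
    have h3 := h1 y
    rw [siegel_apply, hy.pair, one_smul, mul_one] at h3
    apply huw (polar Q u y + Q u)
    have h4 : u - (polar Q u y + Q u) • w = 0 := by
      have : u - (polar Q u y + Q u) • w = (y + u - polar Q u y • w - Q u • w) - y := by
        rw [add_smul]; abel
      rw [this, h3, sub_self]
    exact sub_eq_zero.1 h4
  · intro v hv
    have h1 : polar Q w v = 0 := hiso w hw v hv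
    have h3 : polar Q u v = 0 := hu v hv
    rw [rhoE_apply]
    change siegel Q w u hQw hwu v = v
    rw [siegel_apply, h1, h3]
    simp
  · intro v hv
    have h1 : polar Q w v = 0 := by rw [polar_comm]; exact hv w hw
    rw [rhoE_apply]
    change siegel Q w u hQw hwu v - v ∈ W
    rw [siegel_apply, h1]
    have : v + (0 : F) • u - polar Q u v • w - (Q u * 0) • w - v = -(polar Q u v • w) := by
      rw [mul_zero, zero_smul, zero_smul]; abel
    rw [this]
    exact W.neg_mem (W.smul_mem _ hw)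
  · intro v t ht
    rw [rhoE_apply]
    change polar Q (siegel Q w u hQw hwu v - v) t = 0
    rw [siegel_apply]
    have : v + polar Q w v • u - polar Q u v • w - (Q u * polar Q w v) • w - v
        = polar Q w v • u - (polar Q u v + Q u * polar Q w v) • w := by
      rw [add_smul]; abel
    have h1 : polar Q w t = 0 := hiso w hw t ht
    have h3 : polar Q u t = 0 := hu t ht
    rw [this, polar_sub_left, polar_smul_left, polar_smul_left, h1, h3, smul_zero, smul_zero, sub_zero]

theorem rsub_of_E [Finite F] [Finite V] {r p : ℕ} (hr : r.Prime) (hr2 : r ≠ 2) [CharP F r] (hp : p.Prime) (hp2 : p ≠ 2)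
    (hG : Good Q) (e : G ≃* ↥(E Q) ⧸ Subgroup.center ↥(E Q)) : Lie.RSub r p G := by
  have h2 : (2 : F) ≠ 0 := by
    intro h2
    have h3 : ((2 : ℕ) : F) = 0 := by exact_mod_cast h2
    rw [CharP.cast_eq_zero_iff F r] at h3
    exact hr2 ((Nat.prime_dvd_prime_iff_eq hr Nat.prime_two).1 h3)
  let π : ↥(E Q) →* G := e.symm.toMonoidHom.comp (QuotientGroup.mk' (Subgroup.center ↥(E Q)))
  have hπ : Function.Surjective π := e.symm.surjective.comp (QuotientGroup.mk'_surjective _)
  have hk : ∀ x, π x = 1 → x ∈ Subgroup.center ↥(E Q) := by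
    intro x hx
    have h3 : e.symm (QuotientGroup.mk' (Subgroup.center ↥(E Q)) x) = e.symm 1 := by rw [map_one]; exact hx
    exact (QuotientGroup.eq_one_iff x).1 (e.symm.injective h3)
  exact (actE hG hπ hk).rsub_symm hr hr2 hp hp2 (radNeE h2 hG hπ hk)

end

section

variable {F : Type*} [Field F] [Finite F] {ι : Type} [Fintype ι] [DecidableEq ι] {Q : QuadraticForm F (ι → F)}
  {G : Type*} [Group G]

theorem rsub_of_POmega {r p : ℕ} (hr : r.Prime) (hr2 : r ≠ 2) [CharP F r] (hp : p.Prime) (hp2 : p ≠ 2)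
    (hQ : Nondeg Q) (hd : 5 ≤ Fintype.card ι) {q : (ι → F) → F} (hq : ⇑Q = q) (e : G ≃* POmega F q) :
    Lie.RSub r p G := by
  subst hq
  have hG : Good Q := good_of_finite hQ (by rwa [Module.finrank_fintype_fun_eq_card])
  exact rsub_of_E hr hr2 hp hp2 hG (e.trans (quotientCenterCongr
    ((omegaEquiv Q).trans (MulEquiv.subgroupCongr hG.commutator_eq_E))))

end

variable {G : Type*} [Group G] {p r : ℕ}

theorem rsub_omegaOdd (hp : p.Prime) (hp2 : p ≠ 2) (hr : r.Prime) (hr2 : r ≠ 2) (h : IsPOmegaOddChar r G) :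
    Lie.RSub r p G := by
  obtain ⟨F, iF, iT, hF, m, hm, hodd, ⟨e⟩⟩ := h
  have h2 : (2 : F) ≠ 0 := by
    intro h2
    have h3 : ((2 : ℕ) : F) = 0 := by exact_mod_cast h2
    rw [CharP.cast_eq_zero_iff F r] at h3
    exact hr2 ((Nat.prime_dvd_prime_iff_eq hr Nat.prime_two).1 h3)
  refine rsub_of_POmega hr hr2 hp hp2 (nondeg_oddForm m F h2) ?_ (coe_oddForm m F) e
  rw [Fintype.card_sum, Fintype.card_sum, Fintype.card_fin, Fintype.card_unit]
  omega

theorem rsub_omegaPlus (hp : p.Prime) (hp2 : p ≠ 2) (hr : r.Prime) (hr2 : r ≠ 2) (h : IsPOmegaPlusChar r G) :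
    Lie.RSub r p G := by
  obtain ⟨F, iF, iT, hF, m, hm, ⟨e⟩⟩ := h
  refine rsub_of_POmega hr hr2 hp hp2 (nondeg_plusForm m F) ?_ (coe_plusForm m F) e
  rw [Fintype.card_sum, Fintype.card_fin]
  omega

theorem rsub_omegaMinus (hp : p.Prime) (hp2 : p ≠ 2) (hr : r.Prime) (hr2 : r ≠ 2) (h : IsPOmegaMinusChar r G) :
    Lie.RSub r p G := by
  obtain ⟨F, iF, iT, hF, m, a, b, hm, hab, ⟨e⟩⟩ := h
  refine rsub_of_POmega hr hr2 hp hp2 (nondeg_minusForm (m - 1) F a b hab) ?_ (coe_minusForm (m - 1) F a b) e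
  rw [Fintype.card_sum, Fintype.card_sum, Fintype.card_fin, Fintype.card_fin]
  omega

end Cfsg.Agent.PreUniq.Cl

end

-- merged: Cfsg.Agent.PreUniq.ClProj
section

/-!
# The projection to a group isomorphic to `X / Z(X)` (PREUNIQ-LIEODD, helper14)
-/

set_option autoImplicit false

namespace Cfsg.Agent.PreUniq.Cl

variable {X G : Type*} [Group X] [Group G]

/-- the projection `X → X / Z(X) ≃ G` -/
def projC (e : G ≃* X ⧸ Subgroup.center X) : X →* G :=
  e.symm.toMonoidHom.comp (QuotientGroup.mk' (Subgroup.center X))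

theorem projC_surjective (e : G ≃* X ⧸ Subgroup.center X) : Function.Surjective (projC e) :=
  e.symm.surjective.comp (QuotientGroup.mk'_surjective _)

theorem mem_center_of_projC {e : G ≃* X ⧸ Subgroup.center X} {x : X} (hx : projC e x = 1) :
    x ∈ Subgroup.center X := by
  have h3 : e.symm (QuotientGroup.mk' (Subgroup.center X) x) = e.symm 1 := by rw [map_one]; exact hx
  exact (QuotientGroup.eq_one_iff x).1 (e.symm.injective h3)

end Cfsg.Agent.PreUniq.Cl

end

-- merged: Cfsg.Agent.PreUniq.ClSymp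
section

/-!
# `RSub` for the symplectic groups in odd characteristic (PREUNIQ-LIEODD, helper14)
-/

set_option autoImplicit false
set_option linter.unusedSectionVars false
set_option linter.unusedVariables false

namespace Cfsg.Agent.PreUniq.Cl

open Cfsg Matrix
open Cfsg.Agent.ClassicalGeometry.SympBasic

variable {F : Type*} [Field F] {m : ℕ}

/-- the representation -/
def rhoS (m : ℕ) (F : Type*) [Field F] :
    ↥(symplecticGroup (Fin m) F) →* Module.End F (Fin m ⊕ Fin m → F) where
  toFun A := Matrix.mulVecLin (A : Matrix (Fin m ⊕ Fin m) (Fin m ⊕ Fin m) F)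
  map_one' := by
    rw [show ((1 : ↥(symplecticGroup (Fin m) F)) : Matrix (Fin m ⊕ Fin m) (Fin m ⊕ Fin m) F) = 1 from rfl,
      Matrix.mulVecLin_one]
    rfl
  map_mul' A B := by
    rw [show ((A * B : ↥(symplecticGroup (Fin m) F)) : Matrix (Fin m ⊕ Fin m) (Fin m ⊕ Fin m) F) = (A : Matrix _ _ F) *
      (B : Matrix _ _ F) from rfl, Matrix.mulVecLin_mul]
    rfl

theorem rhoS_apply (A : ↥(symplecticGroup (Fin m) F)) (v : Fin m ⊕ Fin m → F) :
    rhoS m F A v = (A : Matrix (Fin m ⊕ Fin m) (Fin m ⊕ Fin m) F) *ᵥ v := rfl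

theorem rhoS_injective : Function.Injective (rhoS m F) := by
  intro A B h
  apply Subtype.ext
  apply Matrix.mulVec_injective
  funext v
  exact congrArg (fun f : Module.End F (Fin m ⊕ Fin m → F) => f v) h

theorem formS : Form (RingHom.id F) (-1) (sympForm m F) where
  add x y z := sympForm_add_left x y z
  smul a x y := sympForm_smul_left a x y
  symm x y := by rw [RingHom.id_apply, sympForm_swap y x]; ring
  invol a := rfl
  eps := Or.inr rfl
  nondeg x h := eq_zero_of_forall_sympForm_right h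

variable {G : Type*} [Group G]

theorem actS (e : G ≃* PSp m F) : Act (projC e) (rhoS m F) (RingHom.id F) (-1) (sympForm m F) where
  surj := projC_surjective e
  form := formS
  inj := rhoS_injective
  isom x v w := sympForm_mulVec x.2 v w
  ker x hx := by
    obtain ⟨a, ha⟩ := (Cfsg.Agent.LieClassical.SympCenter.mem_center_iff m x).1 (mem_center_of_projC hx)
    refine ⟨a, fun v => ?_⟩
    rw [rhoS_apply, ha, Matrix.smul_mulVec, Matrix.one_mulVec]

theorem radNeS (e : G ≃* PSp m F) : (actS e).RadNe := by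
  intro W hW hiso
  obtain ⟨w, hw, hw0⟩ := Submodule.exists_mem_ne_zero_of_ne_bot hW
  refine ⟨transv w 1, ?_, ?_, ?_, ?_⟩
  · intro h
    apply hw0
    apply eq_zero_of_forall_sympForm_right
    intro v
    have h1 : rhoS m F (transv w 1) v = v := by rw [h, map_one, Module.End.one_apply]
    rw [rhoS_apply, coe_transv, sympTransvection_mulVec, one_mul] at h1
    have h2 : sympForm m F v w • w = 0 := by
      have : sympForm m F v w • w = (v + sympForm m F v w • w) - v := by abel
      rw [this, h1, sub_self]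
    rcases smul_eq_zero.1 h2 with h3 | h3
    · rw [sympForm_swap, h3, neg_zero]
    · exact absurd h3 hw0
  · intro v hv
    rw [rhoS_apply, coe_transv, sympTransvection_mulVec, hiso v hv w hw, mul_zero, zero_smul, add_zero]
  · intro v hv
    rw [rhoS_apply, coe_transv, sympTransvection_mulVec, hv w hw, mul_zero, zero_smul, add_zero, sub_self]
    exact W.zero_mem
  · intro v t ht
    rw [rhoS_apply, coe_transv, sympTransvection_mulVec, add_sub_cancel_left, sympForm_smul_left, hiso w hw t ht, mul_zero]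

theorem rsub_psp {p r : ℕ} (hp : p.Prime) (hp2 : p ≠ 2) (hr : r.Prime) (hr2 : r ≠ 2) (h : IsPSpChar r G) :
    Lie.RSub r p G := by
  obtain ⟨F, iF, iT, hF, m, hm, -, ⟨e⟩⟩ := h
  exact (actS e).rsub_symm hr hr2 hp hp2 (radNeS e)

end Cfsg.Agent.PreUniq.Cl

end

-- merged: Cfsg.Agent.PreUniq.ClUnit
section

/-!
# `RSub` for the unitary groups (PREUNIQ-LIEODD, helper14)
-/

set_option autoImplicit false
set_option linter.unusedSectionVars false
set_option linter.unusedVariables false

namespace Cfsg.Agent.PreUniq.Cl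

open Cfsg Matrix
open Cfsg.Agent.LieClassical.HermBasic
open Cfsg.Agent.ClassicalGeometry

variable {F : Type*} [Field F] {n q : ℕ}

/-- the representation -/
def rhoU (n q : ℕ) (F : Type*) [Field F] : ↥(SU n F q) →* Module.End F (Fin n → F) where
  toFun A := Matrix.mulVecLin ((A : Matrix.SpecialLinearGroup (Fin n) F) : Matrix (Fin n) (Fin n) F)
  map_one' := by
    rw [show (((1 : ↥(SU n F q)) : Matrix.SpecialLinearGroup (Fin n) F) : Matrix (Fin n) (Fin n) F) = 1 from rfl,
      Matrix.mulVecLin_one]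
    rfl
  map_mul' A B := by
    rw [show (((A * B : ↥(SU n F q)) : Matrix.SpecialLinearGroup (Fin n) F) : Matrix (Fin n) (Fin n) F) =
      ((A : Matrix.SpecialLinearGroup (Fin n) F) : Matrix (Fin n) (Fin n) F) *
      ((B : Matrix.SpecialLinearGroup (Fin n) F) : Matrix (Fin n) (Fin n) F) from by
        rw [Subgroup.coe_mul, Matrix.SpecialLinearGroup.coe_mul], Matrix.mulVecLin_mul]
    rfl

theorem rhoU_apply (A : ↥(SU n F q)) (v : Fin n → F) : rhoU n q F A v = UnitTransv.act A v := rfl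

theorem rhoU_injective : Function.Injective (rhoU n q F) := by
  intro A B h
  apply UnitTransv.ext_act
  intro v
  exact congrArg (fun f : Module.End F (Fin n → F) => f v) h

variable [Fintype F]

theorem formU (hF : Fintype.card F = q ^ 2) : Form ((conj hF : F ≃+* F) : F →+* F) 1 (hermForm n F q) where
  add x y z := herm_add_left x y z
  smul a x y := herm_smul_left a x y
  symm x y := by
    rw [one_mul, herm_swap hF x y]
    rfl
  invol a := pow_q_pow_q hF a
  eps := Or.inl rfl
  nondeg x h := herm_nondeg hF h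

variable {G : Type*} [Group G]

theorem actU (hF : Fintype.card F = q ^ 2) (hn : 3 ≤ n) (e : G ≃* PSU n F q) :
    Act (projC e) (rhoU n q F) ((conj hF : F ≃+* F) : F →+* F) 1 (hermForm n F q) where
  surj := projC_surjective e
  form := formU hF
  inj := rhoU_injective
  isom x v w := UnitTransv.herm_act x v w
  ker x hx := by
    obtain ⟨c, hcn, hcq, h⟩ := (Cfsg.Agent.LieClassical.SUBasic.mem_center_SU_iff hF hn x).1 (mem_center_of_projC hx)
    refine ⟨c, fun v => ?_⟩
    rw [rhoU_apply, UnitTransv.act_def, h, Cfsg.Agent.LieClassical.SUBasic.coe_suScalar]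
    funext i
    rw [Matrix.mulVec_diagonal]
    rfl

theorem radNeU (hF : Fintype.card F = q ^ 2) (hn : 3 ≤ n) (e : G ≃* PSU n F q) : (actU hF hn e).RadNe := by
  intro W hW hiso
  obtain ⟨w, hw, hw0⟩ := Submodule.exists_mem_ne_zero_of_ne_bot hW
  obtain ⟨c, hc0, hc⟩ := exists_trace_zero_ne hF
  have hww := hiso w hw w hw
  have hB := formU (n := n) hF
  refine ⟨UnitTransv.utv hF w c hww hc, ?_, ?_, ?_, ?_⟩
  · intro h
    apply hw0
    apply hB.nondeg' w
    intro v
    have h1 : rhoU n q F (UnitTransv.utv hF w c hww hc) v = v := by rw [h, map_one, Module.End.one_apply]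
    rw [rhoU_apply, UnitTransv.act_utv] at h1
    have h2 : (c * hermForm n F q v w) • w = 0 := by
      have : (c * hermForm n F q v w) • w = (v + (c * hermForm n F q v w) • w) - v := by abel
      rw [this, h1, sub_self]
    rcases smul_eq_zero.1 h2 with h3 | h3
    · exact (mul_eq_zero.1 h3).resolve_left hc0
    · exact absurd h3 hw0
  · intro v hv
    rw [rhoU_apply, UnitTransv.act_utv, hiso v hv w hw, mul_zero, zero_smul, add_zero]
  · intro v hv
    rw [rhoU_apply, UnitTransv.act_utv, hv w hw, mul_zero, zero_smul, add_zero, sub_self]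
    exact W.zero_mem
  · intro v t ht
    rw [rhoU_apply, UnitTransv.act_utv, add_sub_cancel_left, herm_smul_left, hiso w hw t ht, mul_zero]

theorem rsub_psu {p r : ℕ} (hr : r.Prime) (h : IsPSUChar r G) : Lie.RSub r p G := by
  obtain ⟨F, iF, iT, hF, n, q, hq, hn, -, ⟨e⟩⟩ := h
  obtain ⟨a, ha⟩ := exists_not_fixed hq
  exact (actU hq hn e).rsub_unitary hr (radNeU hq hn e) (a := a) ha

end Cfsg.Agent.PreUniq.Cl

end

-- merged: Cfsg.Agent.PreUniq.ClLin
section

/-!
# `RSub` for the linear groups (PREUNIQ-LIEODD, helper14)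
-/

set_option autoImplicit false
set_option linter.unusedSectionVars false
set_option linter.unusedVariables false

namespace Cfsg.Agent.PreUniq.Cl

open Cfsg

section Abs

variable {X G F V : Type*} [Group X] [Group G] [Field F] [AddCommGroup V] [Module F V]

/-- the unipotent radical of the stabilizer of a subspace -/
def radL (ρ : X →* Module.End F V) (W : Submodule F V) : Subgroup X where
  carrier := {x | (∀ w ∈ W, ρ x w = w) ∧ ∀ v, ρ x v - v ∈ W}
  mul_mem' := by
    rintro x y ⟨h1, h2⟩ ⟨h4, h5⟩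
    refine ⟨fun w hw => ?_, fun v => ?_⟩
    · rw [map_mul, Module.End.mul_apply, h4 w hw, h1 w hw]
    · have h7 : ρ (x * y) v - v = (ρ x (ρ y v) - ρ y v) + (ρ y v - v) := by
        rw [map_mul, Module.End.mul_apply]; abel
      rw [h7]
      exact W.add_mem (h2 _) (h5 v)
  one_mem' := by
    refine ⟨fun w _ => by rw [map_one, Module.End.one_apply], fun v => ?_⟩
    rw [map_one, Module.End.one_apply, sub_self]; exact W.zero_mem
  inv_mem' := by
    rintro x ⟨h1, h2⟩
    have hx : ∀ u, ρ x⁻¹ (ρ x u) = u := fun u => by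
      rw [← Module.End.mul_apply, ← map_mul, inv_mul_cancel, map_one, Module.End.one_apply]
    have hx' : ∀ u, ρ x (ρ x⁻¹ u) = u := fun u => by
      rw [← Module.End.mul_apply, ← map_mul, mul_inv_cancel, map_one, Module.End.one_apply]
    refine ⟨fun w hw => ?_, fun v => ?_⟩
    · conv_lhs => rw [← h1 w hw]
      rw [hx]
    · have h5 : ρ x⁻¹ v - v = -(ρ x (ρ x⁻¹ v) - ρ x⁻¹ v) := by rw [hx']; abel
      rw [h5]
      exact W.neg_mem (h2 _)

theorem mem_radL {ρ : X →* Module.End F V} {W : Submodule F V} {x : X} :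
    x ∈ radL ρ W ↔ (∀ w ∈ W, ρ x w = w) ∧ ∀ v, ρ x v - v ∈ W := Iff.rfl

theorem isPGroup_radL {r : ℕ} [hr : Fact r.Prime] [CharP F r] {ρ : X →* Module.End F V}
    (hinj : Function.Injective ρ) (W : Submodule F V) : IsPGroup r (radL ρ W) := by
  rintro ⟨x, hx⟩
  refine ⟨2, Subtype.ext ?_⟩
  rw [mem_radL] at hx
  change x ^ r ^ 2 = 1
  apply pow_eq_one_of_cube hinj
  ext v
  have h1 : ∀ u, (ρ x - 1) u = ρ x u - u := fun u => by
    rw [LinearMap.sub_apply, Module.End.one_apply]
  rw [pow_succ, pow_two, Module.End.mul_apply, Module.End.mul_apply, h1 v, h1 (ρ x v - v), h1, LinearMap.zero_apply]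
  rw [hx.1 _ (hx.2 v), sub_self, map_zero, sub_zero]

theorem rsub_lin [Finite F] [Finite V] [Nontrivial V] {π : X →* G} {ρ : X →* Module.End F V} (hπ : Function.Surjective π)
    (hinj : Function.Injective ρ) (hk : ∀ x, π x = 1 → ∃ a : F, ∀ v, ρ x v = a • v)
    (hrad : ∀ W : Submodule F V, W ≠ ⊥ → W ≠ ⊤ → ∃ x : X, x ≠ 1 ∧ (∀ w ∈ W, ρ x w = w) ∧ ∀ v, ρ x v - v ∈ W)
    {r p : ℕ} (hr : r.Prime) [CharP F r] : Lie.RSub r p G := by
  intro E _ _ hns
  have := Fact.mk hr
  classical
  have hker : π.ker ≤ Subgroup.center X := by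
    intro z hz
    obtain ⟨a, ha⟩ := hk z hz
    rw [Subgroup.mem_center_iff]
    intro g
    apply hinj
    ext v
    rw [map_mul, map_mul, Module.End.mul_apply, Module.End.mul_apply, ha, ha, map_smul]
  by_cases hs : ∀ W : Submodule (Alg π ρ E) V, W = ⊥ ∨ W = ⊤
  · exfalso
    apply hns
    have hsimple : IsSimpleModule (Alg π ρ E) V := by
      have : IsSimpleOrder (Submodule (Alg π ρ E) V) :=
        { toNontrivial := inferInstance, eq_bot_or_eq_top := hs }
      exact ⟨⟩
    have hfin : Finite (Module.End (Alg π ρ E) V) := Finite.of_injective (fun f => (f : V → V)) DFunLike.coe_injective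
    refine solvable_of_lift hπ hker (solvable_of_comm fun c hc c' hc' => ?_)
    apply hinj
    ext v
    rw [map_mul, map_mul, Module.End.mul_apply, Module.End.mul_apply]
    have h1 : lin π ρ hc * lin π ρ hc' = lin π ρ hc' * lin π ρ hc := mul_comm_of_domain (isDomain_end hsimple) _ _
    exact congrArg (fun f : Module.End (Alg π ρ E) V => f v) h1
  · push Not at hs
    obtain ⟨W, hW0, hW1⟩ := hs
    let W' : Submodule F V :=
      { carrier := W
        add_mem' := W.add_mem
        zero_mem' := W.zero_mem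
        smul_mem' := fun a x hx => (Submodule.smul_of_tower_mem W a hx :) }
    have hW0' : W' ≠ ⊥ := by
      intro h1
      apply hW0
      rw [eq_bot_iff]
      intro v hv
      have : v ∈ W' := hv
      rw [h1] at this
      exact this
    have hW1' : W' ≠ ⊤ := by
      intro h1
      apply hW1
      rw [eq_top_iff]
      intro v _
      have : v ∈ W' := by rw [h1]; exact Submodule.mem_top
      exact this
    refine ⟨(radL ρ W').map π, (isPGroup_radL hinj W').map π, ?_, ?_⟩
    · obtain ⟨x, hx1, hx⟩ := hrad W' hW0' hW1'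
      intro h1
      have h2 : π x ∈ (radL ρ W').map π := ⟨x, hx, rfl⟩
      rw [h1, Subgroup.mem_bot] at h2
      obtain ⟨a, ha⟩ := hk x h2
      obtain ⟨w, hw, hw0⟩ := Submodule.exists_mem_ne_zero_of_ne_bot hW0'
      apply hx1
      apply hinj
      ext v
      rw [ha, map_one, Module.End.one_apply]
      have h3 := hx.1 w hw
      rw [ha] at h3
      have h4 : (a - 1) • w = 0 := by rw [sub_smul, one_smul, h3, sub_self]
      have h5 : a = 1 := by
        rcases smul_eq_zero.1 h4 with h6 | h6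
        · exact sub_eq_zero.1 h6
        · exact absurd h6 hw0
      rw [h5, one_smul]
    · intro e he
      obtain ⟨y, rfl⟩ := hπ e
      have hyW : ∀ y, π y ∈ E → ∀ w ∈ W', ρ y w ∈ W' := fun y hy w hw => by
        rw [← elt_smul π ρ hy]
        exact W.smul_mem _ hw
      have key : ∀ y, π y ∈ E → ∀ x ∈ radL ρ W', y * x * y⁻¹ ∈ radL ρ W' := by
        intro y hy x hx
        have hy' : π y⁻¹ ∈ E := by rw [map_inv]; exact E.inv_mem hy
        have h1 : ∀ u, ρ y (ρ y⁻¹ u) = u := fun u => by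
          rw [← Module.End.mul_apply, ← map_mul, mul_inv_cancel, map_one, Module.End.one_apply]
        have h3 : ∀ u, ρ (y * x * y⁻¹) u = ρ y (ρ x (ρ y⁻¹ u)) := fun u => by
          rw [map_mul, map_mul, Module.End.mul_apply, Module.End.mul_apply]
        rw [mem_radL] at hx ⊢
        refine ⟨fun w hw => ?_, fun v => ?_⟩
        · rw [h3, hx.1 _ (hyW _ hy' w hw), h1]
        · have h4 : ρ (y * x * y⁻¹) v - v = ρ y (ρ x (ρ y⁻¹ v) - ρ y⁻¹ v) := by
            rw [map_sub, h1, h3]
          rw [h4]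
          exact hyW _ hy _ (hx.2 _)
      rw [Subgroup.mem_normalizer_iff]
      intro g
      constructor
      · rintro ⟨x, hx, rfl⟩
        exact ⟨y * x * y⁻¹, key y he x hx, by simp only [map_mul, map_inv]⟩
      · rintro ⟨x, hx, hxg⟩
        have he' : π y⁻¹ ∈ E := by rw [map_inv]; exact E.inv_mem he
        refine ⟨y⁻¹ * x * y⁻¹⁻¹, key _ he' x hx, ?_⟩
        simp only [map_mul, map_inv, inv_inv, hxg]
        group

end Abs

variable {F : Type*} [Field F] {n : ℕ}

/-- the representation -/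
def rhoL (n : ℕ) (F : Type*) [Field F] : Matrix.SpecialLinearGroup (Fin n) F →* Module.End F (Fin n → F) where
  toFun A := Matrix.mulVecLin (A : Matrix (Fin n) (Fin n) F)
  map_one' := by
    rw [Matrix.SpecialLinearGroup.coe_one, Matrix.mulVecLin_one]
    rfl
  map_mul' A B := by
    rw [Matrix.SpecialLinearGroup.coe_mul, Matrix.mulVecLin_mul]
    rfl

theorem rhoL_apply (A : Matrix.SpecialLinearGroup (Fin n) F) (v : Fin n → F) :
    rhoL n F A v = (A : Matrix (Fin n) (Fin n) F).mulVec v := rfl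

theorem rhoL_injective : Function.Injective (rhoL n F) := by
  intro A B h
  apply Subtype.ext
  apply Matrix.mulVec_injective
  funext v
  exact congrArg (fun f : Module.End F (Fin n → F) => f v) h

/-- transvections -/
theorem exists_transv {W : Submodule F (Fin n → F)} (h0 : W ≠ ⊥) (h1 : W ≠ ⊤) :
    ∃ x : Matrix.SpecialLinearGroup (Fin n) F, x ≠ 1 ∧ (∀ w ∈ W, rhoL n F x w = w) ∧ ∀ v, rhoL n F x v - v ∈ W := by
  obtain ⟨w, hw, hw0⟩ := Submodule.exists_mem_ne_zero_of_ne_bot h0
  obtain ⟨f, hf0, hf⟩ := W.exists_le_ker_of_lt_top (lt_top_iff_ne_top.2 h1)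
  have hfw : f w = 0 := hf hw
  let x : Matrix.SpecialLinearGroup (Fin n) F :=
    ⟨LinearMap.toMatrix' (LinearMap.transvection f w), by
      rw [LinearMap.det_toMatrix', LinearMap.transvection.det, hfw, add_zero]⟩
  have hx : ∀ v, rhoL n F x v = v + f v • w := fun v => by
    rw [rhoL_apply]
    change (LinearMap.toMatrix' (LinearMap.transvection f w)).mulVec v = _
    rw [LinearMap.toMatrix'_mulVec, LinearMap.transvection.apply]
  refine ⟨x, ?_, ?_, ?_⟩
  · intro h
    apply hf0
    ext v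
    have h2 := hx (Pi.single v 1)
    rw [h, map_one, Module.End.one_apply] at h2
    have h3 : f (Pi.single v 1) • w = 0 := by
      have : f (Pi.single v 1) • w = (Pi.single v 1 + f (Pi.single v 1) • w) - Pi.single v 1 := by abel
      rw [this, ← h2, sub_self]
    rcases smul_eq_zero.1 h3 with h4 | h4
    · simpa only [_root_.LinearMap.coe_comp, _root_.LinearMap.coe_single, _root_.Function.comp_apply, _root_.LinearMap.zero_comp, _root_.LinearMap.zero_apply] using h4
    · exact absurd h4 hw0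
  · intro v hv
    rw [hx, show f v = 0 from hf hv, zero_smul, add_zero]
  · intro v
    rw [hx, add_sub_cancel_left]
    exact W.smul_mem _ hw

variable {G : Type*} [Group G]

theorem rsub_psl {p r : ℕ} (hr : r.Prime) (h : IsPSLChar r G) : Lie.RSub r p G := by
  obtain ⟨F, iF, iT, hF, n, hn, -, ⟨e⟩⟩ := h
  have : Nonempty (Fin n) := ⟨⟨0, by omega⟩⟩
  refine rsub_lin (projC_surjective e) rhoL_injective (fun x hx => ?_) (fun W h0 h1 => exists_transv h0 h1) hr
  obtain ⟨c, hc, h⟩ := Matrix.SpecialLinearGroup.mem_center_iff.1 (mem_center_of_projC hx)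
  refine ⟨c, fun v => ?_⟩
  rw [rhoL_apply, ← h, Matrix.scalar_apply]
  funext i
  rw [Matrix.mulVec_diagonal]
  rfl

end Cfsg.Agent.PreUniq.Cl

end

-- merged: Cfsg.Agent.PreUniq.ClRows
section

/-!
# The rows of the classical groups (PREUNIQ-LIEODD, helper14)

`StdPre p G` for the classical groups `G` in characteristic `r ≠ p`: `stdPre_psl`, `stdPre_psu` (all `p`, `r`),
`stdPre_psp`, `stdPre_omegaOdd`, `stdPre_omegaPlus`, `stdPre_omegaMinus` (`p`, `r` odd).
-/

set_option autoImplicit false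

namespace Cfsg.Agent.PreUniq.Cl

open Cfsg Cfsg.Agent.PreUniq

universe u

variable {G : Type u} [Group G] [Finite G] [IsSimpleGroup G] {p r : ℕ}

theorem stdPre_psl (hp : p.Prime) (hr : r.Prime) (hrp : r ≠ p) (hna : ¬ IsMulCommutative G) (h : IsPSLChar r G) :
    StdPre p G :=
  Lie.stdPre_of_rsub hp hr hrp hna (Or.inl h) (rsub_psl hr h)

theorem stdPre_psu (hp : p.Prime) (hr : r.Prime) (hrp : r ≠ p) (hna : ¬ IsMulCommutative G) (h : IsPSUChar r G) :
    StdPre p G :=
  Lie.stdPre_of_rsub hp hr hrp hna (Or.inr (Or.inr (Or.inl h))) (rsub_psu hr h)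

theorem stdPre_psp (hp : p.Prime) (hp2 : p ≠ 2) (hr : r.Prime) (hr2 : r ≠ 2) (hrp : r ≠ p)
    (hna : ¬ IsMulCommutative G) (h : IsPSpChar r G) : StdPre p G :=
  Lie.stdPre_of_rsub hp hr hrp hna (Or.inr (Or.inl h)) (rsub_psp hp hp2 hr hr2 h)

theorem stdPre_omegaOdd (hp : p.Prime) (hp2 : p ≠ 2) (hr : r.Prime) (hr2 : r ≠ 2) (hrp : r ≠ p)
    (hna : ¬ IsMulCommutative G) (h : IsPOmegaOddChar r G) : StdPre p G :=
  Lie.stdPre_of_rsub hp hr hrp hna (Or.inr (Or.inr (Or.inr (Or.inl h)))) (rsub_omegaOdd hp hp2 hr hr2 h)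

theorem stdPre_omegaPlus (hp : p.Prime) (hp2 : p ≠ 2) (hr : r.Prime) (hr2 : r ≠ 2) (hrp : r ≠ p)
    (hna : ¬ IsMulCommutative G) (h : IsPOmegaPlusChar r G) : StdPre p G :=
  Lie.stdPre_of_rsub hp hr hrp hna (Or.inr (Or.inr (Or.inr (Or.inr (Or.inl h))))) (rsub_omegaPlus hp hp2 hr hr2 h)

theorem stdPre_omegaMinus (hp : p.Prime) (hp2 : p ≠ 2) (hr : r.Prime) (hr2 : r ≠ 2) (hrp : r ≠ p)
    (hna : ¬ IsMulCommutative G) (h : IsPOmegaMinusChar r G) : StdPre p G :=
  Lie.stdPre_of_rsub hp hr hrp hna (Or.inr (Or.inr (Or.inr (Or.inr (Or.inr (Or.inl h))))))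
    (rsub_omegaMinus hp hp2 hr hr2 h)

end Cfsg.Agent.PreUniq.Cl

end

-- merged: Cfsg.Agent.PreUniq.CharPRee
section

/-!
The small Ree groups: `C_G(x)` is solvable for all `x` of order 3; `NoPre 3 G`.
-/

set_option autoImplicit false

namespace Cfsg.Agent.PreUniq.Ree

open Cfsg.Agent.LieRecognition.ReeAbs Cfsg.Agent.LieRecognition.ReeSylowThree Cfsg.Agent.LieRecognition.ReeSplit
open scoped Pointwise commutatorElement

variable {K : Type*} [Field K] {G : Type*} [Group G]
variable {m : ℕ} {U : K → K → K → G} {h : Kˣ → G} {n : G}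

theorem exists_sylow [Fintype K] (hK : Fintype.card K = 3 ^ (2 * m + 1)) (D : Data m U h n) :
    ∃ S : Sylow 3 G, (S : Subgroup G) = uSub D := by
  have : Finite G := finite D
  have : Fact (Nat.Prime 3) := ⟨Nat.prime_three⟩
  have hcardU : Nat.card (uSub D) = 3 ^ (3 * (2 * m + 1)) := by
    rw [card_uSub, hK, ← pow_mul, mul_comm]
  have hfac : (Nat.card G).factorization 3 = 3 * (2 * m + 1) := by
    rw [card_eq D, hK]
    set q := 3 ^ (2 * m + 1) with hq
    have hq3 : 3 ∣ q := dvd_pow_self 3 (by omega)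
    have hq0 : 0 < q := by positivity
    have h1 : ¬ 3 ∣ (q - 1) * (q ^ 3 + 1) := by
      rw [Nat.prime_three.dvd_mul]
      have h3 : 3 ∣ q ^ 3 := dvd_pow hq3 (by norm_num)
      rintro (h | h) <;> (clear * - hq0 h D h3; omega)
    rw [mul_assoc, Nat.factorization_mul (by positivity) (by intro h0; rw [h0] at h1; exact h1 (dvd_zero 3)),
      Finsupp.add_apply, Nat.factorization_eq_zero_of_not_dvd h1, hq, ← pow_mul,
      Nat.Prime.factorization_pow Nat.prime_three, Finsupp.single_apply, if_pos rfl, add_zero, mul_comm]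
  exact ⟨Sylow.ofCard (uSub D) (by rw [hcardU, hfac]), rfl⟩

theorem commutator_mem (D : Data m U h n) {y z : G} (hy : y ∈ bSub D) (hz : z ∈ bSub D) :
    ⁅y, z⁆ ∈ uSub D := by
  obtain ⟨t, u, v, a, rfl⟩ := hy
  obtain ⟨t', u', v', b, rfl⟩ := hz
  have hu : U t u v ∈ uSub D := ⟨_, _, _, rfl⟩
  have hu' : U t' u' v' ∈ uSub D := ⟨_, _, _, rfl⟩
  have h1 := h_conj_mem D a hu'
  have h2 := h_conj_mem D b hu
  have e1 : U t u v * h a * (U t' u' v' * h b) = U t u v * (h a * U t' u' v' * (h a)⁻¹) * (h a * h b) := by group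
  have e2 : U t' u' v' * h b * (U t u v * h a) = U t' u' v' * (h b * U t u v * (h b)⁻¹) * (h a * h b) := by
    rw [D.h_comm a b]; group
  have e : ⁅U t u v * h a, U t' u' v' * h b⁆ =
      U t u v * (h a * U t' u' v' * (h a)⁻¹) * (U t' u' v' * (h b * U t u v * (h b)⁻¹))⁻¹ := by
    have e3 : ⁅U t u v * h a, U t' u' v' * h b⁆ =
        (U t u v * h a * (U t' u' v' * h b)) * (U t' u' v' * h b * (U t u v * h a))⁻¹ := by
      rw [commutatorElement_def, mul_inv_rev (U t' u' v' * h b) (U t u v * h a)]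
      simp only [mul_assoc]
    rw [e3, e1, e2]; group
  rw [e]
  exact (uSub D).mul_mem ((uSub D).mul_mem hu h1) ((uSub D).inv_mem ((uSub D).mul_mem hu' h2))

theorem isPGroup_uSub [Fintype K] (hK : Fintype.card K = 3 ^ (2 * m + 1)) (D : Data m U h n) :
    IsPGroup 3 (uSub D) := by
  refine IsPGroup.of_card (n := 3 * (2 * m + 1)) ?_
  rw [card_uSub, hK, ← pow_mul, mul_comm]

theorem isSolvable_bSub [Fintype K] (hK : Fintype.card K = 3 ^ (2 * m + 1)) (D : Data m U h n) :
    Group.IsSolvable ↥(bSub D) := by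
  have : Finite G := finite D
  have : Fact (Nat.Prime 3) := ⟨Nat.prime_three⟩
  have h1 : ⁅(⊤ : Subgroup ↥(bSub D)), ⊤⁆ ≤ (uSub D).subgroupOf (bSub D) := by
    rw [Subgroup.commutator_le]
    intro y _ z _
    exact commutator_mem D y.2 z.2
  have h2 : IsPGroup 3 ((uSub D).subgroupOf (bSub D)) :=
    (isPGroup_uSub hK D).comap_of_injective _ (Subgroup.subtype_injective _)
  have h3 : IsPGroup 3 (⁅(⊤ : Subgroup ↥(bSub D)), ⊤⁆ : Subgroup ↥(bSub D)) := h2.to_le h1
  have h4 : Group.IsSolvable (⁅(⊤ : Subgroup ↥(bSub D)), ⊤⁆ : Subgroup ↥(bSub D)) :=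
    have := h3.isNilpotent
    inferInstance
  exact (Group.isSolvable_iff_subgroup_quotient (commutator ↥(bSub D))).2
    ⟨h4, Group.isSolvable_of_comm (G := Abelianization ↥(bSub D)) mul_comm⟩

theorem isSolvable_centralizer [Fintype K] (hK : Fintype.card K = 3 ^ (2 * m + 1)) (D : Data m U h n) {x : G}
    (hx : orderOf x = 3) : Group.IsSolvable ↥(Subgroup.centralizer ({x} : Set G)) := by
  have : Finite G := finite D
  have : Fact (Nat.Prime 3) := ⟨Nat.prime_three⟩
  obtain ⟨S, hS⟩ := exists_sylow hK D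
  have hxp : IsPGroup 3 (Subgroup.zpowers x) := by
    rw [IsPGroup.iff_card]
    exact ⟨1, by rw [Nat.card_zpowers, hx, pow_one]⟩
  obtain ⟨g, hg⟩ := exists_conj_le S hxp
  have hy : g * x * g⁻¹ ∈ uSub D := by
    rw [← hS]
    exact hg x (Subgroup.mem_zpowers x)
  have hx1 : x ≠ 1 := by
    rintro rfl
    rw [orderOf_one] at hx
    omega
  have hy1 : g * x * g⁻¹ ≠ 1 := by
    rw [Ne, conj_eq_one_iff]
    exact hx1
  have hle : (Subgroup.centralizer ({x} : Set G)).map (MulAut.conj g).toMonoidHom ≤ bSub D := by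
    rintro _ ⟨y, hyc, rfl⟩
    have h1 : y * x = x * y := Subgroup.mem_centralizer_singleton_iff.1 hyc
    refine mem_bSub_of_conj D hy hy hy1 ?_
    change g * x * g⁻¹ * (g * y * g⁻¹) = g * y * g⁻¹ * (g * x * g⁻¹)
    have e1 : g * x * g⁻¹ * (g * y * g⁻¹) = g * (x * y) * g⁻¹ := by group
    have e2 : g * y * g⁻¹ * (g * x * g⁻¹) = g * (y * x) * g⁻¹ := by group
    rw [e1, e2, h1]
  have := isSolvable_bSub hK D
  have h2 : Group.IsSolvable ↥((Subgroup.centralizer ({x} : Set G)).map (MulAut.conj g).toMonoidHom) :=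
    Group.isSolvable_of_isSolvable_injective (f := Subgroup.inclusion hle) (Subgroup.inclusion_injective hle)
  exact Group.isSolvable_of_isSolvable_injective
    (f := ((Subgroup.centralizer ({x} : Set G)).equivMapOfInjective (MulAut.conj g).toMonoidHom
      (MulAut.conj g).injective).toMonoidHom) (MulEquiv.injective _)

theorem noPre_of_data [Fintype K] (hK : Fintype.card K = 3 ^ (2 * m + 1)) (D : Data m U h n) : NoPre 3 G := by
  have : Finite G := finite D
  have : Fact (Nat.Prime 3) := ⟨Nat.prime_three⟩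
  exact noPre_of_solvable fun x hx => isSolvable_centralizer hK D hx

/-- **The small Ree groups have no 3-component preuniqueness subgroups.** -/
theorem noPre {X : Type*} [Group X] (hX : Lie.IsoRee X) : NoPre 3 X := by
  obtain ⟨K, _, _, m, -, hK, ⟨e⟩⟩ := hX
  obtain ⟨U, h, n, D⟩ := Cfsg.Agent.ChevalleyStructure.Ree.Data.exists_data hK
  exact NoPre.congr e.symm (noPre_of_data hK D)

end Cfsg.Agent.PreUniq.Ree

end

-- merged: Cfsg.Agent.PreUniq.CharP
section

/-!
Row CHARP of the preuniqueness theorems: the groups of Lie type of characteristic `p` have no `p`-component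
preuniqueness subgroups.

* `noPre_of_hasFilt`, `noPre_of_lieFilt` : all `p`, all families except `Sz`, `²F₄`, `²G₂`;
* `noPre_of_lieType` : `p` odd, all families.
-/

set_option autoImplicit false

namespace Cfsg.Agent.PreUniq

open Cfsg.Agent.KFacts.RgdFilt Cfsg.Agent.KFacts.RgdLieCharP

variable {G : Type*} [Group G] [Finite G] [IsSimpleGroup G] {p : ℕ} [Fact p.Prime]

theorem noPre_of_hasFilt (hc : ∃ a b : G, a * b ≠ b * a) (h : HasFilt p G) : NoPre p G := by
  refine noPre_of_charP fun x hx => h.local_char hc (K := Subgroup.zpowers x) ?_ ?_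
  · rw [IsPGroup.iff_card]
    exact ⟨1, by rw [Nat.card_zpowers, hx, pow_one]⟩
  · rw [Ne, Subgroup.zpowers_eq_bot]
    rintro rfl
    rw [orderOf_one] at hx
    exact (Fact.out : p.Prime).one_lt.ne hx

/-- The groups of Lie type of characteristic `p`, not `Sz`, `²F₄`, `²G₂`, have no `p`-component preuniqueness
subgroups. -/
theorem noPre_of_lieFilt (hc : ∃ a b : G, a * b ≠ b * a) (h : IsLieFilt p G) : NoPre p G :=
  noPre_of_hasFilt hc (hasFilt_of_lie h)

/-- **The groups of Lie type of odd characteristic `p` have no `p`-component preuniqueness subgroups.** -/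
theorem noPre_of_lieType (hp : p ≠ 2) (hc : ∃ a b : G, a * b ≠ b * a) (h : IsLieTypeChar p G) : NoPre p G := by
  rcases h with h | h | h | h | h | h | h | h | h | h | h
  · exact noPre_of_lieFilt hc (Or.inl h)
  · exact noPre_of_lieFilt hc (Or.inr (Or.inl h))
  · exact noPre_of_lieFilt hc (Or.inr (Or.inr (Or.inl h)))
  · exact noPre_of_lieFilt hc (Or.inr (Or.inr (Or.inr (Or.inl h))))
  · exact noPre_of_lieFilt hc (Or.inr (Or.inr (Or.inr (Or.inr (Or.inl h)))))
  · exact noPre_of_lieFilt hc (Or.inr (Or.inr (Or.inr (Or.inr (Or.inr (Or.inl h))))))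
  · exact noPre_of_lieFilt hc (Or.inr (Or.inr (Or.inr (Or.inr (Or.inr (Or.inr (Or.inl h)))))))
  · exact noPre_of_lieFilt hc (Or.inr (Or.inr (Or.inr (Or.inr (Or.inr (Or.inr (Or.inr h)))))))
  · exact absurd h.1 hp
  · exact absurd h.1 hp
  · obtain ⟨rfl, h⟩ := h
    exact Ree.noPre h

end Cfsg.Agent.PreUniq

end

-- merged: Cfsg.Agent.PreUniq.ExcRP
section

/-!
# Preuniqueness for groups of Lie type of characteristic `r ≠ p`: reduction to `RP r (C_G(x))` (helper16)

`RP r H` : every normal subgroup of `H` of order prime to `r` is solvable.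

`noPre_of_rp` : `G` simple with a filtered root group datum in characteristic `r ≠ p`; if `RP r (C_G(x))` for all `x` of
order `p`, then `NoPre p G`. (`r` does not divide `|K|` for a preuniqueness pair `(M, K)`.)
-/

set_option autoImplicit false
set_option linter.unusedSectionVars false

namespace Cfsg.Agent.PreUniq.ExcRP

open Cfsg Cfsg.Agent.PreUniq

universe u

variable {G : Type u} [Group G] [Finite G] {p r : ℕ}

/-- `r` does not divide the order of `K`, if no subgroup `R ≠ 1` of order a power of `r` is normalized by the grip. -/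
theorem not_dvd_card (hp : p.Prime) [hr : Fact r.Prime] {M K E : Subgroup G}
    (h : IsPreuniquenessSubgroup p M K) (hE : E ≤ perp p M K) (hg : Grip p M E)
    (hn : ∀ R : Subgroup G, IsPGroup r R → R ≠ ⊥ → E ≤ Subgroup.normalizer (R : Set G) → False) :
    ¬ r ∣ Nat.card K := by
  have := Fact.mk hp
  obtain ⟨-, hKM, hK, -⟩ := h
  -- `r ∤ |C_G(E)|`
  have h1 : ¬ r ∣ Nat.card ↥(K ⊓ Subgroup.centralizer (E : Set G)) := by
    intro hd
    obtain ⟨u, hu⟩ := exists_prime_orderOf_dvd_card' (G := ↥(K ⊓ Subgroup.centralizer (E : Set G))) r hd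
    have hu1 : orderOf (u : G) = r := by rw [Subgroup.orderOf_coe, hu]
    refine hn (Subgroup.zpowers (u : G)) ?_ ?_ ?_
    · rw [IsPGroup.iff_card]
      exact ⟨1, by rw [Nat.card_zpowers, hu1, pow_one]⟩
    · rw [Ne, Subgroup.zpowers_eq_bot]
      intro h1
      rw [h1, orderOf_one] at hu1
      exact hr.out.one_lt.ne hu1
    · intro e he
      refine Subgroup.centralizer_le_normalizer _ ?_
      rw [Subgroup.mem_centralizer_iff]
      intro v hv
      obtain ⟨k, rfl⟩ := Subgroup.mem_zpowers_iff.1 hv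
      have h2 : e * (u : G) = u * e := Subgroup.mem_centralizer_iff.1 u.2.2 e he
      exact (Commute.zpow_right (show Commute e (u : G) from h2) k).symm.eq
  -- `r ∤ |O_{p'}(M)|`
  have h2 : ¬ r ∣ Nat.card (core p M) := by
    intro hd
    have hcop : ¬ p ∣ Nat.card (core p M) := by
      intro h3
      exact hp.one_lt.ne' (Nat.eq_one_of_dvd_coprimes (core_coprime (p := p) (M := M)) h3 dvd_rfl)
    obtain ⟨P, hP⟩ := Cfsg.Agent.Lib.CoprimeHyperplane.exists_invariant_sylow (A := E) (Q := core p M) hg.isPGroup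
      ((hg.2.2.1).trans core_normal) hcop r
    refine hn _ (P.2.map _) ?_ hP
    intro h3
    rw [Subgroup.map_eq_bot_iff, Subgroup.ker_subtype, le_bot_iff] at h3
    exact P.ne_bot_of_dvd_card hd h3
  -- `r ∤ |K : K ∩ O_{p'}(M)|`
  have h3 : ¬ r ∣ Nat.card ↥(bar p M K) := by
    rw [← map_fix hKM hK hE hg.isPGroup]
    intro hd
    refine h1 (hd.trans ((Subgroup.card_map_dvd _ _).trans ?_))
    rw [Nat.card_congr (Subgroup.subgroupOfEquivOfLe (inf_le_left.trans hKM)).toEquiv]
  intro hd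
  have e1 : Nat.card K = Nat.card ↥(K.subgroupOf M) :=
    (Nat.card_congr (Subgroup.subgroupOfEquivOfLe hKM).toEquiv).symm
  have e2 : Nat.card ↥(K.subgroupOf M) = Nat.card ((QuotientGroup.mk' (pPrimeCore p ↥M)).comp (K.subgroupOf M).subtype).ker *
      Nat.card ↥(bar p M K) := by
    rw [Subgroup.card_eq_card_quotient_mul_card_subgroup
      ((QuotientGroup.mk' (pPrimeCore p ↥M)).comp (K.subgroupOf M).subtype).ker, mul_comm]
    congr 1
    rw [Nat.card_congr (QuotientGroup.quotientKerEquivRange _).toEquiv, MonoidHom.range_comp, Subgroup.range_subtype]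
  rw [e1, e2] at hd
  rcases (Nat.Prime.dvd_mul hr.out).1 hd with h4 | h4
  · apply h2
    refine h4.trans ?_
    have h5 : Nat.card (core p M) = Nat.card (pPrimeCore p ↥M) :=
      (Nat.card_congr (Subgroup.equivMapOfInjective _ _ M.subtype_injective).toEquiv).symm
    rw [h5]
    have h6 : (((QuotientGroup.mk' (pPrimeCore p ↥M)).comp (K.subgroupOf M).subtype).ker.map (K.subgroupOf M).subtype) ≤
        pPrimeCore p ↥M := by
      rintro _ ⟨x, hx, rfl⟩
      have h7 : (QuotientGroup.mk' (pPrimeCore p ↥M)) (x : ↥M) = 1 := hx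
      rw [QuotientGroup.mk'_apply, QuotientGroup.eq_one_iff] at h7
      exact h7
    have h7 := Subgroup.card_dvd_of_le h6
    rwa [Subgroup.card_map_of_injective (Subgroup.subtype_injective _)] at h7
  · exact h3 h4

/-- **The reduction to `RP r (C_G(x))`.** -/
theorem noPre_of_rp [IsSimpleGroup G] (hp : p.Prime) (hr : r.Prime) (hrp : r ≠ p)
    (hG : KFacts.RgdFilt.HasFilt r G) (hc : ∃ a b : G, a * b ≠ b * a)
    (hRP : ∀ x : G, orderOf x = p → RP r ↥(Subgroup.centralizer ({x} : Set G))) : NoPre p G := by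
  intro M K h
  have := Fact.mk hp
  have := Fact.mk hr
  obtain ⟨E, hE, hg⟩ := exists_grip hp h
  have hn : ∀ R : Subgroup G, IsPGroup r R → R ≠ ⊥ → E ≤ Subgroup.normalizer (R : Set G) → False :=
    fun R hR hR1 hER => Lie.not_grip hp hrp hG hc h.1.1 hg hR hR1 hER
  have hK := not_dvd_card hp h.1 hE hg hn
  obtain ⟨x, hx, hx1⟩ := E.bot_or_exists_ne_one.resolve_left (hg.ne_bot hp)
  have hxp : orderOf x = p := orderOf_eq hp hg.1.2 hx hx1
  obtain ⟨hMt, hKM, hKc, -⟩ := h.1
  set C := Subgroup.centralizer ({x} : Set G) with hC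
  have hCM : C ≤ M := hg.2.2.2 x hx hx1
  have hYs : (K.subgroupOf C).IsSubnormal := by
    have h1 : K.subgroupOf C = (K.subgroupOf M).comap (Subgroup.inclusion hCM) := rfl
    rw [h1]
    exact Subgroup.IsSubnormal.comap _ hKc.1
  have hYc : Nat.card ↥(K.subgroupOf C) ∣ Nat.card K := by
    have h1 : (K.subgroupOf C).map C.subtype ≤ K := by
      rintro _ ⟨y, hy, rfl⟩
      exact hy
    have h2 := Subgroup.card_dvd_of_le h1
    rwa [Subgroup.card_map_of_injective C.subtype_injective] at h2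
  have hYr : (Nat.card ↥(K.subgroupOf C)).Coprime r := by
    rw [Nat.coprime_comm, Nat.Prime.coprime_iff_not_dvd hr]
    exact fun h1 => hK (h1.trans hYc)
  have hle := Cfsg.Agent.SignalizersComponents.CompBasic.subnormal_coprime_le_pPrimeCore hYs hYr
  have hs := hRP x hxp (pPrimeCore r ↥C) (Cfsg.Agent.Lib.Cores.pPrimeCore_normal r) (by
    intro h1
    exact hr.one_lt.ne' (Nat.eq_one_of_dvd_coprimes (Cfsg.Agent.Lib.Cores.pPrimeCore_coprime r) h1 dvd_rfl))
  -- `K ∩ C_G(x)` is nonsolvable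
  have hRE : Subgroup.zpowers x ≤ perp p M K := by
    rw [Subgroup.zpowers_le]
    exact hE hx
  have hRp : IsPGroup p (Subgroup.zpowers x) := by
    rw [IsPGroup.iff_card]
    exact ⟨1, by rw [Nat.card_zpowers, hxp, pow_one]⟩
  refine not_isSolvable_fix hKM hKc hRE hRp ?_
  have h1 : Group.IsSolvable ↥(K.subgroupOf C) :=
    Group.isSolvable_of_isSolvable_injective (f := Subgroup.inclusion hle) (Subgroup.inclusion_injective hle)
  have h2 : ∀ y ∈ K ⊓ Subgroup.centralizer (Subgroup.zpowers x : Set G), y ∈ C := by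
    intro y hy
    exact Subgroup.centralizer_le (Set.singleton_subset_iff.2 (Subgroup.mem_zpowers x)) hy.2
  let f : ↥(K ⊓ Subgroup.centralizer (Subgroup.zpowers x : Set G)) →* ↥(K.subgroupOf C) :=
    { toFun := fun y => ⟨⟨y.1, h2 y.1 y.2⟩, y.2.1⟩
      map_one' := rfl
      map_mul' := fun _ _ => rfl }
  refine Group.isSolvable_of_isSolvable_injective (f := f) ?_
  intro a b hab
  exact Subtype.ext (congrArg (fun z : ↥(K.subgroupOf C) => ((z : ↥C) : G)) hab)

end Cfsg.Agent.PreUniq.ExcRP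

end

-- merged: Cfsg.Agent.PreUniq.LowExc.CenProd
section

/-!
# The `p`-rank of a central product of two groups `SL₂` (helper16)
-/

set_option autoImplicit false

namespace Cfsg.Agent.PreUniq.LowExc.CenProd

open Cfsg Subgroup Cfsg.Agent.BiChar.CycSyl

variable {A B G : Type*} [Group A] [Group B] [Group G] {p : ℕ} [Fact p.Prime]

theorem aux (Φ : A × B →* G) {E : Subgroup G} (hEΦ : E ≤ Φ.range) [Finite A] [Finite B]
    (hA : ∀ P : Sylow p A, IsCyclic P) (hE : ∀ x ∈ E, x ^ p = 1) {k : ℕ}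
    (hk : ∀ D : Subgroup G, D ≤ E → D ≤ (Φ.comp (MonoidHom.inr A B)).range → Nat.card D ≤ k) :
    Nat.card E ≤ k * p := by
  have hfin : Finite ↥Φ.range := Finite.of_surjective Φ.rangeRestrict Φ.rangeRestrict_surjective
  set N : Subgroup ↥Φ.range := (MonoidHom.fst A B).ker.map Φ.rangeRestrict with hN
  have hNn : N.Normal := Subgroup.Normal.map inferInstance _ Φ.rangeRestrict_surjective
  set E' : Subgroup ↥Φ.range := E.subgroupOf Φ.range with hE'
  have hc : Nat.card E' = Nat.card E := Nat.card_congr (Subgroup.subgroupOfEquivOfLe hEΦ).toEquiv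
  rw [← hc]
  refine (card_le_mul N E').trans ?_
  refine Nat.mul_le_mul ?_ ?_
  · have h1 := hk ((E' ⊓ N).map Φ.range.subtype) ?_ ?_
    · refine le_trans (le_of_eq ?_) h1
      exact (Subgroup.card_map_of_injective Φ.range.subtype_injective).symm
    · rintro _ ⟨x, hx, rfl⟩
      exact hx.1
    · rintro _ ⟨x, hx, rfl⟩
      obtain ⟨⟨a, b⟩, hab, hx2⟩ := hx.2
      have ha : a = 1 := hab
      subst ha
      refine ⟨b, ?_⟩
      rw [← hx2]
      rfl
  · refine card_le_of_cyclic_sylow hA ((QuotientGroup.mk' N).comp (Φ.rangeRestrict.comp (MonoidHom.inl A B))) ?_ ?_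
    · rintro _ ⟨x, hx, rfl⟩
      rw [← map_pow]
      have : x ^ p = 1 := Subtype.ext (hE _ hx)
      rw [this, map_one]
    · rintro _ ⟨x, hx, rfl⟩
      obtain ⟨⟨a, b⟩, hab⟩ := x.2
      refine ⟨a, ?_⟩
      change (QuotientGroup.mk' N) (Φ.rangeRestrict (a, 1)) = (QuotientGroup.mk' N) x
      rw [QuotientGroup.mk'_eq_mk']
      refine ⟨Φ.rangeRestrict (1, b), ⟨(1, b), rfl, rfl⟩, ?_⟩
      rw [← map_mul]
      apply Subtype.ext
      change Φ ((a, 1) * (1, b)) = x
      rw [← hab]
      simp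

/-- a central product of two groups with cyclic Sylow `p`-subgroups -/
theorem card_le (Φ : A × B →* G) {E : Subgroup G} (hEΦ : E ≤ Φ.range) [Finite A] [Finite B]
    (hA : ∀ P : Sylow p A, IsCyclic P) (hB : ∀ P : Sylow p B, IsCyclic P) (hE : ∀ x ∈ E, x ^ p = 1) :
    Nat.card E ≤ p * p :=
  aux Φ hEΦ hA hE fun _ hD1 hD2 => card_le_of_cyclic_sylow hB (Φ.comp (MonoidHom.inr A B))
    (fun x hx => hE x (hD1 hx)) hD2

/-- a central product of a group with cyclic Sylow `p`-subgroups and a `p'`-group -/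
theorem card_le_one (Φ : A × B →* G) {E : Subgroup G} (hEΦ : E ≤ Φ.range) [Finite A] [Finite B]
    (hA : ∀ P : Sylow p A, IsCyclic P) (hB : ¬ p ∣ Nat.card B) (hE : ∀ x ∈ E, x ^ p = 1) :
    Nat.card E ≤ p := by
  rw [← one_mul p]
  refine aux Φ hEΦ hA hE fun D hD1 hD2 => ?_
  have h1 : D = ⊥ := by
    rw [eq_bot_iff]
    intro x hx
    rw [Subgroup.mem_bot]
    obtain ⟨b, hb⟩ := hD2 hx
    by_contra hne
    have h2 : orderOf x = p := orderOf_eq_prime (hE x (hD1 hx)) hne
    apply hB
    rw [← h2, ← hb]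
    exact (orderOf_map_dvd _ b).trans (_root_.orderOf_dvd_natCard b)
  rw [h1, Subgroup.card_bot]

/-- the order of `SL(2,F)` -/
theorem card_SL2 {F : Type*} [Field F] [Finite F] :
    Nat.card (Matrix.SpecialLinearGroup (Fin 2) F) = Nat.card F * (Nat.card F ^ 2 - 1) := by
  have := Fintype.ofFinite F
  have h1 := Cfsg.Agent.S0242.result (F := F) (q := Nat.card F) Nat.card_eq_fintype_card.symm 2 (by norm_num)
  rw [Fin.prod_univ_two] at h1
  have h2 : 1 < Nat.card F := Finite.one_lt_card
  obtain ⟨k, hk⟩ : ∃ k, Nat.card F = k + 1 := ⟨Nat.card F - 1, by omega⟩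
  rw [hk] at h1 h2 ⊢
  have hk0 : 0 < k := by omega
  apply Nat.eq_of_mul_eq_mul_left hk0
  rw [Nat.add_sub_cancel] at h1
  rw [h1]
  simp only [Fin.isValue, Fin.coe_ofNat_eq_mod, Nat.zero_mod, pow_zero, Nat.mod_succ, pow_one]
  have e1 : (k + 1) ^ 2 - (k + 1) = k * (k + 1) := by
    have : (k + 1) ^ 2 = k * (k + 1) + (k + 1) := by ring
    omega
  rw [e1]
  ring

end Cfsg.Agent.PreUniq.LowExc.CenProd

end

-- merged: Cfsg.Agent.PreUniq.LowExc.HexRank
section

/-!
# `p`-ranks in `G₂(q)` and `³D₄(q)`, `q` odd (helper16)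

`c : HexGrp σ L`, `p` odd, `p ≠ char`; `K 1 ≅ SL₂(E)`, `K 4 ≅ SL₂(F)`, `F` the fixed field of `σ`, `q = |F|`.
* `card_le_sq` : `m_p(C(z)) ≤ 2`;
* `not_pair` : if `p ∤ |SL₂(F)|`, no elementary abelian group of order `p ^ 2` centralises an involution;
* `rank_three` : if `p` divides `q ^ 2 - 1`, then `m_p(L) ≤ 3`.
-/

set_option autoImplicit false
set_option linter.unusedSectionVars false

namespace Cfsg.Agent.PreUniq.LowExc.HexRank

open Cfsg Cfsg.Agent.Cit.HexBase Cfsg.Agent.Lib.SL2Mat

universe u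

variable {E : Type*} [Field E] {σ : E ≃+* E} {L : Type u} [Group L] (c : HexGrp σ L)

/-- the central product `K 1 K 4` -/
def phi : SL2 E × SL2 ↥(fx σ) →* L :=
  MonoidHom.noncommCoprod c.pb c.p4 fun x y => c.comm_pb_p4 x y

theorem dg_sq {K : Type*} [Field K] (t : K) (ht : t ≠ 0) : dg t ht * dg t ht = dg (t ^ 2) (pow_ne_zero 2 ht) := by
  refine ext_ent ?_ ?_ ?_ ?_
  · simp [ent_mul]; ring
  · simp [ent_mul]
  · simp [ent_mul]
  · simp [ent_mul]; ring

theorem sq_mem [Finite E] (h2 : (2 : E) ≠ 0) {g : L} (hg : g * c.z = c.z * g) : g * g ∈ (phi c).range := by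
  obtain ⟨x, y, t, ht, rfl⟩ := c.mem_CZ_form h2 hg
  have e : c.pb x * c.p4 y * c.pa (dg t ht) * (c.pb x * c.p4 y * c.pa (dg t ht)) =
      (c.pb x * c.p4 y) * ((c.pa (dg t ht) * c.pb x * (c.pa (dg t ht))⁻¹) *
        (c.pa (dg t ht) * c.p4 y * (c.pa (dg t ht))⁻¹)) * (c.pa (dg t ht) * c.pa (dg t ht)) := by group
  rw [e]
  refine mul_mem (mul_mem ⟨(x, y), rfl⟩ ?_) ?_
  · rw [c.pa_dg_pb, c.pa_dg_p4 h2]
    exact ⟨(_, _), rfl⟩
  · rw [← map_mul, dg_sq, c.pa_dg_sq t ht, ← map_inv]
    exact ⟨(_, _), rfl⟩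

theorem mem_range [Finite E] (h2 : (2 : E) ≠ 0) {p : ℕ} (hp : p.Prime) (hp2 : p ≠ 2) {g : L}
    (hg : g * c.z = c.z * g) (hgp : g ^ p = 1) : g ∈ (phi c).range := by
  obtain ⟨k, hk⟩ := hp.odd_of_ne_two hp2
  have h1 : g = (g * g) ^ (k + 1) := by
    rw [← pow_two, ← pow_mul]
    have : 2 * (k + 1) = p + 1 := by omega
    rw [this, pow_succ, hgp, one_mul]
  rw [h1]
  exact pow_mem (sq_mem c h2 hg) _

/-- the Sylow `p`-subgroups of `SL₂(E)` -/
theorem cyc {K : Type*} [Field K] [Finite K] {r p : ℕ} (hr : r.Prime) [CharP K r] [Fact p.Prime] (hp2 : p ≠ 2)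
    (hpr : p ≠ r) (P : Sylow p (SL2 K)) : IsCyclic P :=
  haveI := Fact.mk hr
  Cfsg.Agent.S0262.isCyclic_of_isPGroup r p hp2 hpr _ P.2

theorem charP_fx {r : ℕ} [CharP E r] : CharP ↥(fx σ) r :=
  (RingHom.charP_iff (fx σ).subtype (fx σ).subtype_injective r).2 inferInstance

section

variable [Finite E] {r : ℕ} (hr : r.Prime) [CharP E r] (h2 : (2 : E) ≠ 0) {p : ℕ} (hp : p.Prime) (hp2 : p ≠ 2)
  (hpr : p ≠ r)

include hr h2 hp hp2 hpr

theorem card_le_sq {B : Subgroup L} (hB : ∀ b ∈ B, b * c.z = c.z * b) (hBp : ∀ b ∈ B, b ^ p = 1) :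
    Nat.card B ≤ p ^ 2 := by
  have := Fact.mk hp
  have := charP_fx (σ := σ) (r := r)
  rw [pow_two]
  exact CenProd.card_le (phi c) (fun b hb => mem_range c h2 hp hp2 (hB b hb) (hBp b hb)) (cyc hr hp2 hpr)
    (cyc hr hp2 hpr) hBp

theorem card_le_p (hd : ¬ p ∣ Nat.card (SL2 ↥(fx σ))) {B : Subgroup L} (hB : ∀ b ∈ B, b * c.z = c.z * b)
    (hBp : ∀ b ∈ B, b ^ p = 1) : Nat.card B ≤ p := by
  have := Fact.mk hp
  exact CenProd.card_le_one (phi c) (fun b hb => mem_range c h2 hp hp2 (hB b hb) (hBp b hb)) (cyc hr hp2 hpr)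
    hd hBp

include c in
/-- **no elementary abelian group of order `p ^ 2` centralises an involution** -/
theorem not_pair [Finite L] (hd : ¬ p ∣ Nat.card (SL2 ↥(fx σ))) {B : Subgroup L} (hc : Nat.card B = p ^ 2)
    (hBp : ∀ b ∈ B, b ^ p = 1) {t : L} (ht : t * t = 1) (ht1 : t ≠ 1) (htB : ∀ b ∈ B, b * t = t * b) : False := by
  obtain ⟨g, hg⟩ := isConj_iff.1 (c.isConj_invol h2 ht ht1 c.z_sq (c.z_ne h2))
  have h1 := card_le_p c hr h2 hp hp2 hpr hd (B := B.map (MulAut.conj g).toMonoidHom) (by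
    rintro _ ⟨b, hb, rfl⟩
    change g * b * g⁻¹ * c.z = c.z * (g * b * g⁻¹)
    rw [← hg]
    calc g * b * g⁻¹ * (g * t * g⁻¹) = g * (b * t) * g⁻¹ := by group
      _ = g * (t * b) * g⁻¹ := by rw [htB b hb]
      _ = _ := by group) (by
    rintro _ ⟨b, hb, rfl⟩
    rw [← map_pow, hBp b hb, map_one])
  rw [Subgroup.card_map_of_injective (MulAut.conj g).injective, hc] at h1
  have h3 : p ^ 1 < p ^ 2 := Nat.pow_lt_pow_right hp.one_lt (by norm_num)
  rw [pow_one] at h3
  omega

end

/-- `|SL₂(E)| |SL₂(F)|` divides `2 |C(z)|` -/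
theorem card_dvd [Finite E] [Finite L] (h2 : (2 : E) ≠ 0) :
    Nat.card (SL2 E) * Nat.card (SL2 ↥(fx σ)) ∣ 2 * Nat.card c.CZ := by
  have h1 : (phi c).range ≤ c.CZ := by
    rintro _ ⟨⟨x, y⟩, rfl⟩
    exact mul_mem (c.K1_le_CZ ⟨x, rfl⟩) (c.K4_le_CZ ⟨y, rfl⟩)
  have h3 : ∀ k ∈ (phi c).ker, k = 1 ∨ k = (dg (-1) (neg_ne_zero.2 one_ne_zero), dg (-1) (neg_ne_zero.2 one_ne_zero)) := by
    rintro ⟨x, y⟩ hk
    have e : c.pb x * c.p4 y = 1 := hk
    have e1 : c.pb x = c.p4 y⁻¹ := by rw [map_inv]; exact eq_inv_of_mul_eq_one_left e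
    rcases c.eq_of_pb_eq_p4 e1 with h | h
    · left
      have hx : x = 1 := c.pb_inj h2 (by rw [h, map_one])
      rw [h, one_mul] at e
      have hy : y = 1 := c.p4_inj (by rw [e, map_one])
      rw [hx, hy]; rfl
    · right
      have hx : x = dg (-1) (neg_ne_zero.2 one_ne_zero) := c.pb_inj h2 h
      have hy : y = dg (-1) (neg_ne_zero.2 one_ne_zero) := by
        apply c.p4_inj
        rw [← c.z_eq_p4]
        rw [h] at e
        have := c.z_sq
        exact mul_left_cancel (e.trans this.symm)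
      rw [hx, hy]
  have h4 : Nat.card (phi c).ker ∣ 2 := by
    have h5 : Nat.card (phi c).ker ≤ 2 := by
      have h6 : ((phi c).ker : Set (SL2 E × SL2 ↥(fx σ))) ⊆
          {1, (dg (-1) (neg_ne_zero.2 one_ne_zero), dg (-1) (neg_ne_zero.2 one_ne_zero))} := by
        intro k hk
        rcases h3 k hk with h | h
        · exact Or.inl h
        · exact Or.inr h
      have h7 := Set.ncard_le_ncard h6 (Set.toFinite _)
      exact h7.trans ((Set.ncard_insert_le _ _).trans (by rw [Set.ncard_singleton]))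
    have h6 : 0 < Nat.card (phi c).ker := Nat.card_pos
    interval_cases h : Nat.card (phi c).ker <;> norm_num
  have h5 : Nat.card (SL2 E × SL2 ↥(fx σ)) = Nat.card (phi c).range * Nat.card (phi c).ker := by
    rw [Subgroup.card_eq_card_quotient_mul_card_subgroup (phi c).ker,
      Nat.card_congr (QuotientGroup.quotientKerEquivRange (phi c)).toEquiv]
  rw [← Nat.card_prod, h5, mul_comm]
  exact mul_dvd_mul h4 (Subgroup.card_dvd_of_le h1)

theorem three_arith {p x : ℕ} (hp : p.Prime) (hx : 1 ≤ x) (h : p ∣ x - 1) : ¬ p ^ 2 ∣ x ^ 2 + x + 1 := by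
  obtain ⟨k, hk⟩ := h
  obtain rfl : x = p * k + 1 := by omega
  intro h1
  have e : (p * k + 1) ^ 2 + (p * k + 1) + 1 = p * (p * k ^ 2 + 3 * k) + 3 := by ring
  have h2 : p ∣ 3 := by
    have h3 : p ∣ p * (p * k ^ 2 + 3 * k) + 3 := by
      rw [← e]; exact (dvd_pow_self p two_ne_zero).trans h1
    exact (Nat.dvd_add_right (Dvd.intro _ rfl)).1 h3
  obtain rfl : p = 3 := (Nat.prime_dvd_prime_iff_eq hp Nat.prime_three).1 h2
  rw [e] at h1
  omega

include c in
/-- **`m_p(L) ≤ 3` if `p` divides `q ^ 2 - 1`** -/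
theorem rank_three [Finite E] [Finite L] {r : ℕ} (hr : r.Prime) [CharP E r] (h2 : (2 : E) ≠ 0) {p : ℕ}
    (hp : p.Prime) (hp2 : p ≠ 2) (hpr : p ≠ r) {w x : ℕ} (hx : 1 ≤ x) (hpx : p ∣ x - 1) (hw : ¬ p ∣ w)
    (hL : Nat.card L = Nat.card (SL2 E) * Nat.card (SL2 ↥(fx σ)) * (w * (x ^ 2 + x + 1))) : PRankLE p 3 L := by
  refine pRankLE_three hp (T := c.CZ) ?_ ?_
  · intro h
    have h1 : p ^ 2 * (Nat.card (SL2 E) * Nat.card (SL2 ↥(fx σ))) ∣ c.CZ.index * (2 * Nat.card c.CZ) :=
      mul_dvd_mul h (card_dvd c h2)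
    have h3 : c.CZ.index * (2 * Nat.card c.CZ) =
        (2 * (w * (x ^ 2 + x + 1))) * (Nat.card (SL2 E) * Nat.card (SL2 ↥(fx σ))) := by
      have h4 := c.CZ.index_mul_card
      calc c.CZ.index * (2 * Nat.card c.CZ) = 2 * (c.CZ.index * Nat.card c.CZ) := by ring
        _ = _ := by rw [h4, hL]; ring
    rw [h3] at h1
    have hpos : 0 < Nat.card (SL2 E) * Nat.card (SL2 ↥(fx σ)) := Nat.mul_pos Nat.card_pos Nat.card_pos
    have h4 := Nat.dvd_of_mul_dvd_mul_right hpos h1
    have hc2 : (p ^ 2).Coprime 2 := Nat.Coprime.pow_left 2 ((Nat.coprime_primes hp Nat.prime_two).2 hp2)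
    have hcw : (p ^ 2).Coprime w := Nat.Coprime.pow_left 2 ((Nat.Prime.coprime_iff_not_dvd hp).2 hw)
    exact three_arith hp hx hpx (hcw.dvd_of_dvd_mul_left (hc2.dvd_of_dvd_mul_left h4))
  · intro B hB hBe
    exact card_le_sq c hr h2 hp hp2 hpr (fun b hb => c.mem_CZ.1 (hB hb)) hBe.2

end Cfsg.Agent.PreUniq.LowExc.HexRank

end

-- merged: Cfsg.Agent.PreUniq.LowExc.G2D4
section

/-!
# `NoPre p G` for `G₂(q)` and `³D₄(q)`, `q` odd, `p` odd, `p ∤ q` (helper16)
-/

set_option autoImplicit false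
set_option linter.unusedSectionVars false

namespace Cfsg.Agent.PreUniq.LowExc.HexRank

open Cfsg Cfsg.Agent.Cit.HexBase Cfsg.Agent.Lib.SL2Mat Cfsg.Agent.PreUniq Cfsg.Agent.PreUniq.LowExc

universe u

theorem not_dvd_card {K : Type*} [Field K] [Finite K] {r : ℕ} (hr : r.Prime) [CharP K r] {p : ℕ} (hp : p.Prime)
    (hpr : p ≠ r) : ¬ p ∣ Nat.card K := by
  classical
  intro h
  have := Fact.mk hr
  have := Fintype.ofFinite K
  obtain ⟨n, -, hn⟩ := FiniteField.card K r
  rw [Nat.card_eq_fintype_card, hn] at h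
  exact hpr ((Nat.prime_dvd_prime_iff_eq hp hr).1 (hp.dvd_of_dvd_pow h))

theorem two_ne {K : Type*} [Field K] {r : ℕ} (hr : r.Prime) [CharP K r] (hr2 : r ≠ 2) : (2 : K) ≠ 0 := by
  intro h0
  have h1 : ((2 : ℕ) : K) = 0 := by exact_mod_cast h0
  rw [CharP.cast_eq_zero_iff K r] at h1
  exact hr2 ((Nat.prime_dvd_prime_iff_eq hr Nat.prime_two).1 h1)

/-- **the groups with a `HexGrp` structure** -/
theorem noPre_hex {E : Type*} [Field E] {σ : E ≃+* E} {L : Type u} [Group L] (c : HexGrp σ L) [Finite E] [Finite L]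
    {r : ℕ} (hr : r.Prime) [CharP E r] (h2 : (2 : E) ≠ 0) {p : ℕ} (hp : p.Prime) (hp2 : p ≠ 2) (hpr : p ≠ r)
    {w x : ℕ} (hx : 1 ≤ x) (hpx : p ∣ Nat.card ↥(fx σ) ^ 2 - 1 → p ∣ x - 1) (hw : ¬ p ∣ w)
    (hL : Nat.card L = Nat.card (SL2 E) * Nat.card (SL2 ↥(fx σ)) * (w * (x ^ 2 + x + 1))) : NoPre p L := by
  by_cases hd : p ∣ Nat.card (SL2 ↥(fx σ))
  · have := charP_fx (σ := σ) (r := r)
    rw [CenProd.card_SL2] at hd
    rcases (Nat.Prime.dvd_mul hp).1 hd with h | h
    · exact absurd h (not_dvd_card hr hp hpr)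
    · exact noPre_of_rank hp hp2 (rank_three c hr h2 hp hp2 hpr hx (hpx h) hw hL)
  · intro M K hMK
    have := Fact.mk hp
    obtain ⟨B, hB, hg⟩ := exists_grip hp hMK
    obtain ⟨t, ht, ht2⟩ := exists_involution hMK.1.2.1 hMK.1.2.2.1 hB hg.isPGroup
    refine not_pair c hr h2 hp hp2 hpr hd hg.2.1 hg.1.2 (t := t) ?_ ?_ ?_
    · rw [← pow_two, ← ht2, pow_orderOf_eq_one]
    · rintro rfl
      rw [orderOf_one] at ht2
      omega
    · exact fun e he => Subgroup.mem_centralizer_iff.1 ht.2 e he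

theorem card_fx_refl {F : Type*} [Field F] : Nat.card ↥(fx (RingEquiv.refl F)) = Nat.card F := by
  have h : fx (RingEquiv.refl F) = ⊤ := by
    ext x
    rw [mem_fx]
    simp
  rw [h]
  exact Nat.card_congr (Subfield.topEquiv (K := F)).toEquiv

/-- **`G₂(q)`, `q` odd** -/
theorem g2 {G : Type u} [Group G] {p r : ℕ} (hp : p.Prime) (hp2 : p ≠ 2) (hr : r.Prime) (hr2 : r ≠ 2) (hpr : p ≠ r)
    (F : Type) [Field F] [Fintype F] [CharP F r] (e : Nonempty (G ≃* Lie.chevG2.group F)) : NoPre p G := by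
  obtain ⟨f⟩ := e
  refine NoPre.congr f.symm ?_
  have h2 := two_ne (K := F) hr hr2
  have hq : 1 < Nat.card F := Finite.one_lt_card
  have hfin : Finite ↥(Lie.chevG2.group F) := inferInstance
  refine noPre_hex (Cit.HexG2.g2 F h2) hr h2 hp hp2 hpr (w := Nat.card F ^ 4) (x := Nat.card F ^ 2)
    (Nat.one_le_pow _ _ (by omega)) ?_ ?_ ?_
  · rw [card_fx_refl]; exact id
  · exact fun h => not_dvd_card hr hp hpr (hp.dvd_of_dvd_pow h)
  · rw [CenProd.card_SL2, CenProd.card_SL2, card_fx_refl,
      Cfsg.Agent.S1059.result (F := F) (q := Nat.card F) Nat.card_eq_fintype_card.symm]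
    obtain ⟨m, hm⟩ : ∃ m, Nat.card F ^ 2 = m + 1 :=
      ⟨Nat.card F ^ 2 - 1, (Nat.succ_pred_eq_of_pos (by positivity)).symm⟩
    have h6 : Nat.card F ^ 6 - 1 = m * ((m + 1) ^ 2 + (m + 1) + 1) := by
      have e1 : Nat.card F ^ 6 = m * ((m + 1) ^ 2 + (m + 1) + 1) + 1 := by
        calc Nat.card F ^ 6 = (Nat.card F ^ 2) ^ 3 := by ring
          _ = _ := by rw [hm]; ring
      rw [e1, Nat.add_sub_cancel]
    have h66 : Nat.card F ^ 6 = Nat.card F * Nat.card F * Nat.card F ^ 4 := by ring
    rw [h6, h66, hm, Nat.add_sub_cancel]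
    ring

/-- **`³D₄(q)`, `q` odd** -/
theorem twD4 {G : Type u} [Group G] {p r : ℕ} (hp : p.Prime) (hp2 : p ≠ 2) (hr : r.Prime) (hr2 : r ≠ 2) (hpr : p ≠ r)
    (K : Type) [Field K] [Fintype K] [CharP K r] (q : ℕ) (hq : IsPrimePow q) (hK : Fintype.card K = q ^ 3)
    (e : Nonempty (G ≃* Lie.twistedD4 K q)) : NoPre p G := by
  obtain ⟨f⟩ := e
  refine NoPre.congr f.symm ?_
  have h2 := two_ne (K := K) hr hr2
  have hK' : Nat.card K = q ^ 3 := by rw [Nat.card_eq_fintype_card, hK]
  have hq1 : 1 < q := hq.one_lt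
  have hfin : Finite ↥(Lie.twistedD4 K q) := inferInstance
  obtain ⟨σ, hσ, ⟨c⟩⟩ := Cit.HexD4.exists_d4 hK
  have hfx : Nat.card ↥(fx σ) = q := by
    rw [← Cfsg.Agent.ChevalleyStructure.FixedCard.card_fixed (K := K) hq1 hK]
    refine Nat.card_congr (Equiv.subtypeEquivRight fun x => ?_)
    change σ x = x ↔ x ^ q = x
    rw [hσ]
  have hpq : ¬ p ∣ q := by
    intro h
    refine not_dvd_card (K := K) hr hp hpr ?_
    rw [hK']
    exact h.trans (dvd_pow_self q (by norm_num))
  refine noPre_hex c hr h2 hp hp2 hpr (w := q ^ 8) (x := q ^ 4) (Nat.one_le_pow _ _ (by omega)) ?_ ?_ ?_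
  · rw [hfx]
    intro h
    refine h.trans ?_
    have := Nat.sub_dvd_pow_sub_pow (q ^ 2) 1 2
    rwa [one_pow, ← pow_mul] at this
  · exact fun h => hpq (hp.dvd_of_dvd_pow h)
  · rw [CenProd.card_SL2, CenProd.card_SL2, hfx, hK', Cfsg.Agent.S1067.result hq hK]
    have e1 : (q ^ 3) ^ 2 = q ^ 6 := by ring
    rw [e1]
    generalize q ^ 6 - 1 = a
    generalize q ^ 2 - 1 = b
    ring

end Cfsg.Agent.PreUniq.LowExc.HexRank

end

-- merged: Cfsg.Agent.PreUniq.FinalLie
section

/-!
# The Lie type rows of the preuniqueness theorems, `p` odd (helper16)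

All families except `F₄`, `E₆`, `E₇`, `E₈`, `²E₆` in odd characteristic `r ≠ p`, which are the fields of `ExcRows`.
-/

set_option autoImplicit false

namespace Cfsg.Agent.PreUniq.Final

open Cfsg Cfsg.Agent.PreUniq Cfsg.Agent.PreUniq.Assembly

universe u

/-- The exceptional groups of odd characteristic `r ≠ p`. -/
structure ExcRows (p r : ℕ) (G : Type u) [Group G] : Prop where
  f4 : ∀ (F : Type) [Field F] [Fintype F] [CharP F r], Nonempty (G ≃* Lie.chevF4.group F) → StdPre p G
  e6 : ∀ (F : Type) [Field F] [Fintype F] [CharP F r], Nonempty (G ≃* Lie.chevE6.group F) → StdPre p G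
  e7 : ∀ (F : Type) [Field F] [Fintype F] [CharP F r], Nonempty (G ≃* Lie.chevE7.group F) → StdPre p G
  e8 : ∀ (F : Type) [Field F] [Fintype F] [CharP F r], Nonempty (G ≃* Lie.chevE8.group F) → StdPre p G
  twE6 : ∀ (K : Type) [Field K] [Fintype K] [CharP K r] (q : ℕ), IsPrimePow q → Fintype.card K = q ^ 2 →
    Nonempty (G ≃* Lie.twistedE6 K q) → StdPre p G

variable {G : Type u} [Group G] [Finite G] [IsSimpleGroup G] {p r : ℕ}

/-- **an exceptional group, from `RP r (C_G(x))`** -/
theorem stdPre_of_rp (hp : p.Prime) (hr : r.Prime) (hrp : r ≠ p) (hna : ¬ IsMulCommutative G)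
    (hG : KFacts.RgdLieCharP.IsLieFilt r G)
    (hRP : ∀ x : G, orderOf x = p → RP r ↥(Subgroup.centralizer ({x} : Set G))) : StdPre p G :=
  (ExcRP.noPre_of_rp hp hr hrp (KFacts.RgdLieCharP.hasFilt_of_lie hG) (Lie.exists_ne_comm hna) hRP).stdPre

theorem lieRows_odd (hp : p.Prime) (hp2 : p ≠ 2) (hr : r.Prime) (hr2 : r ≠ 2) (hrp : r ≠ p)
    (hna : ¬ IsMulCommutative G) (hx : ExcRows p r G) : LieRows p r G where
  psl h := Cl.stdPre_psl hp hr hrp hna h
  psp h := Cl.stdPre_psp hp hp2 hr hr2 hrp hna h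
  psu h := Cl.stdPre_psu hp hr hrp hna h
  omegaOdd h := Cl.stdPre_omegaOdd hp hp2 hr hr2 hrp hna h
  omegaPlus h := Cl.stdPre_omegaPlus hp hp2 hr hr2 hrp hna h
  omegaMinus h := Cl.stdPre_omegaMinus hp hp2 hr hr2 hrp hna h
  g2 F _ _ _ _ e := (LowExc.HexRank.g2 hp hp2 hr hr2 hrp.symm F e).stdPre
  f4 F _ _ _ e := hx.f4 F e
  e6 F _ _ _ e := hx.e6 F e
  e7 F _ _ _ e := hx.e7 F e
  e8 F _ _ _ e := hx.e8 F e
  twE6 K _ _ _ q h1 h2 e := hx.twE6 K q h1 h2 e
  twD4 K _ _ _ q h1 h2 e := (LowExc.HexRank.twD4 hp hp2 hr hr2 hrp.symm K q h1 h2 e).stdPre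

/-- the rows in characteristic `r ≠ p` -/
theorem cross (hp : p.Prime) (hp2 : p ≠ 2) (hna : ¬ IsMulCommutative G)
    (hx : ∀ r : ℕ, r.Prime → r ≠ 2 → r ≠ p → ExcRows p r G) (r : ℕ) (hr : r.Prime) (hrp : r ≠ p) :
    LieRows p r G := by
  by_cases hr2 : r = 2
  · subst hr2
    exact Lie.lieRows_two hp hp2 hna
  · exact lieRows_odd hp hp2 hr hr2 hrp hna (hx r hr hr2 hrp)

theorem char (hp : p.Prime) (hp2 : p ≠ 2) (hna : ¬ IsMulCommutative G) (h : IsLieTypeChar p G) : StdPre p G := by
  have := Fact.mk hp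
  exact (noPre_of_lieType hp2 (Lie.exists_ne_comm hna) h).stdPre

end Cfsg.Agent.PreUniq.Final

end

private theorem dce_348646be808a : _root_.True := by
  try have : _root_.True := by simp only [_root_.Cfsg.Agent.PreUniq.Cl.Setup.Good.congr_simp]
  try have : _root_.True := by simp only [_root_.Cfsg.Agent.PreUniq.Cl.lin.congr_simp]
  exact _root_.True.intro
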