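import Cfsg.Prelude.Def_SevenCases
import Cfsg.Agent.Lib.PComponents
import Cfsg.Agent.Lib.CoprimeHyperplane
import Cfsg.Agent.Lib.CoprimeCommutator
set_option linter.all false

/-!
# p-component preuniqueness subgroups: basic facts (toolkit for S1810-S1813)

`core p M` is `O_{p'}(M)` and `perp p M K` is `C_M(K mod O_{p'}(M))`, both as subgroups of `G`.
-/

set_option autoImplicit false
set_option linter.unusedSectionVars false

namespace Cfsg.Agent.PreUniq

open Cfsg

universe u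

variable {G : Type*} [Group G] {p : ℕ} {M K : Subgroup G}

/-! ### The core and the centralizer modulo the core -/

/-- `O_{p'}(M)` as a subgroup of `G`. -/
def core (p : ℕ) (M : Subgroup G) : Subgroup G := (pPrimeCore p ↥M).map M.subtype

/-- `C_M(K mod O_{p'}(M))` as a subgroup of `G`. -/
def perp (p : ℕ) (M K : Subgroup G) : Subgroup G := (centralizerModCore p M K).map M.subtype

theorem core_le : core p M ≤ M := Subgroup.map_subtype_le _

theorem perp_le : perp p M K ≤ M := Subgroup.map_subtype_le _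

theorem core_normal : M ≤ Subgroup.normalizer (core p M : Set G) := by
  have h : ((core p M).subgroupOf M).Normal := by
    have : (core p M).subgroupOf M = pPrimeCore p M := by
      rw [core, Subgroup.subgroupOf, Subgroup.comap_map_eq_self_of_injective M.subtype_injective]
    rw [this]
    exact Cfsg.Agent.Lib.Cores.pPrimeCore_normal p
  exact (Subgroup.normal_subgroupOf_iff_le_normalizer core_le).1 h

theorem core_coprime [Finite G] : (Nat.card (core p M)).Coprime p := by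
  have h := Cfsg.Agent.Lib.Cores.pPrimeCore_coprime (G := ↥M) p
  rwa [core, Nat.card_congr (Subgroup.equivMapOfInjective _ _ M.subtype_injective).toEquiv.symm]

theorem mem_core_iff {x : G} (hx : x ∈ M) : x ∈ core p M ↔ (⟨x, hx⟩ : ↥M) ∈ pPrimeCore p ↥M := by
  constructor
  · rintro ⟨y, hy, rfl⟩
    exact hy
  · intro h
    exact ⟨_, h, rfl⟩

theorem conj_mem_core {m x : G} (hm : m ∈ M) (hx : x ∈ core p M) : m * x * m⁻¹ ∈ core p M :=
  (Subgroup.mem_normalizer_iff.1 (core_normal hm) x).1 hx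

theorem mem_perp (hKM : K ≤ M) {x : G} :
    x ∈ perp p M K ↔ x ∈ M ∧ ∀ k ∈ K, x * k * x⁻¹ * k⁻¹ ∈ core p M := by
  constructor
  · rintro ⟨y, hy, rfl⟩
    refine ⟨y.2, fun k hk => ?_⟩
    have hy1 : QuotientGroup.mk' (pPrimeCore p ↥M) y ∈ Subgroup.centralizer
        (((K.subgroupOf M).map (QuotientGroup.mk' (pPrimeCore p ↥M)) : Subgroup (↥M ⧸ pPrimeCore p ↥M)) :
        Set (↥M ⧸ pPrimeCore p ↥M)) := hy
    rw [Subgroup.mem_centralizer_iff] at hy1
    have h2 := hy1 (QuotientGroup.mk' (pPrimeCore p ↥M) ⟨k, hKM hk⟩)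
      ⟨⟨k, hKM hk⟩, hk, rfl⟩
    have h3 : QuotientGroup.mk' (pPrimeCore p ↥M) (y * ⟨k, hKM hk⟩ * y⁻¹ * ⟨k, hKM hk⟩⁻¹) = 1 := by
      rw [map_mul, map_mul, map_mul, map_inv, map_inv, ← h2]
      group
    have h4 : y * ⟨k, hKM hk⟩ * y⁻¹ * ⟨k, hKM hk⟩⁻¹ ∈ pPrimeCore p ↥M := by
      rwa [← MonoidHom.mem_ker, QuotientGroup.ker_mk'] at h3
    exact ⟨_, h4, rfl⟩
  · rintro ⟨hx, h⟩
    refine ⟨⟨x, hx⟩, ?_, rfl⟩
    change QuotientGroup.mk' (pPrimeCore p ↥M) (⟨x, hx⟩ : ↥M) ∈ Subgroup.centralizer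
        (((K.subgroupOf M).map (QuotientGroup.mk' (pPrimeCore p ↥M)) : Subgroup (↥M ⧸ pPrimeCore p ↥M)) :
        Set (↥M ⧸ pPrimeCore p ↥M))
    rw [Subgroup.mem_centralizer_iff]
    rintro _ ⟨k, hk, rfl⟩
    have h1 : (⟨x, hx⟩ : ↥M) * k * (⟨x, hx⟩ : ↥M)⁻¹ * k⁻¹ ∈ pPrimeCore p ↥M := by
      have := h k.1 hk
      have h2 : (x * k.1 * x⁻¹ * k.1⁻¹) ∈ M := core_le this
      exact (mem_core_iff h2).1 this
    have h3 : QuotientGroup.mk' (pPrimeCore p ↥M) ((⟨x, hx⟩ : ↥M) * k * (⟨x, hx⟩ : ↥M)⁻¹ * k⁻¹) = 1 := by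
      rwa [← MonoidHom.mem_ker, QuotientGroup.ker_mk']
    rw [map_mul, map_mul, map_mul, map_inv, map_inv, mul_inv_eq_one, mul_inv_eq_iff_eq_mul] at h3
    exact h3.symm

/-! ### Preuniqueness -/

theorem centralizer_le (h : IsPreuniquenessSubgroup p M K) {x : G} (hx : x ∈ perp p M K)
    (ho : orderOf x = p) : Subgroup.centralizer ({x} : Set G) ≤ M := by
  have h1 := (mem_perp h.2.1).1 hx
  exact h.2.2.2 x h1.1 ho h1.2

theorem orderOf_eq {E : Subgroup G} (hp : p.Prime) (hE : ∀ e ∈ E, e ^ p = 1) {e : G} (he : e ∈ E)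
    (h1 : e ≠ 1) : orderOf e = p :=
  have := Fact.mk hp
  orderOf_eq_prime (hE e he) h1

/-- A grip of the subgroup `M` of `G`: an elementary abelian subgroup of order `p ^ 2` all of whose non-identity
elements have their centralizer in `M`. -/
def Grip (p : ℕ) (M E : Subgroup G) : Prop :=
  IsElementaryAbelian p E ∧ Nat.card E = p ^ 2 ∧ E ≤ M ∧
    ∀ e ∈ E, e ≠ 1 → Subgroup.centralizer ({e} : Set G) ≤ M

theorem grip_of_le_perp (hp : p.Prime) (h : IsPreuniquenessSubgroup p M K) {E : Subgroup G}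
    (hE : E ≤ perp p M K) (hEa : IsElementaryAbelian p E) (hc : Nat.card E = p ^ 2) : Grip p M E :=
  ⟨hEa, hc, hE.trans perp_le, fun _ he h1 => centralizer_le h (hE he) (orderOf_eq hp hEa.2 he h1)⟩

/-- A subgroup of order `p ^ k` in an elementary abelian group of order at least `p ^ k`. -/
theorem exists_le_card_eq [Finite G] (hp : p.Prime) {A : Subgroup G} (hA : IsElementaryAbelian p A) {k : ℕ}
    (hc : p ^ k ≤ Nat.card A) :
    ∃ E : Subgroup G, E ≤ A ∧ IsElementaryAbelian p E ∧ Nat.card E = p ^ k := by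
  have := Fact.mk hp
  have hpg : IsPGroup p A := fun a => ⟨1, by
    rw [pow_one]
    exact Subtype.ext (hA.2 a a.2)⟩
  obtain ⟨n, hn⟩ := hpg.exists_card_eq
  have hk : k ≤ n := by
    rw [hn] at hc
    exact (Nat.pow_le_pow_iff_right hp.one_lt).1 hc
  obtain ⟨E, hE⟩ := Sylow.exists_subgroup_card_pow_prime (G := ↥A) p (n := k)
    (hn ▸ pow_dvd_pow p hk)
  refine ⟨E.map A.subtype, Subgroup.map_subtype_le _, ⟨⟨⟨?_⟩⟩, ?_⟩, ?_⟩
  · rintro ⟨_, a, _, rfl⟩ ⟨_, b, _, rfl⟩
    have h : (a : G) * b = b * a := congrArg Subtype.val (hA.1.is_comm.comm a b)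
    exact Subtype.ext h
  · rintro _ ⟨a, _, rfl⟩
    exact hA.2 a a.2
  · rw [Nat.card_congr (Subgroup.equivMapOfInjective _ _ A.subtype_injective).toEquiv.symm, hE]

theorem exists_perp [Finite G] (hp : p.Prime) (h : PreuniquenessHypothesis p M K) :
    ∃ E : Subgroup G, E ≤ perp p M K ∧ IsElementaryAbelian p E ∧ Nat.card E = p ^ 2 := by
  obtain ⟨A, hAc, hAp, hc⟩ := h.2.2.1
  let f : ↥(centralizerModCore p M K) →* G := M.subtype.comp (centralizerModCore p M K).subtype
  have hf : Function.Injective f := M.subtype_injective.comp (Subgroup.subtype_injective _)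
  have hB : IsElementaryAbelian p (A.map f) := by
    refine ⟨⟨⟨?_⟩⟩, ?_⟩
    · rintro ⟨_, a, ha, rfl⟩ ⟨_, b, hb, rfl⟩
      have h2 := hAc.is_comm.comm ⟨a, ha⟩ ⟨b, hb⟩
      apply Subtype.ext
      have h3 := congrArg (fun x : ↥A => f x.1) h2
      simpa using h3
    · rintro _ ⟨a, ha, rfl⟩
      rw [← map_pow, hAp a ha, map_one]
  have hBc : Nat.card (A.map f) = Nat.card A :=
    Nat.card_congr (Subgroup.equivMapOfInjective _ _ hf).toEquiv.symm
  obtain ⟨E, hE, hEa, hEc⟩ := exists_le_card_eq hp hB (k := 2) (by rw [hBc]; exact hc)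
  refine ⟨E, hE.trans ?_, hEa, hEc⟩
  rintro _ ⟨a, ha, rfl⟩
  exact ⟨a.1, a.2, rfl⟩

theorem exists_grip [Finite G] (hp : p.Prime) (h : PreuniquenessHypothesis p M K) :
    ∃ E : Subgroup G, E ≤ perp p M K ∧ Grip p M E := by
  obtain ⟨E, hE, h1, h2⟩ := exists_perp hp h
  exact ⟨E, hE, grip_of_le_perp hp h.1 hE h1 h2⟩

/-! ### Invariant p'-subgroups -/

theorem Grip.ne_bot (hp : p.Prime) {E : Subgroup G} (h : Grip p M E) : E ≠ ⊥ := by
  rintro rfl
  have h1 := h.2.1
  rw [Subgroup.card_bot] at h1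
  have h2 : 1 < p ^ 2 := Nat.one_lt_pow two_ne_zero hp.one_lt
  omega

theorem Grip.isPGroup {E : Subgroup G} (h : Grip p M E) : IsPGroup p E := fun a => ⟨1, by
  rw [pow_one]; exact Subtype.ext (h.1.2 a a.2)⟩

/-- **Every `p'`-subgroup normalized by a grip of `M` lies in `M`.** -/
theorem Grip.le_of_coprime [Finite G] (hp : p.Prime) {E : Subgroup G} (h : Grip p M E) {X : Subgroup G}
    (hX : ¬ p ∣ Nat.card X) (hEX : E ≤ Subgroup.normalizer (X : Set G)) : X ≤ M := by
  have := Fact.mk hp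
  have hcop : (Nat.card X).Coprime p := ((Nat.Prime.coprime_iff_not_dvd hp).mpr hX).symm
  have h1 := Cfsg.Agent.Lib.CoprimeHyperplane.le_iSup_hyperplane E X h.1 (h.ne_bot hp) hcop hEX
  rw [h1]
  refine iSup_le fun B => ?_
  have hcard : Nat.card B.1 * p = p ^ 2 := by
    have h4 : Nat.card (B.1.subgroupOf E) = Nat.card B.1 :=
      Nat.card_congr (Subgroup.subgroupOfEquivOfLe B.2.1).toEquiv
    have h5 := (B.1.subgroupOf E).index_mul_card
    rw [h4] at h5
    have h6 : (B.1.subgroupOf E).index = p := B.2.2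
    rw [h6, h.2.1] at h5
    rw [mul_comm]; exact h5
  have hB1 : B.1 ≠ ⊥ := by
    intro hb
    rw [hb, Subgroup.card_bot, one_mul] at hcard
    have h2 : p ^ 1 < p ^ 2 := Nat.pow_lt_pow_right hp.one_lt (by norm_num)
    rw [pow_one] at h2
    omega
  obtain ⟨b, hb, hb1⟩ := B.1.bot_or_exists_ne_one.resolve_left hB1
  refine inf_le_right.trans ((Subgroup.centralizer_le ?_).trans (h.2.2.2 b (B.2.1 hb) hb1))
  exact Set.singleton_subset_iff.2 hb

/-! ### Normalizers in a simple group -/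

/-- A nontrivial subgroup normalized by the maximal subgroup `M` of the simple group `G` has normalizer `M`. -/
theorem normalizer_eq [IsSimpleGroup G] (hM : IsCoatom M) {X : Subgroup G} (hX : X ≠ ⊥) (hX' : X ≠ ⊤)
    (hn : M ≤ Subgroup.normalizer (X : Set G)) : Subgroup.normalizer (X : Set G) = M := by
  rcases eq_or_lt_of_le hn with h | h
  · exact h.symm
  · exfalso
    have h1 := hM.2 _ h
    rcases (Subgroup.normalizer_eq_top_iff.1 h1).eq_bot_or_eq_top with h2 | h2
    · exact hX h2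
    · exact hX' h2

theorem normalizer_self [IsSimpleGroup G] (hM : IsCoatom M) (hM1 : M ≠ ⊥) :
    Subgroup.normalizer (M : Set G) = M :=
  normalizer_eq hM hM1 hM.1 Subgroup.le_normalizer

theorem mem_of_conj_eq [IsSimpleGroup G] (hM : IsCoatom M) (hM1 : M ≠ ⊥) {g : G}
    (h : M.map (MulAut.conj g).toMonoidHom = M) : g ∈ M := by
  rw [← normalizer_self hM hM1, Subgroup.mem_normalizer_iff_map_conj_eq]
  exact h

/-! ### Fixed points of a `p`-subgroup of `C_M(K mod O_{p'}(M))` cover `K mod O_{p'}(M)` -/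

section Cover

variable [Finite G] [hp : Fact p.Prime]

theorem perp_le_normalizer (hKM : K ≤ M) (hK : IsPComponent p (K.subgroupOf M)) :
    perp p M K ≤ Subgroup.normalizer (K : Set G) := by
  intro x hx
  obtain ⟨hxM, -⟩ := (mem_perp hKM).1 hx
  obtain ⟨y, hy, rfl⟩ := hx
  have h1 : y ∈ Subgroup.normalizer ((K.subgroupOf M : Subgroup ↥M) : Set ↥M) := by
    apply Cfsg.Agent.Lib.PComponents.mem_normalizer_of_map hK
    exact Subgroup.centralizer_le_normalizer _ hy
  rw [Subgroup.mem_normalizer_iff] at h1 ⊢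
  intro k
  constructor
  · intro hk
    exact (h1 ⟨k, hKM hk⟩).1 hk
  · intro hk
    have hkM : k ∈ M := by
      have h2 := M.mul_mem (M.mul_mem (M.inv_mem hxM) (hKM hk)) hxM
      have h3 : (M.subtype y)⁻¹ * (M.subtype y * k * (M.subtype y)⁻¹) * M.subtype y = k := by group
      rwa [h3] at h2
    exact (h1 ⟨k, hkM⟩).2 hk

theorem exists_fixed (hKM : K ≤ M) (hK : IsPComponent p (K.subgroupOf M)) {R : Subgroup G}
    (hR : R ≤ perp p M K) (hRp : IsPGroup p R) {k : G} (hk : k ∈ K) :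
    ∃ c ∈ K ⊓ Subgroup.centralizer (R : Set G), k⁻¹ * c ∈ core p M := by
  have hn : R ≤ Subgroup.normalizer (K : Set G) := hR.trans (perp_le_normalizer hKM hK)
  have hn2 : R ≤ Subgroup.normalizer ((K ⊓ core p M : Subgroup G) : Set G) := by
    intro r hr
    rw [Subgroup.mem_normalizer_iff]
    intro x
    rw [Subgroup.mem_inf, Subgroup.mem_inf, ← Subgroup.mem_normalizer_iff.1 (hn hr) x,
      ← Subgroup.mem_normalizer_iff.1 (core_normal (p := p) (perp_le (hR hr))) x]
  have hcard : ¬ p ∣ Nat.card (K ⊓ core p M : Subgroup G) := by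
    intro h
    have h2 : (Nat.card (core p M)).Coprime p := core_coprime
    exact hp.out.one_lt.ne' (Nat.eq_one_of_dvd_coprimes h2
      (h.trans (Subgroup.card_dvd_of_le inf_le_right)) dvd_rfl)
  obtain ⟨c, hc, hkc⟩ := Cfsg.Agent.Lib.CoprimeCommutator.exists_fixed_in_coset p R (K ⊓ core p M) hRp hn2 hcard k
    (by
      intro a ha
      have h1 := ((mem_perp hKM).1 (hR ha)).2 k hk
      refine ⟨K.mul_mem (K.inv_mem hk) ((Subgroup.mem_normalizer_iff.1 (hn ha) k).1 hk), ?_⟩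
      have h2 := conj_mem_core (M.inv_mem (hKM hk)) h1
      have h3 : k⁻¹ * (a * k * a⁻¹ * k⁻¹) * k⁻¹⁻¹ = k⁻¹ * (a * k * a⁻¹) := by group
      rwa [h3] at h2)
  refine ⟨c, ⟨?_, hc⟩, hkc.2⟩
  have h1 : c = k * (k⁻¹ * c) := by group
  rw [h1]
  exact K.mul_mem hk hkc.1

/-- `C_K(R)` covers `K` modulo `O_{p'}(M)`, for a `p`-subgroup `R` of `C_M(K mod O_{p'}(M))`. -/
theorem le_fix_sup_core (hKM : K ≤ M) (hK : IsPComponent p (K.subgroupOf M)) {R : Subgroup G}
    (hR : R ≤ perp p M K) (hRp : IsPGroup p R) :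
    K ≤ (K ⊓ Subgroup.centralizer (R : Set G)) ⊔ core p M := by
  intro k hk
  obtain ⟨c, hc, hkc⟩ := exists_fixed hKM hK hR hRp hk
  have h1 : k = c * (k⁻¹ * c)⁻¹ := by group
  rw [h1]
  exact Subgroup.mul_mem_sup hc (Subgroup.inv_mem _ hkc)

/-- The image of `K` in `M / O_{p'}(M)`. -/
abbrev bar (p : ℕ) (M K : Subgroup G) : Subgroup (↥M ⧸ pPrimeCore p ↥M) :=
  (K.subgroupOf M).map (QuotientGroup.mk' (pPrimeCore p ↥M))

theorem map_fix (hKM : K ≤ M) (hK : IsPComponent p (K.subgroupOf M)) {R : Subgroup G}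
    (hR : R ≤ perp p M K) (hRp : IsPGroup p R) :
    bar p M (K ⊓ Subgroup.centralizer (R : Set G)) = bar p M K := by
  apply le_antisymm
  · exact Subgroup.map_mono (Subgroup.comap_mono inf_le_left)
  · rintro _ ⟨k, hk, rfl⟩
    obtain ⟨c, hc, hkc⟩ := exists_fixed hKM hK hR hRp hk
    refine ⟨⟨c, hKM hc.1⟩, hc, ?_⟩
    rw [QuotientGroup.mk'_apply, QuotientGroup.mk'_apply, eq_comm, QuotientGroup.eq]
    exact (mem_core_iff (M.mul_mem (M.inv_mem k.2) (hKM hc.1))).1 hkc

theorem not_isSolvable_fix (hKM : K ≤ M) (hK : IsPComponent p (K.subgroupOf M)) {R : Subgroup G}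
    (hR : R ≤ perp p M K) (hRp : IsPGroup p R) :
    ¬ Group.IsSolvable ↥(K ⊓ Subgroup.centralizer (R : Set G)) := by
  intro h
  have h1 : Group.IsSolvable ↥(bar p M (K ⊓ Subgroup.centralizer (R : Set G))) := by
    let f : ↥((K ⊓ Subgroup.centralizer (R : Set G)).subgroupOf M) →*
        ↥(bar p M (K ⊓ Subgroup.centralizer (R : Set G))) := (QuotientGroup.mk' (pPrimeCore p ↥M)).subgroupMap _
    have hf : Function.Surjective f := MonoidHom.subgroupMap_surjective _ _
    let e : ↥((K ⊓ Subgroup.centralizer (R : Set G)).subgroupOf M) ≃* ↥(K ⊓ Subgroup.centralizer (R : Set G)) :=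
      Subgroup.subgroupOfEquivOfLe (inf_le_left.trans hKM)
    have h2 : Group.IsSolvable ↥((K ⊓ Subgroup.centralizer (R : Set G)).subgroupOf M) :=
      Group.isSolvable_of_isSolvable_injective (f := e.toMonoidHom) e.injective
    exact Group.isSolvable_of_surjective hf
  rw [map_fix hKM hK hR hRp] at h1
  exact Cfsg.Agent.Lib.ComponentSolvable.quasisimple_not_solvable hK.2.1.2 h1

theorem prime_dvd_card_fix (hKM : K ≤ M) (hK : IsPComponent p (K.subgroupOf M)) {R : Subgroup G}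
    (hR : R ≤ perp p M K) (hRp : IsPGroup p R) :
    p ∣ Nat.card ↥(K ⊓ Subgroup.centralizer (R : Set G)) := by
  have h1 : p ∣ Nat.card ↥(bar p M K) :=
    Cfsg.Agent.Lib.PComponents.prime_dvd_card_component
      (Cfsg.Agent.Lib.PComponents.pPrimeCore_quotient_eq_bot p) hK.2.1
  rw [← map_fix hKM hK hR hRp] at h1
  refine h1.trans ((Subgroup.card_map_dvd _ _).trans ?_)
  rw [Nat.card_congr (Subgroup.subgroupOfEquivOfLe (inf_le_left.trans hKM)).toEquiv]

omit hp in
/-- The centralizer of a nontrivial `p`-subgroup of `C_M(K mod O_{p'}(M))` lies in `M`. -/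
theorem centralizer_le_of_isPGroup [hp : Fact p.Prime] (h : IsPreuniquenessSubgroup p M K) {R : Subgroup G}
    (hR : R ≤ perp p M K) (hRp : IsPGroup p R) (hne : R ≠ ⊥) : Subgroup.centralizer (R : Set G) ≤ M := by
  have : Nontrivial R := (Subgroup.nontrivial_iff_ne_bot R).2 hne
  obtain ⟨r, hr⟩ := exists_prime_orderOf_dvd_card' (G := ↥R) p (by
    obtain ⟨n, hn⟩ := hRp.exists_card_eq
    rcases n with _ | n
    · exfalso
      rw [pow_zero] at hn
      exact hne (Subgroup.eq_bot_of_card_eq R hn)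
    · rw [hn]; exact dvd_pow_self p n.succ_ne_zero)
  have h1 : orderOf (r : G) = p := by rw [Subgroup.orderOf_coe, hr]
  refine (Subgroup.centralizer_le ?_).trans (centralizer_le h (hR r.2) h1)
  exact Set.singleton_subset_iff.2 r.2

omit hp in
/-- The `p'`-core of a component of a group with trivial `p'`-core is trivial. -/
theorem pPrimeCore_component {Q : Type*} [Group Q] [Finite Q] (hQ : pPrimeCore p Q = ⊥) {C : Subgroup Q}
    (hC : C.IsSubnormal) : pPrimeCore p ↥C = ⊥ := by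
  have h := Cfsg.Agent.Lib.PComponents.map_pPrimeCore_le_of_isSubnormal (p := p) hC
  rw [hQ, le_bot_iff, Subgroup.map_eq_bot_iff, Subgroup.ker_subtype, le_bot_iff] at h
  exact h

/-- Two surjections with the same kernel have isomorphic images. -/
noncomputable def equivOfKer {Y A B : Type*} [Group Y] [Group A] [Group B] (f : Y →* A) (g : Y →* B)
    (hf : Function.Surjective f) (hg : Function.Surjective g) (h : f.ker = g.ker) : A ≃* B :=
  (QuotientGroup.quotientKerEquivOfSurjective f hf).symm.trans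
    ((QuotientGroup.quotientMulEquivOfEq h).trans (QuotientGroup.quotientKerEquivOfSurjective g hg))

/-- **`K mod O_{p'}(M)` is a component of `C_G(R) / O_{p'}(C_G(R))`**, for a nontrivial `p`-subgroup `R` of
`C_M(K mod O_{p'}(M))`: the image of `K ⊓ C_G(R)` is a component isomorphic to the image of `K` in `M / O_{p'}(M)`. -/
theorem isComponent_centralizer (h : IsPreuniquenessSubgroup p M K) {R : Subgroup G}
    (hR : R ≤ perp p M K) (hRp : IsPGroup p R) (hne : R ≠ ⊥) :
    IsComponent (bar p (Subgroup.centralizer (R : Set G)) K) ∧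
      Nonempty (↥(bar p (Subgroup.centralizer (R : Set G)) K) ≃* ↥(bar p M K)) := by
  set C := Subgroup.centralizer (R : Set G) with hC
  have hCM : C ≤ M := centralizer_le_of_isPGroup h hR hRp hne
  obtain ⟨hMt, hKM, hK, -⟩ := h
  set Y : Subgroup ↥C := K.subgroupOf C with hY
  have hYs : Y.IsSubnormal := by
    have h1 : Y = (K.subgroupOf M).comap (Subgroup.inclusion hCM) := rfl
    rw [h1]
    exact hK.1.comap _
  let πM := QuotientGroup.mk' (pPrimeCore p ↥M)
  let πC := QuotientGroup.mk' (pPrimeCore p ↥C)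
  -- the map of `Y` onto the image of `K` in `M / O_{p'}(M)`
  let f : ↥Y →* ↥(bar p M K) :=
    (πM.subgroupMap (K.subgroupOf M)).comp
      (((Subgroup.inclusion hCM).comp Y.subtype).codRestrict (K.subgroupOf M) (fun y => y.2))
  let g : ↥Y →* ↥(bar p C K) := πC.subgroupMap Y
  have hg : Function.Surjective g := MonoidHom.subgroupMap_surjective _ _
  have hfs : Function.Surjective f := by
    rintro ⟨_, k, hk, rfl⟩
    obtain ⟨c, hc, hkc⟩ := exists_fixed hKM hK hR hRp hk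
    refine ⟨⟨⟨c, hc.2⟩, hc.1⟩, ?_⟩
    apply Subtype.ext
    change QuotientGroup.mk' (pPrimeCore p ↥M) ⟨c, hKM hc.1⟩ = QuotientGroup.mk' (pPrimeCore p ↥M) k
    rw [QuotientGroup.mk'_apply, QuotientGroup.mk'_apply, eq_comm, QuotientGroup.eq]
    exact (mem_core_iff (M.mul_mem (M.inv_mem k.2) (hKM hc.1))).1 hkc
  have hfk : ∀ y : ↥Y, y ∈ f.ker ↔ ((y : ↥C) : G) ∈ core p M := by
    intro y
    rw [MonoidHom.mem_ker, mem_core_iff (hCM (y : ↥C).2), ← QuotientGroup.eq_one_iff]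
    constructor
    · intro hy
      exact congrArg Subtype.val hy
    · intro hy
      exact Subtype.ext hy
  have hgk : ∀ y : ↥Y, y ∈ g.ker ↔ (y : ↥C) ∈ pPrimeCore p ↥C := by
    intro y
    rw [MonoidHom.mem_ker, ← QuotientGroup.eq_one_iff]
    constructor
    · intro hy
      exact congrArg Subtype.val hy
    · intro hy
      exact Subtype.ext hy
  have hker : g.ker = f.ker := by
    apply le_antisymm
    · -- a normal `p'`-subgroup of `Y` maps to a normal `p'`-subgroup of the quasisimple group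
      have h1 : (g.ker.map f).Normal := Subgroup.Normal.map inferInstance f hfs
      have h2 : (Nat.card (g.ker.map f)).Coprime p := by
        refine Nat.Coprime.coprime_dvd_left (Subgroup.card_map_dvd _ _) ?_
        have h3 : g.ker = (pPrimeCore p ↥C).subgroupOf Y := by
          ext y
          exact hgk y
        rw [h3]
        exact Nat.Coprime.coprime_dvd_left (Subgroup.card_comap_dvd_of_injective _ Y.subtype
          (Subgroup.subtype_injective Y)) (Cfsg.Agent.Lib.Cores.pPrimeCore_coprime p)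
      have h3 : g.ker.map f ≤ pPrimeCore p ↥(bar p M K) := Cfsg.Agent.Lib.Cores.le_pPrimeCore h1 h2
      rw [pPrimeCore_component (Cfsg.Agent.Lib.PComponents.pPrimeCore_quotient_eq_bot p) hK.2.1.1,
        le_bot_iff, Subgroup.map_eq_bot_iff] at h3
      exact h3
    · -- `Y ⊓ O_{p'}(M)` is a subnormal `p'`-subgroup of `C`
      have h1 : (f.ker.map Y.subtype).IsSubnormal := by
        refine Subgroup.IsSubnormal.trans' ?_ hYs
        exact Subgroup.Normal.isSubnormal inferInstance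
      have h2 : (Nat.card (f.ker.map Y.subtype)).Coprime p := by
        have h3 : (f.ker.map Y.subtype).map C.subtype ≤ core p M := by
          rintro _ ⟨_, ⟨y, hy, rfl⟩, rfl⟩
          exact (hfk y).1 hy
        have h4 : Nat.card ((f.ker.map Y.subtype).map C.subtype) = Nat.card (f.ker.map Y.subtype) :=
          Nat.card_congr (Subgroup.equivMapOfInjective _ _ C.subtype_injective).toEquiv.symm
        rw [← h4]
        exact Nat.Coprime.coprime_dvd_left (Subgroup.card_dvd_of_le h3) core_coprime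
      have h3 := Cfsg.Agent.Lib.PComponents.le_pPrimeCore_of_isSubnormal (p := p) h1 h2
      intro y hy
      exact (hgk y).2 (h3 ⟨y, hy, rfl⟩)
  have e : ↥(bar p C K) ≃* ↥(bar p M K) := equivOfKer g f hg hfs hker
  exact ⟨⟨hYs.map (QuotientGroup.mk'_surjective _),
    Cfsg.Agent.SignalizersComponents.Components.isQuasisimple_of_mulEquiv e.symm hK.2.1.2⟩, ⟨e⟩⟩

end Cover

/-! ### Control of fusion -/

/-- A `p`-subgroup has a conjugate in a given Sylow `p`-subgroup. -/
theorem exists_conj_le {H : Type*} [Group H] [Finite H] {p : ℕ} [Fact p.Prime] (Q : Sylow p H) {A : Subgroup H}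
    (hA : IsPGroup p A) : ∃ c : H, ∀ a ∈ A, c * a * c⁻¹ ∈ Q := by
  obtain ⟨S, hS⟩ := hA.exists_le_sylow
  obtain ⟨c, hc⟩ := MulAction.exists_smul_eq H S Q
  refine ⟨c, fun a ha => ?_⟩
  rw [← hc]
  exact Subgroup.smul_mem_pointwise_smul a (MulAut.conj c) (S : Subgroup H) (hS ha)

/-- Rank 2 fusion control without Sylow subgroups: `E ≤ C_M(K mod O_{p'}(M))` elementary abelian of order `p²` and
`E^g ≤ M` imply `g ∈ M`. -/
def CtrlTwo (p : ℕ) (M K : Subgroup G) : Prop :=
  ∀ E : Subgroup G, E ≤ perp p M K → IsElementaryAbelian p E → Nat.card E = p ^ 2 →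
    ∀ g : G, (∀ e ∈ E, g * e * g⁻¹ ∈ M) → g ∈ M

/-- Rank 1 fusion control without Sylow subgroups. -/
def CtrlOne (p : ℕ) (M K : Subgroup G) : Prop :=
  ∀ x ∈ perp p M K, orderOf x = p → ∀ g : G, g * x * g⁻¹ ∈ M → g ∈ M

theorem CtrlOne.ctrlTwo (hp : p.Prime) (h : CtrlOne p M K) : CtrlTwo p M K := by
  intro E hE hEa hEc g hg
  have hne : E ≠ ⊥ := by
    rintro rfl
    rw [Subgroup.card_bot] at hEc
    have h2 : 1 < p ^ 2 := Nat.one_lt_pow two_ne_zero hp.one_lt
    omega
  obtain ⟨e, he, he1⟩ := E.bot_or_exists_ne_one.resolve_left hne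
  exact h e (hE he) (orderOf_eq hp hEa.2 he he1) g (hg e he)

section Fusion

variable [Finite G] [hp : Fact p.Prime]

/-- The `p`-subgroup `A` of `C_M(K mod O_{p'}(M))` is conjugate there to a subgroup of `Q`. -/
theorem exists_conj_perp (Q : Sylow p ↥(centralizerModCore p M K)) {A : Subgroup G} (hA : A ≤ perp p M K)
    (hAp : IsPGroup p A) : ∃ c ∈ perp p M K, ∀ a ∈ A, c * a * c⁻¹ ∈
      ((Q : Subgroup ↥(centralizerModCore p M K)).map (centralizerModCore p M K).subtype).map M.subtype := by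
  let f : ↥(centralizerModCore p M K) →* G := M.subtype.comp (centralizerModCore p M K).subtype
  have hf : Function.Injective f := M.subtype_injective.comp (Subgroup.subtype_injective _)
  have hB : IsPGroup p ↥(A.comap f) := hAp.comap_of_injective f hf
  obtain ⟨c, hc⟩ := exists_conj_le Q hB
  refine ⟨f c, ⟨c.1, c.2, rfl⟩, fun a ha => ?_⟩
  obtain ⟨b, hb, rfl⟩ := hA ha
  have h1 := hc ⟨b, hb⟩ ha
  exact ⟨_, ⟨_, h1, rfl⟩, rfl⟩

theorem exists_conj_sylow (P : Sylow p ↥M) {A : Subgroup G} (hA : A ≤ M)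
    (hAp : IsPGroup p A) : ∃ m ∈ M, ∀ a ∈ A, m * a * m⁻¹ ∈ (P : Subgroup ↥M).map M.subtype := by
  have hB : IsPGroup p ↥(A.comap M.subtype) := hAp.comap_of_injective _ M.subtype_injective
  obtain ⟨c, hc⟩ := exists_conj_le P hB
  refine ⟨c.1, c.2, fun a ha => ?_⟩
  exact ⟨_, hc ⟨a, hA ha⟩ ha, rfl⟩

theorem ctrlTwo_of_controls (h : IsPreuniquenessSubgroup p M K) (hc : ControlsRankTwoFusion p M K) :
    CtrlTwo p M K := by
  intro E hE hEa hEc g hg
  obtain ⟨Q, P, -, hQ⟩ := hc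
  have hEp : IsPGroup p E := fun a => ⟨1, by rw [pow_one]; exact Subtype.ext (hEa.2 a a.2)⟩
  obtain ⟨c, hcC, hcQ⟩ := exists_conj_perp Q hE hEp
  have hE2 : E.map (MulAut.conj g).toMonoidHom ≤ M := by
    rintro _ ⟨e, he, rfl⟩
    exact hg e he
  obtain ⟨m, hm, hmP⟩ := exists_conj_sylow P hE2 (hEp.map _)
  -- the conjugate of `E` in `Q`
  set E1 := E.map (MulAut.conj c).toMonoidHom with hE1
  have hE1c : Nat.card E1 = p ^ 2 := by
    rw [hE1, Nat.card_congr (Subgroup.equivMapOfInjective _ _ (MulAut.conj c).injective).toEquiv.symm, hEc]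
  have hE1Q : E1 ≤ ((Q : Subgroup ↥(centralizerModCore p M K)).map (centralizerModCore p M K).subtype).map
      M.subtype := by
    rintro _ ⟨e, he, rfl⟩
    exact hcQ e he
  have hE1a : IsElementaryAbelian p E1 := by
    refine ⟨⟨⟨?_⟩⟩, ?_⟩
    · rintro ⟨_, a, ha, rfl⟩ ⟨_, b, hb, rfl⟩
      have h3 : a * b = b * a := congrArg Subtype.val (hEa.1.is_comm.comm ⟨a, ha⟩ ⟨b, hb⟩)
      apply Subtype.ext
      change (MulAut.conj c) a * (MulAut.conj c) b = (MulAut.conj c) b * (MulAut.conj c) a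
      rw [← map_mul, h3, map_mul]
    · rintro _ ⟨a, ha, rfl⟩
      change (MulAut.conj c a) ^ p = 1
      rw [← map_pow, hEa.2 a ha, map_one]
  obtain ⟨-, h2⟩ := hQ E1 hE1Q hE1a hE1c
  obtain ⟨x, hx, hx2⟩ := h2 (m * g * c⁻¹) (by
    rintro _ ⟨_, ⟨e, he, rfl⟩, rfl⟩
    have h3 := hmP (g * e * g⁻¹) ⟨e, he, rfl⟩
    have h4 : m * g * c⁻¹ * (c * e * c⁻¹) * (m * g * c⁻¹)⁻¹ = m * (g * e * g⁻¹) * m⁻¹ := by group
    change m * g * c⁻¹ * (c * e * c⁻¹) * (m * g * c⁻¹)⁻¹ ∈ _
    rw [h4]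
    exact h3)
  -- a nontrivial element of `E1`
  have hgrip : Grip p M E1 := by
    refine grip_of_le_perp hp.out h ?_ hE1a hE1c
    rintro _ ⟨e, he, rfl⟩
    exact (perp p M K).mul_mem ((perp p M K).mul_mem hcC (hE he)) ((perp p M K).inv_mem hcC)
  obtain ⟨e, he, he1⟩ := E1.bot_or_exists_ne_one.resolve_left (hgrip.ne_bot hp.out)
  have h3 : x⁻¹ * (m * g * c⁻¹) ∈ M := by
    apply hgrip.2.2.2 e he he1
    rw [Subgroup.mem_centralizer_singleton_iff]
    have h4 := hx2 e he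
    have h5 : x⁻¹ * (m * g * c⁻¹) * e = x⁻¹ * (m * g * c⁻¹ * e * (m * g * c⁻¹)⁻¹) * (m * g * c⁻¹) := by group
    rw [h5, h4]
    group
  have hcM : c ∈ M := perp_le hcC
  have h6 : g = m⁻¹ * (x * (x⁻¹ * (m * g * c⁻¹))) * c := by group
  rw [h6]
  exact M.mul_mem (M.mul_mem (M.inv_mem hm) (M.mul_mem hx h3)) hcM

theorem controls_of_ctrlTwo (h : CtrlTwo p M K) : ControlsRankTwoFusion p M K := by
  obtain ⟨Q⟩ : Nonempty (Sylow p ↥(centralizerModCore p M K)) := inferInstance
  have hQ : IsPGroup p ↥((Q : Subgroup ↥(centralizerModCore p M K)).map (centralizerModCore p M K).subtype) :=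
    Q.2.map _
  obtain ⟨P, hP⟩ := hQ.exists_le_sylow
  refine ⟨Q, P, hP, fun E hE hEa hEc => ⟨?_, fun g hg => ?_⟩⟩
  · intro e he
    obtain ⟨a, ha, rfl⟩ := hE he
    exact ⟨a, hP ha, rfl⟩
  · refine ⟨g, ?_, fun _ _ => rfl⟩
    refine h E (hE.trans ?_) hEa hEc g fun e he => ?_
    · exact Subgroup.map_mono (Subgroup.map_subtype_le _)
    · obtain ⟨a, _, ha⟩ := hg ⟨e, he, rfl⟩
      have h1 : g * e * g⁻¹ = a := ha.symm
      rw [h1]
      exact a.2

theorem ctrlOne_of_controls (h : IsPreuniquenessSubgroup p M K) (hc : ControlsRankOneFusion p M K) :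
    CtrlOne p M K := by
  intro y hy hyo g hg
  obtain ⟨Q, P, -, hQ⟩ := hc
  have hEp : IsPGroup p (Subgroup.zpowers y) := by
    apply IsPGroup.of_card (n := 1)
    rw [Nat.card_zpowers, hyo, pow_one]
  obtain ⟨c, hcC, hcQ⟩ := exists_conj_perp Q ((Subgroup.zpowers_le).2 hy) hEp
  have hE2 : (Subgroup.zpowers y).map (MulAut.conj g).toMonoidHom ≤ M := by
    rw [MonoidHom.map_zpowers, Subgroup.zpowers_le]
    exact hg
  obtain ⟨m, hm, hmP⟩ := exists_conj_sylow P hE2 (hEp.map _)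
  have hy1 : orderOf (c * y * c⁻¹) = p := by
    have h1 := (MulAut.conj c).orderOf_eq y
    rw [hyo] at h1
    exact h1
  obtain ⟨-, h2⟩ := hQ (c * y * c⁻¹) (hcQ y (Subgroup.mem_zpowers y)) hy1
  obtain ⟨x, hx, hx2⟩ := h2 (m * g * c⁻¹) (by
    rintro _ ⟨_, rfl, rfl⟩
    have h3 := hmP (g * y * g⁻¹) ⟨y, Subgroup.mem_zpowers y, rfl⟩
    have h4 : m * g * c⁻¹ * (c * y * c⁻¹) * (m * g * c⁻¹)⁻¹ = m * (g * y * g⁻¹) * m⁻¹ := by group
    change m * g * c⁻¹ * (c * y * c⁻¹) * (m * g * c⁻¹)⁻¹ ∈ _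
    rw [h4]
    exact h3)
  have h3 : x⁻¹ * (m * g * c⁻¹) ∈ M := by
    apply centralizer_le h (x := c * y * c⁻¹)
      ((perp p M K).mul_mem ((perp p M K).mul_mem hcC hy) ((perp p M K).inv_mem hcC)) hy1
    rw [Subgroup.mem_centralizer_singleton_iff]
    have h4 := hx2 (c * y * c⁻¹) rfl
    have h5 : x⁻¹ * (m * g * c⁻¹) * (c * y * c⁻¹) =
        x⁻¹ * (m * g * c⁻¹ * (c * y * c⁻¹) * (m * g * c⁻¹)⁻¹) * (m * g * c⁻¹) := by group
    rw [h5, h4]
    group
  have hcM : c ∈ M := perp_le hcC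
  have h6 : g = m⁻¹ * (x * (x⁻¹ * (m * g * c⁻¹))) * c := by group
  rw [h6]
  exact M.mul_mem (M.mul_mem (M.inv_mem hm) (M.mul_mem hx h3)) hcM

theorem controls_of_ctrlOne (h : CtrlOne p M K) : ControlsRankOneFusion p M K := by
  obtain ⟨Q⟩ : Nonempty (Sylow p ↥(centralizerModCore p M K)) := inferInstance
  have hQ : IsPGroup p ↥((Q : Subgroup ↥(centralizerModCore p M K)).map (centralizerModCore p M K).subtype) :=
    Q.2.map _
  obtain ⟨P, hP⟩ := hQ.exists_le_sylow
  refine ⟨Q, P, hP, fun y hy hyo => ⟨?_, fun g hg => ?_⟩⟩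
  · rintro _ rfl
    obtain ⟨a, ha, rfl⟩ := hy
    exact ⟨a, hP ha, rfl⟩
  · refine ⟨g, ?_, fun _ _ => rfl⟩
    refine h y ?_ hyo g ?_
    · exact Subgroup.map_mono (Subgroup.map_subtype_le _) hy
    · obtain ⟨a, _, ha⟩ := hg ⟨y, rfl, rfl⟩
      have h1 : g * y * g⁻¹ = a := ha.symm
      rw [h1]
      exact a.2

/-- **Rank 2 fusion control, without Sylow subgroups.** -/
theorem controls_iff_ctrlTwo (h : IsPreuniquenessSubgroup p M K) :
    ControlsRankTwoFusion p M K ↔ CtrlTwo p M K :=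
  ⟨ctrlTwo_of_controls h, controls_of_ctrlTwo⟩

/-- **Rank 1 fusion control, without Sylow subgroups.** -/
theorem controls_iff_ctrlOne (h : IsPreuniquenessSubgroup p M K) :
    ControlsRankOneFusion p M K ↔ CtrlOne p M K :=
  ⟨ctrlOne_of_controls h, controls_of_ctrlOne⟩

/-- Under rank 2 fusion control, a subgroup of `M` containing some elementary abelian `E ≤ C_M(K mod O_{p'}(M))` of order `p²`
has its normalizer in `M`. -/
theorem CtrlTwo.normalizer_le (h : CtrlTwo p M K) {E : Subgroup G} (hE : E ≤ perp p M K)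
    (hEa : IsElementaryAbelian p E) (hEc : Nat.card E = p ^ 2) {X : Subgroup G} (hX : X ≤ M) (hEX : E ≤ X) :
    Subgroup.normalizer (X : Set G) ≤ M := by
  intro g hg
  refine h E hE hEa hEc g fun e he => hX ?_
  exact (Subgroup.mem_normalizer_iff.1 hg e).1 (hEX he)

/-- Under rank 2 fusion control a Sylow `p`-subgroup of `M` is a Sylow `p`-subgroup of `G`. -/
theorem CtrlTwo.isSylow (hM : PreuniquenessHypothesis p M K) (h : CtrlTwo p M K) (P : Sylow p ↥M) :
    ∃ S : Sylow p G, (S : Subgroup G) = (P : Subgroup ↥M).map M.subtype := by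
  obtain ⟨E, hE, hEa, hEc⟩ := exists_perp hp.out hM
  have hEp : IsPGroup p E := fun a => ⟨1, by rw [pow_one]; exact Subtype.ext (hEa.2 a a.2)⟩
  obtain ⟨m, hm, hmP⟩ := exists_conj_sylow P (hE.trans perp_le) hEp
  set PG : Subgroup G := (P : Subgroup ↥M).map M.subtype with hPG
  have hPGM : PG ≤ M := Subgroup.map_subtype_le _
  -- the normalizer of `P` lies in `M`
  have hN : Subgroup.normalizer (PG : Set G) ≤ M := by
    intro g hg
    have h1 : m⁻¹ * g * m ∈ M := by
      refine h E hE hEa hEc _ fun e he => ?_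
      have h2 := (Subgroup.mem_normalizer_iff.1 hg _).1 (hmP e he)
      have h3 : m⁻¹ * g * m * e * (m⁻¹ * g * m)⁻¹ = m⁻¹ * (g * (m * e * m⁻¹) * g⁻¹) * m⁻¹⁻¹ := by group
      rw [h3]
      exact M.mul_mem (M.mul_mem (M.inv_mem hm) (hPGM h2)) (M.inv_mem (M.inv_mem hm))
    have h4 : g = m * (m⁻¹ * g * m) * m⁻¹ := by group
    rw [h4]
    exact M.mul_mem (M.mul_mem hm h1) (M.inv_mem hm)
  have hPp : IsPGroup p PG := P.2.map _
  obtain ⟨S, hS⟩ := hPp.exists_le_sylow
  refine ⟨S, ?_⟩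
  by_contra hne
  have hlt : PG < S := lt_of_le_of_ne hS (fun h => hne h.symm)
  -- in the `p`-group `S` normalizers grow
  have h5 : (PG.subgroupOf S) < Subgroup.normalizer ((PG.subgroupOf S : Subgroup S) : Set S) := by
    have hnil : Group.IsNilpotent S := S.2.isNilpotent
    have h6 : PG.subgroupOf S < ⊤ := by
      rw [lt_top_iff_ne_top, Ne, Subgroup.subgroupOf_eq_top]
      exact fun h => hne (le_antisymm h hS)
    exact Group.normalizerCondition_of_isNilpotent _ h6
  obtain ⟨s, hs, hs2⟩ := SetLike.exists_of_lt h5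
  have hsN : (s : G) ∈ Subgroup.normalizer (PG : Set G) := by
    rw [Subgroup.mem_normalizer_iff]
    intro x
    constructor
    · intro hx
      exact (Subgroup.mem_normalizer_iff.1 hs ⟨x, hS hx⟩).1 hx
    · intro hx
      have hxS : x ∈ (S : Subgroup G) := by
        have h7 := S.mul_mem (S.mul_mem (S.inv_mem s.2) (hS hx)) s.2
        have h8 : (s : G)⁻¹ * (s * x * (s : G)⁻¹) * s = x := by group
        rwa [h8] at h7
      exact (Subgroup.mem_normalizer_iff.1 hs ⟨x, hxS⟩).2 hx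
  -- `PG` is maximal among `p`-subgroups of `M`
  have hsup : IsPGroup p ↥(PG ⊔ Subgroup.zpowers (s : G) : Subgroup G) := by
    exact S.2.to_le (sup_le hS ((Subgroup.zpowers_le).2 s.2))
  have hsM : PG ⊔ Subgroup.zpowers (s : G) ≤ M := sup_le hPGM ((Subgroup.zpowers_le).2 (hN hsN))
  have h9 := P.3 (Q := (PG ⊔ Subgroup.zpowers (s : G)).comap M.subtype)
    (hsup.comap_of_injective _ M.subtype_injective) (by
      rw [← Subgroup.map_le_iff_le_comap]
      exact le_sup_left)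
  apply hs2
  rw [Subgroup.mem_subgroupOf]
  have h10 : (⟨(s : G), hN hsN⟩ : ↥M) ∈ (PG ⊔ Subgroup.zpowers (s : G)).comap M.subtype :=
    (le_sup_right : Subgroup.zpowers (s : G) ≤ _) (Subgroup.mem_zpowers _)
  rw [h9] at h10
  exact ⟨_, h10, rfl⟩

end Fusion

end Cfsg.Agent.PreUniq
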