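import Cfsg.Agent.PreUniq.Core
import Cfsg.Agent.PreUniq.Transport
import Cfsg.Agent.S0542
import Cfsg.Agent.CpQuot.ONThree
import Cfsg.Agent.KFacts.SuzTL
import Cfsg.Agent.KFacts.SuzTwoB
import Cfsg.Agent.SporRec.SuzCl.Inv
import Cfsg.Agent.ONType.OddCentC
import Cfsg.Agent.PreUniq.Base
import Cfsg.Agent.SporadicB.DihedralLift
import Cfsg.Agent.KFacts.SuzLarge
import Cfsg.Agent.KFacts.SuzY
import Cfsg.Agent.SuzThree.ThreeWr
import Cfsg.Agent.Lib.ListFast
import Cfsg.Agent.Lib.PermNetFast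
import Cfsg.Agent.FastGrp
import Cfsg.Agent.Prune
set_option linter.all false

section
prune_inst 0x7ffcfffbaff8bddfffff7e7ffffddffffdfcffffffdffbfbfffdfbffffff6b6ffbf5fbafffefdafffef7f2be32f87bd3ffffceffeffbdc7ffffd5ff47fffffdfffffbfae79f6bc3e1ffe6ffffbfbffffffffffffffffffffffffffffffffffffffffffffffff

-- part: PreUniq/SporCrit
section
prune_inst 0x100045005400000000000000000000202000000200400000204000000109004080400001000000000000080000008000020000004030000020008000000000000400004090081000010000404000000000000000000000000000000000000000000000000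
set_option linter.all false
open scoped Cfsg.Agent.FastGrp

/-!
# Preuniqueness for sporadic groups: the criterion `noPre_of_dead`
-/

set_option autoImplicit false
set_option linter.unusedSectionVars false

namespace Cfsg.Agent.PreUniq.Spor

open Cfsg Subgroup
open Cfsg.Agent.SignalizersComponents.Components

section QS

variable {G : Type*} [Group G] {Y E : Subgroup G}

/-- If `[Y, E]` is central in the perfect group `Y` then `[Y, E] = 1`. -/
theorem commutator_eq_bot_of_central (hY : ⁅Y, Y⁆ = Y) (h : ⁅Y, E⁆ ≤ centralizer (Y : Set G)) : ⁅Y, E⁆ = ⊥ := by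
  have h1 : ⁅⁅Y, E⁆, Y⁆ = ⊥ := commutator_eq_bot_iff_le_centralizer.2 h
  have h3 : ⁅⁅Y, Y⁆, E⁆ = ⊥ := by
    apply commutator_commutator_eq_bot_of_rotate
    · exact h1
    · rw [commutator_comm E Y]
      exact h1
  rwa [hY] at h3

theorem perfect_of_quasisimple (h : IsQuasisimple ↥Y) : ⁅Y, Y⁆ = Y := by
  have h1 : (commutator ↥Y).map Y.subtype = (⊤ : Subgroup ↥Y).map Y.subtype := by
    rw [Group.isPerfect_def.1 h.1]
  rw [commutator_def, map_commutator, ← MonoidHom.range_eq_map, range_subtype] at h1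
  exact h1

end QS

variable {G : Type*} [Group G] [Finite G] {p : ℕ} [hp : Fact p.Prime] {M K E L T : Subgroup G} {z : G}

namespace Conf

theorem T_le (h : Conf p M K E L T z) : T ≤ centralizer ({z} : Set G) ⊓ centralizer (E : Set G) := by
  intro t ht
  refine ⟨mem_centralizer_singleton_iff.2 (h.zc t ht), (h.le (h.TL ht)).2⟩

theorem four_dvd (h : Conf p M K E L T z) : 4 ∣ Nat.card T := by
  have : Fact (Nat.Prime 2) := ⟨Nat.prime_two⟩
  obtain ⟨n, hn⟩ := h.T2.exists_card_eq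
  have h2 : 2 ≤ n := by
    by_contra hcon
    have h1 : (⊥ : Subgroup G).relIndex T ≤ 2 := by
      rw [relIndex_bot_left, hn]
      interval_cases n <;> norm_num
    obtain ⟨t, -, ht, ht2⟩ := h.idx ⊥ h1
    rw [mem_bot.1 ht] at ht2
    exact ht2 (one_mem _)
  rw [hn]
  exact pow_dvd_pow 2 h2

theorem four_dvd' (h : Conf p M K E L T z) :
    4 ∣ Nat.card ↥(centralizer ({z} : Set G) ⊓ centralizer (E : Set G)) :=
  h.four_dvd.trans (card_dvd_of_le h.T_le)

/-- If `C_G(z) ⊓ C_G(E)` is solvable of order not divisible by 64 then `z ∉ O_{p'}(M)`. -/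
theorem not_mem_core (h : Conf p M K E L T z)
    (hs : Group.IsSolvable ↥(centralizer ({z} : Set G) ⊓ centralizer (E : Set G)))
    (hc : ¬ 64 ∣ Nat.card ↥(centralizer ({z} : Set G) ⊓ centralizer (E : Set G))) : z ∉ core p M := by
  rcases h.cases with h1 | h1 | h1
  · exact h1
  · exfalso
    apply h.nsolv
    have h2 : L ≤ centralizer ({z} : Set G) ⊓ centralizer (E : Set G) := le_inf h1 (h.le.trans inf_le_right)
    exact Group.isSolvable_of_isSolvable_injective (Subgroup.inclusion_injective h2)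
  · exact absurd (h1.trans (card_dvd_of_le h.T_le)) hc

theorem coprime (hp2 : p ≠ 2) (h : Conf p M K E L T z) : (orderOf z).Coprime p := by
  rw [h.z2]
  exact (Nat.coprime_primes Nat.prime_two hp.out).2 (Ne.symm hp2)

theorem z_mem (h : Conf p M K E L T z) : z ∈ K := (h.le (h.TL h.zT)).1

end Conf

/-- The configuration excluded by a quasisimple subgroup `Y` of `M` of index at most 2 in `C_G(z)`. -/
theorem Conf.false_of_quasisimple (hp2 : p ≠ 2) (hKM : K ≤ M) (hK : IsPComponent p (K.subgroupOf M))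
    (hE : E ≤ perp p M K) (h : Conf p M K E L T z) {Y : Subgroup G} (hY : IsQuasisimple ↥Y) (hzY : z ∈ Y)
    (hYz : Y ≤ centralizer ({z} : Set G)) (hidx : Y.relIndex (centralizer ({z} : Set G)) ≤ 2)
    (hcen : ¬ 4 ∣ Nat.card (center ↥Y)) (hEY : E ≤ normalizer (Y : Set G)) (hYE : ⁅Y, E⁆ ≠ ⊥) (hYM : Y ≤ M) :
    False := by
  have hYp := perfect_of_quasisimple hY
  have hYEle : ⁅Y, E⁆ ≤ Y := Cfsg.Agent.Lib.CoprimeCommutator.commutator_le_left hEY
  -- an element of `T` in `Y` outside the core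
  obtain ⟨t, htT, htY, htc⟩ := h.idx Y (by
    refine (relIndex_le_of_le_right (h.T_le.trans inf_le_left) ?_).trans hidx
    exact (Nat.pos_of_dvd_of_pos (relIndex_dvd_card Y _) Nat.card_pos).ne')
  -- the normal subgroup `Y ⊓ core` of `Y` is central
  have hcore_cen : Y ⊓ core p M ≤ centralizer (Y : Set G) := by
    have hn : ((core p M).subgroupOf Y).Normal := by
      refine ⟨fun x hx g => ?_⟩
      exact conj_mem_core (hYM g.2) hx
    rcases quasisimple_normal hY _ hn with h1 | h1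
    · exfalso
      apply htc
      have h2 : (⟨t, htY⟩ : ↥Y) ∈ (core p M).subgroupOf Y := h1 ▸ mem_top _
      exact h2
    · rintro x ⟨hxY, hxc⟩
      rw [mem_centralizer_iff]
      intro y hy
      have h2 : (⟨x, hxY⟩ : ↥Y) ∈ center ↥Y := h1 hxc
      exact congrArg Subtype.val (mem_center_iff.1 h2 ⟨y, hy⟩)
  -- the image of `Y` in `M / O_{p'}(M)`
  set π := QuotientGroup.mk' (pPrimeCore p ↥M) with hπ
  let f : ↥Y →* ↥M ⧸ pPrimeCore p ↥M := π.comp (Subgroup.inclusion hYM)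
  have hsub : ((bar p M K).comap f).IsSubnormal := hK.2.1.1.comap f
  rcases quasisimple_subnormal hY hsub with h1 | h1
  · -- `Y ≤ K` modulo the core
    apply hYE
    apply commutator_eq_bot_of_central hYp
    refine le_trans ?_ hcore_cen
    refine le_inf hYEle ?_
    rw [commutator_le]
    intro y hy e he
    have h2 : (⟨y, hy⟩ : ↥Y) ∈ (bar p M K).comap f := h1 ▸ mem_top _
    obtain ⟨k, hk, hk2⟩ := h2
    -- `y = k c` with `c` in the core
    have hkM : (k : G) ∈ M := k.2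
    have h3 : (k : G)⁻¹ * y ∈ core p M := by
      rw [mem_core_iff (M.mul_mem (M.inv_mem hkM) (hYM hy))]
      exact QuotientGroup.eq.1 hk2
    obtain ⟨heM, he2⟩ := (mem_perp hKM).1 (hE he)
    have h4 : e * k * e⁻¹ * (k : G)⁻¹ ∈ core p M := he2 k hk
    rw [commutatorElement_def]
    set c := (k : G)⁻¹ * y with hcdef
    have hyk : y = k * c := by rw [hcdef]; group
    have h5 : y * e * y⁻¹ * e⁻¹ = (k : G) * (c * (e * c⁻¹ * e⁻¹)) * (k : G)⁻¹ *
        (e * k * e⁻¹ * (k : G)⁻¹)⁻¹ := by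
      rw [hyk]; group
    rw [h5]
    refine (core p M).mul_mem (conj_mem_core hkM ?_) ((core p M).inv_mem h4)
    exact (core p M).mul_mem h3 (conj_mem_core heM ((core p M).inv_mem h3))
  · -- `K ⊓ Y` is central modulo the core
    have hcent : ∀ s ∈ Y, s ∈ K → Y ≤ centralizer ({s} : Set G) := by
      intro s hsY hsK
      have h2 : (⟨s, hsY⟩ : ↥Y) ∈ center ↥Y := h1 ⟨⟨s, hKM hsK⟩, hsK, rfl⟩
      intro y hy
      rw [mem_centralizer_singleton_iff]
      exact congrArg Subtype.val (mem_center_iff.1 h2 ⟨y, hy⟩)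
    -- hence `t = z`
    have htz : t = z := by
      by_contra hne
      apply hcen
      have : Fact (Nat.Prime 2) := ⟨Nat.prime_two⟩
      have htK : t ∈ K := (h.le (h.TL htT)).1
      have ht1 : t ≠ 1 := by
        rintro rfl
        exact htc (one_mem _)
      have hz1 : z ≠ 1 := by
        rintro rfl
        have := h.z2
        rw [orderOf_one] at this
        omega
      -- the subgroup generated by `t` and `z`
      let A : Subgroup ↥Y := (T.subgroupOf Y) ⊓ center ↥Y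
      have hA2 : IsPGroup 2 A := by
        have h3 : IsPGroup 2 (T.subgroupOf Y) := h.T2.comap_subtype
        exact h3.to_le inf_le_left
      obtain ⟨n, hn⟩ := hA2.exists_card_eq
      have hztY : ∀ (s : G) (hsY : s ∈ Y), s ∈ T → (⟨s, hsY⟩ : ↥Y) ∈ A := by
        intro s hsY hsT
        have h3 : (⟨s, hsY⟩ : ↥Y) ∈ center ↥Y := by
          rw [mem_center_iff]
          rintro ⟨y, hy⟩
          apply Subtype.ext
          exact mem_centralizer_singleton_iff.1 (hcent s hsY (h.le (h.TL hsT)).1 hy)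
        exact ⟨hsT, h3⟩
      have hcard : 2 < Nat.card A := by
        let g : Fin 3 → ↥A := ![1, ⟨⟨z, hzY⟩, hztY z hzY h.zT⟩, ⟨⟨t, htY⟩, hztY t htY htT⟩]
        have hz1' : (⟨⟨z, hzY⟩, hztY z hzY h.zT⟩ : ↥A) ≠ 1 := fun h4 =>
          hz1 (congrArg (fun a : ↥A => ((a : ↥Y) : G)) h4)
        have ht1' : (⟨⟨t, htY⟩, hztY t htY htT⟩ : ↥A) ≠ 1 := fun h4 =>
          ht1 (congrArg (fun a : ↥A => ((a : ↥Y) : G)) h4)
        have hne' : (⟨⟨t, htY⟩, hztY t htY htT⟩ : ↥A) ≠ ⟨⟨z, hzY⟩, hztY z hzY h.zT⟩ := fun h4 =>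
          hne (congrArg (fun a : ↥A => ((a : ↥Y) : G)) h4)
        have hg : Function.Injective g := by
          intro a b hab
          fin_cases a <;> fin_cases b <;> simp [g] at hab ⊢
          · exact hz1' hab.symm
          · exact ht1' hab.symm
          · exact hz1 hab
          · exact hne hab.symm
          · exact ht1 hab
          · exact hne hab
        have h4 := Nat.card_le_card_of_injective g hg
        rw [Nat.card_eq_fintype_card, Fintype.card_fin] at h4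
        exact h4
      have h3 : 4 ∣ Nat.card A := by
        rw [hn] at hcard ⊢
        have : 2 ≤ n := by
          by_contra h4
          interval_cases n <;> omega
        exact pow_dvd_pow 2 this
      exact h3.trans (card_dvd_of_le inf_le_right)
    rw [htz] at htc
    have hzc : Y ≤ centralizer ({z} : Set G) := hYz
    have hW := commutator_le_perp hKM hK hE h.z_mem (h.coprime hp2) htc hYM hzc
    -- `[Y, E] = Y`
    have hYEn : ((⁅Y, E⁆).subgroupOf Y).Normal := by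
      refine Subgroup.normal_subgroupOf_of_le_normalizer ?_
      exact Cfsg.Agent.Lib.CoprimeCommutator.left_le_normalizer_commutator Y E
    rcases quasisimple_normal hY _ hYEn with h2 | h2
    · have h3 : Y ≤ ⁅Y, E⁆ := by rwa [subgroupOf_eq_top] at h2
      exact htc (mem_core_of_mem_perp hKM hK h.z_mem (hW (h3 hzY)) (h.coprime hp2))
    · apply hYE
      apply commutator_eq_bot_of_central hYp
      intro x hx
      rw [mem_centralizer_iff]
      intro y hy
      have h3 : (⟨x, hYEle hx⟩ : ↥Y) ∈ center ↥Y := h2 hx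
      exact congrArg Subtype.val (mem_center_iff.1 h3 ⟨y, hy⟩)

/-- The conditions under which the involution `z` cannot occur with `E`. -/
def Dead (p : ℕ) (z : G) (E : Subgroup G) : Prop :=
  ((∃ W : Subgroup G, ¬ p ∣ Nat.card W ∧ W ≤ centralizer ({z} : Set G) ∧ E ≤ normalizer (W : Set G) ∧ z ∈ ⁅W, E⁆) ∧
    Group.IsSolvable ↥(centralizer ({z} : Set G) ⊓ centralizer (E : Set G)) ∧
    ¬ 64 ∣ Nat.card ↥(centralizer ({z} : Set G) ⊓ centralizer (E : Set G))) ∨
  (¬ 4 ∣ Nat.card ↥(centralizer ({z} : Set G) ⊓ centralizer (E : Set G))) ∨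
  (∃ Y : Subgroup G, IsQuasisimple ↥Y ∧ z ∈ Y ∧ Y ≤ centralizer ({z} : Set G) ∧
    Y.relIndex (centralizer ({z} : Set G)) ≤ 2 ∧ ¬ 4 ∣ Nat.card (center ↥Y) ∧ E ≤ normalizer (Y : Set G) ∧
    ⁅Y, E⁆ ≠ ⊥ ∧ ∀ M : Subgroup G, Grip p M E → Y ≤ M)

/-- **The criterion.** -/
theorem noPre_of_dead (hp2 : p ≠ 2)
    (H : ∀ (z : G) (E : Subgroup G), orderOf z = 2 → IsElementaryAbelian p E → Nat.card E = p ^ 2 →
      E ≤ centralizer ({z} : Set G) → Dead p z E) : NoPre p G := by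
  intro M K hMK
  obtain ⟨E, hE, hEa, hEc⟩ := exists_perp hp.out hMK
  have hgrip := grip_of_le_perp hp.out hMK.1 hE hEa hEc
  obtain ⟨-, hKM, hK, -⟩ := hMK.1
  obtain ⟨L, T, z, hc⟩ := exists_conf hp2 hKM hK hE hgrip.isPGroup
  have hEz : E ≤ centralizer ({z} : Set G) := by
    intro e he
    rw [mem_centralizer_singleton_iff]
    exact mem_centralizer_iff.1 (hc.T_le hc.zT).2 e he
  rcases H z E hc.z2 hEa hEc hEz with ⟨⟨W, hWp, hWz, hEW, hzW⟩, hs, h64⟩ | h4 | ⟨Y, h1, h2, h3, h4, h5, h6, h7, h8⟩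
  · exact not_mem_commutator hKM hK hE hc.z_mem (hc.coprime hp2) (hc.not_mem_core hs h64)
      (hgrip.le_of_coprime hp.out hWp hEW) hWz hzW
  · exact h4 hc.four_dvd'
  · exact hc.false_of_quasisimple hp2 hKM hK hE h1 h2 h3 h4 h5 h6 h7 (h8 M hgrip)

/-- No subgroup of order `p ^ 2` centralizes an involution. -/
theorem noPre_of_not_sq_dvd (hp2 : p ≠ 2) (H : ∀ z : G, orderOf z = 2 → ¬ p ^ 2 ∣ Nat.card (centralizer ({z} : Set G))) :
    NoPre p G := by
  refine noPre_of_dead hp2 fun z E hz _ hEc hEz => (H z hz ?_).elim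
  rw [← hEc]
  exact card_dvd_of_le hEz

end Cfsg.Agent.PreUniq.Spor
end

-- part: PreUniq/SporSuz
section
prune_inst 0x100000000000000000000000000000000000000000000000000000000000000000000
set_option linter.all false
open scoped Cfsg.Agent.FastGrp

-- merged: Cfsg.Agent.PreUniq.SporStd
section

/-!
# Preuniqueness: the case `K` normal in `M` (helper2)

`E ≤ C_M(K mod O_{p'}(M))` of order `p²`, `C_G(E)` has abelian Sylow `p`-subgroups, `E × F` is one of them,
`F ≤ A ≤ C_G(E)`, `A` generated by `p`-elements and "simple": then `A ≤ N(K)`, `F ∩ C_M(K̄) = 1`. This gives the rows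
`ON` (`p = 3`) and `Suz` (`p = 3`).
-/

set_option autoImplicit false
set_option linter.unusedSectionVars false

namespace Cfsg.Agent.PreUniq.Spor.Std

open Cfsg Subgroup
open Cfsg.Agent.PreUniq.Core

variable {G : Type*} [Group G] {p : ℕ} {M K E F A S : Subgroup G} {y : G}

/-- Elements of `M` normalizing `K` normalize `C_M(K̄)`. -/
theorem conj_mem_perp (hKM : K ≤ M) {m : G} (hm : m ∈ M) (hmK : m ∈ normalizer (K : Set G)) {x : G}
    (hx : x ∈ perp p M K) : m * x * m⁻¹ ∈ perp p M K := by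
  obtain ⟨hxM, hx2⟩ := (mem_perp hKM).1 hx
  rw [mem_perp hKM]
  refine ⟨M.mul_mem (M.mul_mem hm hxM) (M.inv_mem hm), fun k hk => ?_⟩
  have hk' : m⁻¹ * k * m ∈ K := by
    have := (mem_normalizer_iff.1 (inv_mem hmK) k).1 hk
    rwa [inv_inv] at this
  have h2 := conj_mem_core hm (hx2 _ hk')
  have h3 : m * (x * (m⁻¹ * k * m) * x⁻¹ * (m⁻¹ * k * m)⁻¹) * m⁻¹ = m * x * m⁻¹ * k * (m * x * m⁻¹)⁻¹ * k⁻¹ := by
    group
  rwa [h3] at h2

theorem mem_normalizer_of_conj {N : Subgroup G} {a : G} (h : ∀ n ∈ N, a * n * a⁻¹ ∈ N)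
    (h' : ∀ n ∈ N, a⁻¹ * n * a ∈ N) : a ∈ normalizer (N : Set G) := by
  rw [mem_normalizer_iff]
  intro n
  refine ⟨h n, fun hn => ?_⟩
  have h1 := h' _ hn
  have h2 : a⁻¹ * (a * n * a⁻¹) * a = n := by group
  rwa [h2] at h1

theorem mem_normalizer_perp (hKM : K ≤ M) {m : G} (hm : m ∈ M) (hmK : m ∈ normalizer (K : Set G)) :
    m ∈ normalizer (perp p M K : Set G) := by
  refine mem_normalizer_of_conj (fun x hx => conj_mem_perp hKM hm hmK hx) fun x hx => ?_
  have h1 := conj_mem_perp hKM (M.inv_mem hm) (inv_mem hmK) hx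
  rwa [inv_inv] at h1

theorem core_le_perp (hKM : K ≤ M) : core p M ≤ perp p M K := by
  intro x hx
  rw [mem_perp hKM]
  refine ⟨core_le hx, fun k hk => ?_⟩
  have h1 := (core p M).mul_mem hx (conj_mem_core (hKM hk) ((core p M).inv_mem hx))
  have h2 : x * (k * x⁻¹ * k⁻¹) = x * k * x⁻¹ * k⁻¹ := by group
  rwa [h2] at h1

variable [Finite G] [hp : Fact p.Prime]

/-- `K` is not contained in `C_M(K̄)`. -/
theorem not_le_perp (hKM : K ≤ M) (hK : IsPComponent p (K.subgroupOf M)) : ¬ K ≤ perp p M K := by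
  intro h
  have h1 : K.subgroupOf M ≤ pPrimeCore p ↥M := by
    rw [← Cfsg.Agent.Lib.PComponents.pcomp_perfect hK, commutator_le]
    intro a ha b hb
    have h2 := ((mem_perp hKM).1 (h ha)).2 b hb
    have h3 : (a : G) * b * (a : G)⁻¹ * (b : G)⁻¹ ∈ M := core_le h2
    have h4 := (mem_core_iff h3).1 h2
    exact h4
  have h2 := Cfsg.Agent.Lib.PComponents.prime_dvd_card_pcomp hK
  have h3 : (Nat.card (core p M)).Coprime p := core_coprime
  have h4 : Nat.card (pPrimeCore p ↥M) = Nat.card (core p M) :=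
    Nat.card_congr (Subgroup.equivMapOfInjective _ _ M.subtype_injective).toEquiv
  have h5 : p ∣ Nat.card (core p M) := by
    rw [← h4]
    exact h2.trans (card_dvd_of_le h1)
  exact hp.out.one_lt.ne' (Nat.eq_one_of_dvd_coprimes h3 h5 dvd_rfl)

/-- A Sylow `p`-subgroup of `C_G(E)` contains an element of `K` acting nontrivially on `K̄`. -/
theorem exists_not_mem_perp (hKM : K ≤ M) (hK : IsPComponent p (K.subgroupOf M)) (hE : E ≤ perp p M K)
    (hEp : IsPGroup p E) (hCM : centralizer (E : Set G) ≤ M) (hSC : S ≤ centralizer (E : Set G))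
    (hSp : IsPGroup p S) (hidx : ¬ p ∣ S.relIndex (centralizer (E : Set G))) :
    ∃ s ∈ S, s ∈ K ∧ s ∉ perp p M K := by
  by_contra hcon
  push Not at hcon
  set C := centralizer (E : Set G) with hC
  have hsub : (K.subgroupOf C).IsSubnormal := by
    have h1 : K.subgroupOf C = (K.subgroupOf M).comap (inclusion hCM) := rfl
    rw [h1]
    exact hK.1.comap _
  have hP : IsPGroup p (S.subgroupOf C) := hSp.comap_subtype
  obtain ⟨Q, hQ⟩ := Cfsg.Agent.S0542.result p (K.subgroupOf C) hsub (hP.toSylow hidx)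
  have h1 := Q.not_dvd_index
  rw [hQ] at h1
  change ¬ p ∣ ((S.subgroupOf C).subgroupOf (K.subgroupOf C)).index at h1
  -- the map onto `K / (K ∩ C_M(K̄))`
  let N : Subgroup ↥(K.subgroupOf M) := ((perp p M K).subgroupOf M).subgroupOf (K.subgroupOf M)
  have hN : N.Normal := by
    refine ⟨fun x hx k => ?_⟩
    have h2 : ((x : ↥M) : G) ∈ perp p M K := hx
    change ((k : ↥M) : G) * ((x : ↥M) : G) * ((k : ↥M) : G)⁻¹ ∈ perp p M K
    exact conj_mem_perp hKM (k : ↥M).2 (le_normalizer (H := K) k.2) h2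
  let g : ↥(K.subgroupOf C) →* ↥(K.subgroupOf M) :=
    { toFun := fun x => ⟨⟨((x : ↥C) : G), hCM (x : ↥C).2⟩, x.2⟩
      map_one' := rfl
      map_mul' := fun _ _ => rfl }
  let φ := (QuotientGroup.mk' N).comp g
  have hφ : Function.Surjective φ := by
    intro q
    obtain ⟨⟨⟨k, hkM⟩, hk⟩, rfl⟩ := QuotientGroup.mk'_surjective N q
    have hk' : k ∈ K := hk
    obtain ⟨c, hc, hkc⟩ := exists_fixed hKM hK hE hEp hk'
    refine ⟨⟨⟨c, hc.2⟩, hc.1⟩, ?_⟩
    change (QuotientGroup.mk' N) _ = (QuotientGroup.mk' N) _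
    rw [QuotientGroup.mk'_apply, QuotientGroup.mk'_apply, eq_comm, QuotientGroup.eq]
    exact core_le_perp hKM hkc
  have h2 : N.index ∣ ((S.subgroupOf C).subgroupOf (K.subgroupOf C)).index := by
    have h3 : (S.subgroupOf C).subgroupOf (K.subgroupOf C) ≤ φ.ker := by
      intro x hx
      rw [MonoidHom.mem_ker]
      change (QuotientGroup.mk' N) _ = 1
      rw [QuotientGroup.mk'_apply, QuotientGroup.eq_one_iff]
      exact hcon _ hx x.2
    have h4 := index_dvd_of_le h3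
    rw [index_ker, MonoidHom.range_eq_top.2 hφ, card_top] at h4
    exact h4
  have h3 : N = ⊤ := Cfsg.Agent.Lib.PComponents.pcomp_normal_coprime_index hK N
    ((Nat.Prime.coprime_iff_not_dvd hp.out).2 fun h => h1 (h.trans h2)).symm
  apply not_le_perp hKM hK
  intro k hk
  have h4 : (⟨⟨k, hKM hk⟩, hk⟩ : ↥(K.subgroupOf M)) ∈ N := by rw [h3]; trivial
  exact h4

/-- An abelian Sylow `p`-subgroup of `C_G(E)` normalizes `K`. -/
theorem le_normalizer_of_abelian (hKM : K ≤ M) (hK : IsPComponent p (K.subgroupOf M)) (hE : E ≤ perp p M K)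
    (hEp : IsPGroup p E) (hCM : centralizer (E : Set G) ≤ M) (hSC : S ≤ centralizer (E : Set G))
    (hSp : IsPGroup p S) (hidx : ¬ p ∣ S.relIndex (centralizer (E : Set G)))
    (hab : ∀ a ∈ S, ∀ b ∈ S, a * b = b * a) : S ≤ normalizer (K : Set G) := by
  obtain ⟨s, hsS, hsK, hsp⟩ := exists_not_mem_perp hKM hK hE hEp hCM hSC hSp hidx
  intro g hg
  by_contra hgN
  apply hsp
  rw [mem_perp hKM]
  refine ⟨hKM hsK, fun k hk => ?_⟩
  have h1 := comm_mem_core hKM hK (hCM (hSC hg)) hgN hk hsK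
  have h2 : g * s * g⁻¹ = s := by rw [hab g hg s hsS, mul_inv_cancel_right]
  rw [h2] at h1
  have h3 := (core p M).inv_mem h1
  have h4 : (k * s * k⁻¹ * s⁻¹)⁻¹ = s * k * s⁻¹ * k⁻¹ := by group
  rwa [h4] at h3

/-- `p`-elements of `C_G(E)` normalize `K` if the Sylow `p`-subgroups of `C_G(E)` are abelian. -/
theorem mem_normalizer_of_pow (hKM : K ≤ M) (hK : IsPComponent p (K.subgroupOf M)) (hE : E ≤ perp p M K)
    (hEp : IsPGroup p E) (hCM : centralizer (E : Set G) ≤ M)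
    (hab : ∀ T : Subgroup G, T ≤ centralizer (E : Set G) → IsPGroup p T → ∀ a ∈ T, ∀ b ∈ T, a * b = b * a)
    {t : G} (ht : t ∈ centralizer (E : Set G)) {n : ℕ} (htn : t ^ p ^ n = 1) : t ∈ normalizer (K : Set G) := by
  set C := centralizer (E : Set G) with hC
  have h1 : IsPGroup p (zpowers (⟨t, ht⟩ : ↥C)) := by
    rintro ⟨_, k, rfl⟩
    refine ⟨n, ?_⟩
    apply Subtype.ext
    change (((⟨t, ht⟩ : ↥C) ^ k) ^ p ^ n) = 1
    rw [← zpow_natCast, ← zpow_mul, mul_comm, zpow_mul, zpow_natCast]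
    have h2 : (⟨t, ht⟩ : ↥C) ^ p ^ n = 1 := Subtype.ext htn
    rw [h2, one_zpow]
  obtain ⟨P, hP⟩ := h1.exists_le_sylow
  have hle : (P : Subgroup ↥C).map C.subtype ≤ C := map_subtype_le _
  have hPp : IsPGroup p ((P : Subgroup ↥C).map C.subtype) := P.2.map _
  have h2 := le_normalizer_of_abelian hKM hK hE hEp hCM hle hPp (by
    have h3 : ((P : Subgroup ↥C).map C.subtype).relIndex C = (P : Subgroup ↥C).index := by
      rw [relIndex, subgroupOf, comap_map_eq_self_of_injective C.subtype_injective]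
    rw [h3]
    exact P.not_dvd_index) (hab _ hle hPp)
  exact h2 ⟨⟨t, ht⟩, hP (mem_zpowers _), rfl⟩

/-- The subgroups `E`, `F`, `A` and the element `y ∈ A`. -/
structure Trio (p : ℕ) (E F A : Subgroup G) (y : G) : Prop where
  FA : F ≤ A
  AC : A ≤ centralizer (E : Set G)
  gen : A ≤ closure {t | t ∈ A ∧ ∃ n : ℕ, t ^ p ^ n = 1}
  Fp : IsPGroup p F
  idx : ¬ p ∣ (E ⊔ F).relIndex (centralizer (E : Set G))
  ab : ∀ T : Subgroup G, T ≤ centralizer (E : Set G) → IsPGroup p T → ∀ a ∈ T, ∀ b ∈ T, a * b = b * a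
  yA : y ∈ A
  simp1 : ∀ N : Subgroup G, N ≤ A → A ≤ normalizer (N : Set G) → (∃ f ∈ F, f ≠ 1 ∧ f ∈ N) → y ∈ N
  simp2 : ∀ N : Subgroup G, N ≤ A → A ≤ normalizer (N : Set G) → y ∈ N → F ≤ N

namespace Trio

variable (D : Trio p E F A y)

include D

theorem le_normalizer (h : IsPreuniquenessSubgroup p M K) (hE : E ≤ perp p M K) (hEp : IsPGroup p E) (hE1 : E ≠ ⊥) :
    A ≤ normalizer (K : Set G) := by
  have hCM := centralizer_le_of_isPGroup h hE hEp hE1
  refine D.gen.trans ((closure_le _).2 ?_)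
  rintro t ⟨ht, n, hn⟩
  exact mem_normalizer_of_pow h.2.1 h.2.2.1 hE hEp hCM D.ab (D.AC ht) hn

/-- The main lemma. -/
theorem main (h : IsPreuniquenessSubgroup p M K) (hE : E ≤ perp p M K) (hEp : IsPGroup p E) (hE1 : E ≠ ⊥)
    (hEab : ∀ a ∈ E, ∀ b ∈ E, a * b = b * a) :
    F ⊓ perp p M K = ⊥ ∧ y ∉ perp p M K ∧ ∃ k ∈ K, k⁻¹ * y ∈ perp p M K := by
  have hKM := h.2.1
  have hCM := centralizer_le_of_isPGroup h hE hEp hE1
  have hAM : A ≤ M := D.AC.trans hCM
  have hAK := D.le_normalizer h hE hEp hE1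
  have hEC : E ≤ centralizer (E : Set G) := fun a ha => mem_centralizer_iff.2 fun b hb => hEab b hb a ha
  have hFC : F ≤ centralizer (E : Set G) := D.FA.trans D.AC
  have hEFN : E ≤ normalizer (F : Set G) := by
    intro e he
    have key : ∀ e ∈ E, ∀ f ∈ F, e * f * e⁻¹ = f := fun e he f hf => by
      rw [mem_centralizer_iff.1 (hFC hf) e he, mul_inv_cancel_right]
    refine mem_normalizer_of_conj (fun f hf => by rw [key e he f hf]; exact hf) fun f hf => ?_
    have h1 := key e⁻¹ (inv_mem he) f hf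
    rw [inv_inv] at h1
    rw [h1]; exact hf
  have hSp : IsPGroup p (E ⊔ F : Subgroup G) := by
    refine IsPGroup.to_sup_of_normal_right' hEp D.Fp hEFN
  obtain ⟨s, hsS, hsK, hsp⟩ := exists_not_mem_perp hKM h.2.2.1 hE hEp hCM (sup_le hEC hFC) hSp D.idx
  obtain ⟨e, he, f, hf, rfl⟩ := mem_sup_of_le_normalizer hEFN hsS
  have hfp : f ∉ perp p M K := fun h1 => hsp ((perp p M K).mul_mem (hE he) h1)
  have hf1 : f ≠ 1 := by
    rintro rfl
    exact hfp (one_mem _)
  have hAP : A ≤ normalizer (perp p M K : Set G) := fun a ha => mem_normalizer_perp hKM (hAM ha) (hAK ha)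
  have hKP : K ≤ normalizer (perp p M K : Set G) := fun a ha =>
    mem_normalizer_perp hKM (hKM ha) (Subgroup.le_normalizer ha)
  -- `A ∩ C_M(K̄)`
  have hN1 : A ≤ normalizer ((A ⊓ perp p M K : Subgroup G) : Set G) := by
    intro a ha
    refine mem_normalizer_of_conj (fun n hn => ⟨A.mul_mem (A.mul_mem ha hn.1) (A.inv_mem ha),
      (mem_normalizer_iff.1 (hAP ha) n).1 hn.2⟩) fun n hn => ⟨A.mul_mem (A.mul_mem (A.inv_mem ha) hn.1) ha, ?_⟩
    have h1 := (mem_normalizer_iff.1 (inv_mem (hAP ha)) n).1 hn.2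
    rwa [inv_inv] at h1
  have hyp : y ∉ perp p M K := by
    intro h1
    exact hfp ((D.simp2 _ inf_le_left hN1 ⟨D.yA, h1⟩ hf).2)
  refine ⟨?_, hyp, ?_⟩
  · rw [eq_bot_iff_forall]
    intro x hx
    by_contra hx1
    exact hyp (D.simp1 _ inf_le_left hN1 ⟨x, hx.1, hx1, D.FA hx.1, hx.2⟩).2
  · -- `A ∩ K C_M(K̄)`
    have hconj : ∀ a ∈ A, ∀ n ∈ K ⊔ perp p M K, a * n * a⁻¹ ∈ K ⊔ perp p M K := by
      intro a ha n hn
      obtain ⟨k, hk, q, hq, rfl⟩ := mem_sup_of_le_normalizer hKP hn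
      have h1 : a * (k * q) * a⁻¹ = (a * k * a⁻¹) * (a * q * a⁻¹) := by group
      rw [h1]
      exact mul_mem ((le_sup_left : K ≤ _) ((mem_normalizer_iff.1 (hAK ha) k).1 hk))
        ((le_sup_right : perp p M K ≤ K ⊔ perp p M K) ((mem_normalizer_iff.1 (hAP ha) q).1 hq))
    have hN2 : A ≤ normalizer ((A ⊓ (K ⊔ perp p M K) : Subgroup G) : Set G) := by
      intro a ha
      refine mem_normalizer_of_conj (fun n hn => ⟨A.mul_mem (A.mul_mem ha hn.1) (A.inv_mem ha),
        hconj a ha n hn.2⟩) fun n hn => ⟨A.mul_mem (A.mul_mem (A.inv_mem ha) hn.1) ha, ?_⟩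
      have h1 := hconj a⁻¹ (A.inv_mem ha) n hn.2
      rwa [inv_inv] at h1
    have hfN : f ∈ A ⊓ (K ⊔ perp p M K) := by
      refine ⟨D.FA hf, ?_⟩
      have h1 : f = e⁻¹ * (e * f) := by group
      rw [h1]
      exact mul_mem ((le_sup_right : perp p M K ≤ K ⊔ perp p M K) (inv_mem (hE he)))
        ((le_sup_left : K ≤ K ⊔ perp p M K) hsK)
    have h1 := (D.simp1 _ inf_le_left hN2 ⟨f, hf, hf1, hfN⟩).2
    obtain ⟨k, hk, q, hq, hkq⟩ := mem_sup_of_le_normalizer hKP h1
    refine ⟨k, hk, ?_⟩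
    rw [hkq]
    have h2 : k⁻¹ * (k * q) = q := by group
    rwa [h2]

/-- `K` is normal in `M` if `r ^ 2` does not divide `|G|`, `r` the order of `y`. -/
theorem isStandardWrt (h : IsPreuniquenessSubgroup p M K) (hE : E ≤ perp p M K) (hEp : IsPGroup p E) (hE1 : E ≠ ⊥)
    (hEab : ∀ a ∈ E, ∀ b ∈ E, a * b = b * a) {r : ℕ} (hr : r.Prime) (hy : y ^ r = 1) (hG : ¬ r ^ 2 ∣ Nat.card G) :
    IsStandardWrt M K := by
  have hKM := h.2.1
  obtain ⟨-, hyp, k, hk, hky⟩ := D.main h hE hEp hE1 hEab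
  have hrf : Fact r.Prime := ⟨hr⟩
  have hKP : K ≤ normalizer (perp p M K : Set G) := fun a ha =>
    mem_normalizer_perp hKM (hKM ha) (Subgroup.le_normalizer ha)
  refine ⟨hKM, normal_subgroupOf_of_le_normalizer ?_⟩
  intro w hw
  by_contra hwN
  apply hG
  -- `K^w ≤ C_M(K̄)`
  have h1 : K.map (MulAut.conj w).toMonoidHom ≤ perp p M K := by
    rintro _ ⟨l, hl, rfl⟩
    change w * l * w⁻¹ ∈ perp p M K
    rw [mem_perp hKM]
    refine ⟨M.mul_mem (M.mul_mem hw (hKM hl)) (M.inv_mem hw), fun k' hk' => ?_⟩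
    have h2 := (core p M).inv_mem (comm_mem_core hKM h.2.2.1 hw hwN hk' hl)
    have h3 : (k' * (w * l * w⁻¹) * k'⁻¹ * (w * l * w⁻¹)⁻¹)⁻¹ = w * l * w⁻¹ * k' * (w * l * w⁻¹)⁻¹ * k'⁻¹ := by group
    rwa [h3] at h2
  set P := perp p M K with hP
  set H := K ⊔ P with hH
  have hPH : P ≤ H := le_sup_right
  have hHN : H ≤ normalizer (P : Set G) := sup_le hKP Subgroup.le_normalizer
  have hyH : y ∈ H := by
    have h2 : y = k * (k⁻¹ * y) := by group
    rw [h2]
    exact mul_mem ((le_sup_left : K ≤ H) hk) (hPH hky)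
  -- `r` divides `|H : P|`
  have hPn : (P.subgroupOf H).Normal := normal_subgroupOf_of_le_normalizer hHN
  have ho : ∀ x : ↥H, (x : G) ∉ P → x ^ r ∈ P.subgroupOf H →
      orderOf (QuotientGroup.mk' (P.subgroupOf H) x) = r := by
    intro x hx hxr
    apply orderOf_eq_prime
    · rw [← map_pow, QuotientGroup.mk'_apply, QuotientGroup.eq_one_iff]
      exact hxr
    · rw [Ne, QuotientGroup.mk'_apply, QuotientGroup.eq_one_iff]
      exact hx
  have hyr : (⟨y, hyH⟩ : ↥H) ^ r ∈ P.subgroupOf H := by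
    have h2 : (⟨y, hyH⟩ : ↥H) ^ r = 1 := Subtype.ext hy
    rw [h2]; exact one_mem _
  have hr1 : r ∣ P.relIndex H := by
    have h2 := orderOf_dvd_natCard (QuotientGroup.mk' (P.subgroupOf H) (⟨y, hyH⟩ : ↥H))
    rwa [ho _ hyp hyr] at h2
  -- `r` divides `|K|`
  have hr2 : r ∣ Nat.card K := by
    let kk : ↥H := ⟨k, (le_sup_left : K ≤ H) hk⟩
    have h3 : QuotientGroup.mk' (P.subgroupOf H) kk = QuotientGroup.mk' (P.subgroupOf H) (⟨y, hyH⟩ : ↥H) := by
      rw [QuotientGroup.mk'_apply, QuotientGroup.mk'_apply, QuotientGroup.eq]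
      exact hky
    have h4 : orderOf (QuotientGroup.mk' (P.subgroupOf H) kk) = r := by
      rw [h3]
      exact ho _ hyp hyr
    have h5 : r ∣ orderOf kk := by
      rw [← h4]
      exact orderOf_map_dvd _ _
    have h6 : orderOf kk = orderOf (⟨k, hk⟩ : ↥K) := by
      rw [← Subgroup.orderOf_coe kk, ← Subgroup.orderOf_coe (⟨k, hk⟩ : ↥K)]
    rw [h6] at h5
    exact h5.trans (orderOf_dvd_natCard _)
  have hr3 : r ∣ Nat.card P := by
    have h3 : Nat.card (K.map (MulAut.conj w).toMonoidHom) = Nat.card K :=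
      (Nat.card_congr (Subgroup.equivMapOfInjective _ _ (MulAut.conj w).injective).toEquiv).symm
    have h4 := card_dvd_of_le h1
    rw [h3] at h4
    exact hr2.trans h4
  have h4 := card_mul_relIndex hPH
  have h5 : r ^ 2 ∣ Nat.card H := by
    rw [← h4, pow_two]
    exact mul_dvd_mul hr3 hr1
  exact h5.trans (card_subgroup_dvd_card H)

/-- No rank 2 fusion control if `K` is normal in `M` and `E` is conjugate into `F`. -/
theorem not_ctrlTwo (h : IsPreuniquenessSubgroup p M K) (hE : E ≤ perp p M K) (hEa : IsElementaryAbelian p E)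
    (hEc : Nat.card E = p ^ 2) (hst : IsStandardWrt M K) {g : G} (hg : ∀ e ∈ E, g * e * g⁻¹ ∈ F) :
    ¬ CtrlTwo p M K := by
  intro hc
  have hEp : IsPGroup p E := IsPGroup.of_card hEc
  have hE1 : E ≠ ⊥ := by
    rintro rfl
    rw [card_bot] at hEc
    have := Nat.one_lt_pow (n := 2) (by norm_num) hp.out.one_lt
    omega
  have hEab : ∀ a ∈ E, ∀ b ∈ E, a * b = b * a := fun a ha b hb =>
    congrArg Subtype.val (hEa.1.is_comm.comm ⟨a, ha⟩ ⟨b, hb⟩)
  have hCM := centralizer_le_of_isPGroup h hE hEp hE1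
  have hgM : g ∈ M := hc E hE hEa hEc g fun e he => hCM (D.AC (D.FA (hg e he)))
  have hMK : M ≤ normalizer (K : Set G) := (normal_subgroupOf_iff_le_normalizer h.2.1).1 hst.2
  obtain ⟨hbot, -, -⟩ := D.main h hE hEp hE1 hEab
  apply hE1
  rw [eq_bot_iff_forall]
  intro e he
  have h1 : g * e * g⁻¹ ∈ F ⊓ perp p M K := ⟨hg e he, conj_mem_perp h.2.1 hgM (hMK hgM) (hE he)⟩
  rw [hbot, mem_bot] at h1
  exact conj_eq_one_iff.1 h1

end Trio

/-- Reduction to a fixed `E`. -/
theorem stdPre_of (E : Subgroup G)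
    (H : ∀ M K : Subgroup G, PreuniquenessHypothesis p M K → E ≤ perp p M K → IsStandardWrt M K ∧ ¬ CtrlTwo p M K)
    (hcl : ∀ M K : Subgroup G, PreuniquenessHypothesis p M K → ∀ E' : Subgroup G, E' ≤ perp p M K →
      IsElementaryAbelian p E' → Nat.card E' = p ^ 2 → ∃ g : G, ∀ e ∈ E, ∃ e' ∈ E', g * e' * g⁻¹ = e) :
    StdPre p G := by
  intro M K hMK
  obtain ⟨E', hE', hEa, hEc⟩ := exists_perp hp.out hMK
  obtain ⟨g, hg⟩ := hcl M K hMK E' hE' hEa hEc
  let e : G ≃* G := MulAut.conj g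
  have h1 := preuniquenessHypothesis_map e hMK
  have h2 : E ≤ perp p (M.map e.toMonoidHom) (K.map e.toMonoidHom) := by
    rw [perp_map hMK.1.2.1]
    intro x hx
    obtain ⟨e', he', hx'⟩ := hg x hx
    exact ⟨e', hE' he', hx'⟩
  obtain ⟨h3, h4⟩ := H _ _ h1 h2
  have h5 : ¬ CtrlTwo p M K := fun h => h4 (ctrlTwo_map e hMK.1.2.1 h)
  refine ⟨?_, fun h => h5 ?_, fun h => h5 ?_⟩
  · have h6 := isStandardWrt_map e.symm h3
    have h7 : ∀ X : Subgroup G, (X.map e.toMonoidHom).map e.symm.toMonoidHom = X := fun X => by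
      have := map_symm_map e.symm X
      exact this
    rwa [h7, h7] at h6
  · exact (ctrlOne_of_controls hMK.1 h).ctrlTwo hp.out
  · exact ctrlTwo_of_controls hMK.1 h

end Cfsg.Agent.PreUniq.Spor.Std

end

-- merged: Cfsg.Agent.PreUniq.SporON
section

/-!
# Preuniqueness: the O'Nan group at `p = 3` (helper2)

`E = ⟨x₁, x₂⟩`, `F = ⟨y₁, y₂⟩`, `y₁ = ef`, `y₂ = e g e g⁻¹`, `A = ⟨F, F^d⟩ ≅ A₆`. The words were found by computer.
-/

set_option autoImplicit false
set_option linter.unusedSectionVars false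
set_option maxRecDepth 100000

namespace Cfsg.Agent.PreUniq.Spor.ONP

open Cfsg Subgroup
open Cfsg.Spor (ON)
open Cfsg.Spor.ON (Gen)
open Cfsg.Agent.KFacts.MulSpor.ON (w w_append w_one w_cons w_iw iw rel eqw)
open Cfsg.Agent.CpQuot.ONThree (x₁ x₂ s t₁ t₂ k x12 cube1 cube2 s2 t12 t22 x1s x2s x1t1 x2t1 x1t2 x2t2 k1 k2 yy n1
  m1 m2 m3 P card_dvd w_nil)
open Cfsg.Agent.CpQuot.EightyOne (closure_comm closure_cube isPGroup_closure)

/-! ### Two commuting elements of order 3 -/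

section Pair

variable {X : Type*} [Group X] {a b : X}

theorem mem_pair (hab : a * b = b * a) (ha : a ^ 3 = 1) (hb : b ^ 3 = 1) {x : X} (hx : x ∈ closure ({a, b} : Set X)) :
    ∃ i j : Fin 3, x = a ^ (i : ℕ) * b ^ (j : ℕ) := by
  have hc : Commute a b := hab
  have hmod : ∀ {c : X}, c ^ 3 = 1 → ∀ n : ℕ, c ^ n = c ^ (n % 3) := by
    intro c hc n
    conv_lhs => rw [← Nat.div_add_mod n 3, pow_add, pow_mul, hc, one_pow, one_mul]
  have key : ∀ n m : ℕ, ∃ i j : Fin 3, a ^ n * b ^ m = a ^ (i : ℕ) * b ^ (j : ℕ) := fun n m =>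
    ⟨⟨n % 3, Nat.mod_lt _ (by norm_num)⟩, ⟨m % 3, Nat.mod_lt _ (by norm_num)⟩, by rw [hmod ha n, hmod hb m]⟩
  induction hx using closure_induction with
  | mem x hx =>
    rcases hx with rfl | rfl
    · exact ⟨1, 0, by simp⟩
    · exact ⟨0, 1, by simp⟩
  | one => exact ⟨0, 0, by simp⟩
  | mul x y _ _ h1 h2 =>
    obtain ⟨i, j, rfl⟩ := h1
    obtain ⟨i', j', rfl⟩ := h2
    have h3 : a ^ (i : ℕ) * b ^ (j : ℕ) * (a ^ (i' : ℕ) * b ^ (j' : ℕ)) = a ^ ((i : ℕ) + i') * b ^ ((j : ℕ) + j') := by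
      rw [pow_add, pow_add, mul_assoc, ← mul_assoc (b ^ (j : ℕ)), ← (hc.pow_pow (i' : ℕ) (j : ℕ)).eq]
      simp only [mul_assoc]
    rw [h3]
    exact key _ _
  | inv x _ h1 =>
    obtain ⟨i, j, rfl⟩ := h1
    have h3 : (a ^ (i : ℕ) * b ^ (j : ℕ))⁻¹ = a ^ (2 * (i : ℕ)) * b ^ (2 * (j : ℕ)) := by
      rw [inv_eq_iff_mul_eq_one]
      have h4 : a ^ (i : ℕ) * b ^ (j : ℕ) * (a ^ (2 * (i : ℕ)) * b ^ (2 * (j : ℕ))) =
          a ^ (3 * (i : ℕ)) * b ^ (3 * (j : ℕ)) := by
        rw [mul_assoc, ← mul_assoc (b ^ (j : ℕ)), ← (hc.pow_pow (2 * (i : ℕ)) (j : ℕ)).eq, mul_assoc, ← mul_assoc,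
          ← pow_add, ← pow_add]
        congr 2 <;> ring
      rw [h4, pow_mul, pow_mul, ha, hb, one_pow, one_pow, one_mul]
    rw [h3]
    exact key _ _

theorem card_pair_le [Finite X] (hab : a * b = b * a) (ha : a ^ 3 = 1) (hb : b ^ 3 = 1) :
    Nat.card (closure ({a, b} : Set X)) ≤ 9 := by
  have hsub : ∀ x : closure ({a, b} : Set X), ∃ ij : Fin 3 × Fin 3, (x : X) = a ^ (ij.1 : ℕ) * b ^ (ij.2 : ℕ) := by
    rintro ⟨x, hx⟩
    obtain ⟨i, j, h⟩ := mem_pair hab ha hb hx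
    exact ⟨(i, j), h⟩
  choose f hf using hsub
  have h1 : Function.Injective f := by
    intro x y hxy
    apply Subtype.ext
    rw [hf x, hf y, hxy]
  have h2 := Nat.card_le_card_of_injective f h1
  rw [Nat.card_eq_fintype_card (α := Fin 3 × Fin 3)] at h2
  exact h2

/-- A subgroup containing a nonidentity element of `⟨a, b⟩` contains `a`, `b`, `ab` or `ab⁻¹`. -/
theorem cases_pair (hab : a * b = b * a) (ha : a ^ 3 = 1) (hb : b ^ 3 = 1) {N : Subgroup X} {x : X}
    (hx : x ∈ closure ({a, b} : Set X)) (hx1 : x ≠ 1) (hxN : x ∈ N) : a ∈ N ∨ b ∈ N ∨ a * b ∈ N ∨ a * b⁻¹ ∈ N := by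
  have hc : Commute a b := hab
  have ha' : a * a * a = 1 := by rw [← ha, pow_succ, pow_two]
  have hb' : b * b * b = 1 := by rw [← hb, pow_succ, pow_two]
  have hai : a⁻¹ = a * a := inv_eq_of_mul_eq_one_left ha'
  have hbi : b⁻¹ = b * b := inv_eq_of_mul_eq_one_left hb'
  obtain ⟨i, j, rfl⟩ := mem_pair hab ha hb hx
  fin_cases i <;> fin_cases j
  · exact absurd (by simp) hx1
  · right; left; simpa using hxN
  · right; left
    have h1 : b⁻¹ ∈ N := by rw [hbi]; simpa [pow_two] using hxN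
    exact (inv_mem_iff).1 h1
  · left; simpa using hxN
  · right; right; left; simpa using hxN
  · right; right; right
    rw [hbi]; simpa [pow_two] using hxN
  · left
    have h1 : a⁻¹ ∈ N := by rw [hai]; simpa [pow_two] using hxN
    exact (inv_mem_iff).1 h1
  · right; right; right
    have h1 : (a * b⁻¹)⁻¹ ∈ N := by
      have h2 : (a * b⁻¹)⁻¹ = a⁻¹ * b := by rw [mul_inv_rev, inv_inv]; exact hc.inv_left.eq.symm
      rw [h2, hai]; simpa [pow_two] using hxN
    exact (inv_mem_iff).1 h1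
  · right; right; left
    have h1 : (a * b)⁻¹ ∈ N := by
      have h2 : (a * b)⁻¹ = a⁻¹ * b⁻¹ := by rw [hab, mul_inv_rev]
      rw [h2, hai, hbi]; simpa [pow_two] using hxN
    exact (inv_mem_iff).1 h1

end Pair

/-! ### The words -/

/-- `y₁ = ef` -/
def g0 : List Gen := [.e, .f]
/-- `y₂ = e g e g⁻¹` -/
def g1 : List Gen := [.e, .g, .e, .g, .g, .g]
/-- `y₁^d` -/
def g2 : List Gen := [.d, .e, .f, .d]
/-- `y₂^d` -/
def g3 : List Gen := [.d, .e, .g, .e, .g, .g, .g, .d]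

/-- conjugate of a word -/
def cw (u l : List Gen) : List Gen := u ++ (l ++ iw u)

/-- `⟨x₁, x₂⟩` -/
def E : Subgroup ON := closure {w x₁, w x₂}
/-- `⟨y₁, y₂⟩` -/
def F : Subgroup ON := closure {w g0, w g1}
/-- `⟨F, F^d⟩` -/
def A : Subgroup ON := closure {w g0, w g1, w g2, w g3}
/-- an element of order 5 of `A` -/
def y : ON := w (g1 ++ g3)

theorem g0_eq : w g0 = w s * w t₁ := by rw [← w_append]; rfl
theorem g1_eq : w g1 = w s * w t₂ := by rw [← w_append]; rfl
theorem g2_eq : w g2 = w [.d] * (w g0 * w [.d]) := by rw [← w_append, ← w_append]; rfl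
theorem g3_eq : w g3 = w [.d] * (w g1 * w [.d]) := by rw [← w_append, ← w_append]; rfl

section

variable (hs : IsSimpleGroup ON)

include hs

theorem w_cw (u l : List Gen) : w (cw u l) = w u * w l * (w u)⁻¹ := by
  rw [cw, w_append, w_append, w_iw hs, mul_assoc]

theorem dd : w [.d] * w [.d] = 1 := by
  rw [← w_append]; exact rel hs _ (by decide +kernel)

theorem x1d : w x₁ * w [.d] = w [.d] * w x₁ := by
  rw [← w_append, ← w_append]; exact eqw hs _ _ (by decide +kernel)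

theorem x2d : w x₂ * w [.d] = w [.d] * w x₂ := by
  rw [← w_append, ← w_append]; exact eqw hs _ _ (by decide +kernel)

theorem g01 : w g0 * w g1 = w g1 * w g0 := by
  rw [g0_eq, g1_eq]; exact yy hs

theorem cube_g0 : w g0 ^ 3 = 1 := by
  rw [pow_succ, pow_two, ← w_append, ← w_append]; exact rel hs _ (by decide +kernel)

theorem cube_g1 : w g1 ^ 3 = 1 := by
  rw [pow_succ, pow_two, ← w_append, ← w_append]; exact rel hs _ (by decide +kernel)

theorem d_inv : (w [.d])⁻¹ = w [.d] := inv_eq_of_mul_eq_one_left (dd hs)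

theorem cube_g2 : w g2 ^ 3 = 1 := by
  have h1 : w g2 = w [.d] * w g0 * (w [.d])⁻¹ := by rw [g2_eq, d_inv hs, mul_assoc]
  rw [h1, conj_pow, cube_g0 hs, mul_one, mul_inv_cancel]

theorem cube_g3 : w g3 ^ 3 = 1 := by
  have h1 : w g3 = w [.d] * w g1 * (w [.d])⁻¹ := by rw [g3_eq, d_inv hs, mul_assoc]
  rw [h1, conj_pow, cube_g1 hs, mul_one, mul_inv_cancel]

private noncomputable def _root_.Cfsg.Agent.LsF.f00ed84_0 : {f // @Cfsg.Agent.Lib.PackMat.rep = f} := ⟨_, by first | (delta Cfsg.Agent.Lib.PackMat.rep; rewrite [Cfsg.Agent.LsF.nmul_pat, Cfsg.Agent.LsF.nsub_pat, Cfsg.Agent.LsF.ndiv_pat, Cfsg.Agent.LsF.npow_pat]; exact rfl) | exact rfl⟩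
private noncomputable def _root_.Cfsg.Agent.LsF.f00ed84_1 : {f // @Cfsg.Agent.Lib.PackMat.gmask = f} := ⟨_, by first | (delta Cfsg.Agent.Lib.PackMat.gmask; rewrite [Cfsg.Agent.LsF.f00ed84_0.2, Cfsg.Agent.LsF.nmul_pat, Cfsg.Agent.LsF.nsub_pat, Cfsg.Agent.LsF.npow_pat]; exact rfl) | exact rfl⟩
private noncomputable def _root_.Cfsg.Agent.LsF.f00ed84_2 : {f // @Cfsg.Agent.Lib.PackMat.GMc = f} := ⟨_, by first | (delta Cfsg.Agent.Lib.PackMat.GMc; rewrite [Cfsg.Agent.LsF.f00ed84_1.2]; exact rfl) | exact rfl⟩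
private noncomputable def _root_.Cfsg.Agent.LsF.f00ed84_3 : {f // @Cfsg.Agent.Lib.PackMat.FMc = f} := ⟨_, by first | (delta Cfsg.Agent.Lib.PackMat.FMc; rewrite [Cfsg.Agent.LsF.nadd_pat, Cfsg.Agent.LsF.nmul_pat, Cfsg.Agent.LsF.nsub_pat, Cfsg.Agent.LsF.npow_pat]; exact rfl) | exact rfl⟩
private noncomputable def _root_.Cfsg.Agent.LsF.f00ed84_4 : {f // @Cfsg.Agent.Lib.PackMat.LOc = f} := ⟨_, by first | (delta Cfsg.Agent.Lib.PackMat.LOc; rewrite [Cfsg.Agent.LsF.f00ed84_0.2, Cfsg.Agent.LsF.nmul_pat, Cfsg.Agent.LsF.nsub_pat, Cfsg.Agent.LsF.npow_pat]; exact rfl) | exact rfl⟩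
private noncomputable def _root_.Cfsg.Agent.LsF.f00ed84_5 : {f // @Cfsg.Agent.Lib.PackMat.HIc = f} := ⟨_, by first | (delta Cfsg.Agent.Lib.PackMat.HIc; rewrite [Cfsg.Agent.LsF.f00ed84_0.2, Cfsg.Agent.LsF.nmul_pat, Cfsg.Agent.LsF.nsub_pat, Cfsg.Agent.LsF.npow_pat]; exact rfl) | exact rfl⟩
private noncomputable def _root_.Cfsg.Agent.LsF.f00ed84_6 : {f // @Cfsg.Agent.Lib.PackMat.HTc = f} := ⟨_, by first | (delta Cfsg.Agent.Lib.PackMat.HTc; rewrite [Cfsg.Agent.LsF.f00ed84_0.2, Cfsg.Agent.LsF.nmul_pat, Cfsg.Agent.LsF.nsub_pat, Cfsg.Agent.LsF.npow_pat]; exact rfl) | exact rfl⟩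
private noncomputable def _root_.Cfsg.Agent.LsF.f00ed84_7 : {f // @Cfsg.Agent.Lib.PackMat.withC = f} := ⟨_, by first | (delta Cfsg.Agent.Lib.PackMat.withC; rewrite [Cfsg.Agent.LsF.f00ed84_2.2, Cfsg.Agent.LsF.f00ed84_3.2, Cfsg.Agent.LsF.f00ed84_4.2, Cfsg.Agent.LsF.f00ed84_5.2, Cfsg.Agent.LsF.f00ed84_6.2]; exact rfl) | exact rfl⟩
private noncomputable def _root_.Cfsg.Agent.LsF.f00ed84_8 : {f // @Cfsg.Agent.Lib.PackMat.unitRow = f} := ⟨_, by first | (delta Cfsg.Agent.Lib.PackMat.unitRow; rewrite [Cfsg.Agent.LsF.nmul_pat, Cfsg.Agent.LsF.nsub_pat, Cfsg.Agent.LsF.npow_pat]; exact rfl) | exact rfl⟩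
private noncomputable def _root_.Cfsg.Agent.LsF.f00ed84_9 : {f // @Cfsg.Agent.Lib.PackMat.foldK = f} := ⟨_, by first | (delta Cfsg.Agent.Lib.PackMat.foldK Nat.brecOn.go Nat.brecOn Cfsg.Agent.Lib.PackMat.foldK._f; (try delta Cfsg.Agent.Lib.PackMat.foldBoundIter.match_1); (try delta Nat.casesOn); first | dsimp -zeta only | exact rfl) | exact rfl⟩
private noncomputable def _root_.Cfsg.Agent.LsF.f00ed84_10 : {f // @Cfsg.Agent.Lib.PackMat.stepK = f} := ⟨_, by first | (delta Cfsg.Agent.Lib.PackMat.stepK; rewrite [Cfsg.Agent.LsF.f00ed84_9.2]; exact rfl) | exact rfl⟩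
private noncomputable def _root_.Cfsg.Agent.LsF.f00ed84_11 : {f // @Cfsg.Agent.Lib.PackMat.runK = f} := ⟨_, by first | (delta Cfsg.Agent.Lib.PackMat.runK List.brecOn List.brecOn.go Cfsg.Agent.Lib.PackMat.runK._f; rewrite [Cfsg.Agent.LsF.f00ed84_10.2]; (try delta Cfsg.Agent.Lib.PackMat.runK.match_1); (try delta List.casesOn); first | dsimp -zeta only | exact rfl) | exact rfl⟩
private noncomputable def _root_.Cfsg.Agent.LsF.f00ed84_12 : {f // @Cfsg.Agent.Lib.PackMat.checkScalarK = f} := ⟨_, by first | (delta Cfsg.Agent.Lib.PackMat.checkScalarK Cfsg.Agent.Lib.PackMat.checkScalarK._f Nat.brecOn.go Nat.brecOn; rewrite [Cfsg.Agent.LsF.f00ed84_11.2, Cfsg.Agent.LsF.cond_eq]; (try delta Cfsg.Agent.Lib.PackMat.foldBoundIter.match_1); (try delta Nat.casesOn); first | dsimp -zeta only | exact rfl) | exact rfl⟩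
private noncomputable def _root_.Cfsg.Agent.LsF.f00ed84_13 : {f // @Cfsg.Agent.Lib.PackMat.checkScalar = f} := ⟨_, by first | (delta Cfsg.Agent.Lib.PackMat.checkScalar; rewrite [Cfsg.Agent.LsF.f00ed84_7.2, Cfsg.Agent.LsF.f00ed84_8.2, Cfsg.Agent.LsF.f00ed84_12.2, Cfsg.Agent.LsF.nadd_pat, Cfsg.Agent.LsF.cond_eq]; exact rfl) | exact rfl⟩
private noncomputable def _root_.Cfsg.Agent.LsF.f00ed84_14 : {f // @Cfsg.Agent.SporadicB.ON45Rels.gens = f} := ⟨_, by first | (delta Cfsg.Agent.SporadicB.ON45Rels.gens; (try delta Cfsg.Agent.SporadicB.ON45Rels.gens.match_1); (try rewrite [Cfsg.Agent.LsF.instDecEq_eq, Cfsg.Agent.LsF.dite_eq]); exact rfl) | exact rfl⟩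
private noncomputable def _root_.Cfsg.Agent.LsF.f00ed84_15 : {f // @Cfsg.Agent.SporadicB.ON45Word.gi = f} := ⟨_, by first | (delta Cfsg.Agent.SporadicB.ON45Word.gi; (try delta Cfsg.Agent.SporadicB.ON45Word.sl.match_1); (try delta Cfsg.Spor.ON.Gen.casesOn); exact rfl) | exact rfl⟩
private noncomputable def _root_.Cfsg.Agent.LsF.f00ed84_16 : {f // @Cfsg.Agent.KFacts.MulSpor.ON.mats = f} := ⟨_, by first | (delta Cfsg.Agent.KFacts.MulSpor.ON.mats; rewrite [Cfsg.Agent.LsF.f00ed84_14.2, Cfsg.Agent.LsF.f00ed84_15.2, Cfsg.Agent.LsF.map_eq]; exact rfl) | exact rfl⟩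
private noncomputable def _root_.Cfsg.Agent.LsF.f00ed84_17 : {f // @Cfsg.Agent.KFacts.MulSpor.ON.okw = f} := ⟨_, by first | (delta Cfsg.Agent.KFacts.MulSpor.ON.okw; rewrite [Cfsg.Agent.LsF.f00ed84_13.2, Cfsg.Agent.LsF.f00ed84_16.2, Cfsg.Agent.LsF.or_eq]; exact rfl) | exact rfl⟩
theorem y_five : y ^ 5 = 1 := by
  have h1 : y ^ 5 = w ((g1 ++ g3) ++ ((g1 ++ g3) ++ ((g1 ++ g3) ++ ((g1 ++ g3) ++ (g1 ++ g3))))) := by
    rw [w_append (g1 ++ g3), w_append (g1 ++ g3), w_append (g1 ++ g3), w_append (g1 ++ g3) (g1 ++ g3)]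
    simp only [y, pow_succ, pow_zero, one_mul, mul_assoc]
  rw [h1]; exact rel hs _ (by ((try (rewrite [Cfsg.Agent.LsF.f00ed84_17.2, Cfsg.Agent.LsF.lappend_pat])); decide +kernel))

/-! `y` in the normal closures -/

private noncomputable def _root_.Cfsg.Agent.LsF.f00ed84_18 : {f // @Cfsg.Agent.KFacts.MulSpor.ON.iw = f} := ⟨_, by first | (delta Cfsg.Agent.KFacts.MulSpor.ON.iw; rewrite [Cfsg.Agent.LsF.flatMap_eq, Cfsg.Agent.LsF.reverse_eq]; (try delta Cfsg.Agent.KFacts.MulSpor.ON.iw.match_1); (try delta Cfsg.Agent.KFacts.MulSpor.ON.iw._sparseCasesOn_1); exact rfl) | exact rfl⟩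
private noncomputable def _root_.Cfsg.Agent.LsF.f00ed84_19 : {f // @Cfsg.Agent.PreUniq.Spor.ONP.cw = f} := ⟨_, by first | (delta Cfsg.Agent.PreUniq.Spor.ONP.cw; rewrite [Cfsg.Agent.LsF.f00ed84_18.2, Cfsg.Agent.LsF.lappend_pat]; exact rfl) | exact rfl⟩
theorem y0 : y = (w (g1 ++ g2) * w g0 * (w (g1 ++ g2))⁻¹) * (w g2 * (w g0)⁻¹ * (w g2)⁻¹) := by
  rw [← w_iw hs g0, ← w_cw hs, ← w_cw hs, ← w_append]
  exact eqw hs _ _ (by ((try (rewrite [Cfsg.Agent.LsF.f00ed84_17.2, Cfsg.Agent.LsF.f00ed84_18.2, Cfsg.Agent.LsF.f00ed84_19.2, Cfsg.Agent.LsF.lappend_pat])); decide +kernel))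

theorem y1 : y = w g1 * (w (g0 ++ (g0 ++ g2)) * (w g1)⁻¹ * (w (g0 ++ (g0 ++ g2)))⁻¹) := by
  rw [← w_iw hs g1, ← w_cw hs, ← w_append]
  exact eqw hs _ _ (by ((try (rewrite [Cfsg.Agent.LsF.f00ed84_17.2, Cfsg.Agent.LsF.f00ed84_18.2, Cfsg.Agent.LsF.f00ed84_19.2, Cfsg.Agent.LsF.lappend_pat])); decide +kernel))

theorem y2 : y = (w g3 * w (g0 ++ g1) * (w g3)⁻¹) *
    (w (g1 ++ (g1 ++ g3)) * (w (g0 ++ g1))⁻¹ * (w (g1 ++ (g1 ++ g3)))⁻¹) := by
  rw [← w_iw hs (g0 ++ g1), ← w_cw hs, ← w_cw hs, ← w_append]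
  exact eqw hs _ _ (by ((try (rewrite [Cfsg.Agent.LsF.f00ed84_17.2, Cfsg.Agent.LsF.f00ed84_18.2, Cfsg.Agent.LsF.f00ed84_19.2, Cfsg.Agent.LsF.lappend_pat])); decide +kernel))

theorem y3 : y = (w (g2 ++ g3) * (w (g0 ++ iw g1))⁻¹ * (w (g2 ++ g3))⁻¹) *
    (w (g0 ++ g3) * w (g0 ++ iw g1) * (w (g0 ++ g3))⁻¹) := by
  rw [← w_iw hs (g0 ++ iw g1), ← w_cw hs, ← w_cw hs, ← w_append]
  exact eqw hs _ _ (by ((try (rewrite [Cfsg.Agent.LsF.f00ed84_17.2, Cfsg.Agent.LsF.f00ed84_18.2, Cfsg.Agent.LsF.f00ed84_19.2, Cfsg.Agent.LsF.lappend_pat])); decide +kernel))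

/-! `y₁`, `y₂` in the normal closure of `y` -/

theorem z0 : w g0 = y⁻¹ * (w g0 * y⁻¹ * (w g0)⁻¹) := by
  have h1 : y⁻¹ = w (iw (g1 ++ g3)) := (w_iw hs _).symm
  rw [h1, ← w_cw hs, ← w_append]
  exact eqw hs _ _ (by ((try (rewrite [Cfsg.Agent.LsF.f00ed84_17.2, Cfsg.Agent.LsF.f00ed84_18.2, Cfsg.Agent.LsF.f00ed84_19.2, Cfsg.Agent.LsF.lappend_pat])); decide +kernel))

theorem z1 : w g1 = (w (g3 ++ g3) * y⁻¹ * (w (g3 ++ g3))⁻¹) * (w (g3 ++ g1) * y * (w (g3 ++ g1))⁻¹) := by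
  have h1 : y⁻¹ = w (iw (g1 ++ g3)) := (w_iw hs _).symm
  have h2 : y = w (g1 ++ g3) := rfl
  rw [h1, h2, ← w_cw hs, ← w_cw hs, ← w_append]
  exact eqw hs _ _ (by ((try (rewrite [Cfsg.Agent.LsF.f00ed84_17.2, Cfsg.Agent.LsF.f00ed84_18.2, Cfsg.Agent.LsF.f00ed84_19.2, Cfsg.Agent.LsF.lappend_pat])); decide +kernel))

/-! ### The subgroups -/

theorem x_comm : ∀ a ∈ ({w x₁, w x₂} : Set ON), ∀ b ∈ ({w x₁, w x₂} : Set ON), a * b = b * a := by
  rintro a (rfl | rfl) b (rfl | rfl)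
  · rfl
  · exact x12 hs
  · exact (x12 hs).symm
  · rfl

theorem x_cube : ∀ a ∈ ({w x₁, w x₂} : Set ON), a ^ 3 = 1 := by
  rintro a (rfl | rfl)
  · exact cube1 hs
  · exact cube2 hs

theorem g_comm : ∀ a ∈ ({w g0, w g1} : Set ON), ∀ b ∈ ({w g0, w g1} : Set ON), a * b = b * a := by
  rintro a (rfl | rfl) b (rfl | rfl)
  · rfl
  · exact g01 hs
  · exact (g01 hs).symm
  · rfl

theorem g_cube : ∀ a ∈ ({w g0, w g1} : Set ON), a ^ 3 = 1 := by
  rintro a (rfl | rfl)
  · exact cube_g0 hs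
  · exact cube_g1 hs

/-- `k` maps `F` onto `E`. -/
theorem k_map : F.map (MulAut.conj (w k)).toMonoidHom = E := by
  have h1 : w k * w g0 * (w k)⁻¹ = w x₁ := by rw [g0_eq]; exact k1 hs
  have h2 : w k * w g1 * (w k)⁻¹ = w x₁ * w x₂ := by rw [g1_eq]; exact k2 hs
  rw [F, E, MonoidHom.map_closure, Set.image_pair]
  change closure {w k * w g0 * (w k)⁻¹, w k * w g1 * (w k)⁻¹} = _
  rw [h1, h2]
  apply le_antisymm
  · rw [closure_le]
    rintro _ (rfl | rfl)
    · exact subset_closure (by simp)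
    · exact mul_mem (subset_closure (by simp)) (subset_closure (by simp))
  · rw [closure_le]
    rintro _ (rfl | rfl)
    · exact subset_closure (by simp)
    · have h3 : w x₂ = (w x₁)⁻¹ * (w x₁ * w x₂) := by group
      rw [h3]
      exact mul_mem (inv_mem (subset_closure (by simp))) (subset_closure (by simp))

theorem sup_eq : E ⊔ F = P := by
  rw [E, F, P, ← Subgroup.closure_union]
  congr 1
  rw [g0_eq, g1_eq]
  ext x
  simp only [Set.mem_union, Set.mem_insert_iff, Set.mem_singleton_iff]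
  tauto

/-- `A` centralizes `E`. -/
theorem A_le : A ≤ centralizer (E : Set ON) := by
  rw [E, centralizer_closure]
  have hx : ∀ {z : ON}, w x₁ * z = z * w x₁ → w x₂ * z = z * w x₂ →
      z ∈ centralizer ({w x₁, w x₂} : Set ON) := by
    intro z h1 h2
    rw [mem_centralizer_iff]
    rintro _ (rfl | rfl)
    · exact h1
    · exact h2
  have hsm := hx (x1s hs) (x2s hs)
  have ht1 := hx (x1t1 hs) (x2t1 hs)
  have ht2 := hx (x1t2 hs) (x2t2 hs)
  have hd := hx (x1d hs) (x2d hs)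
  have h0 : w g0 ∈ centralizer ({w x₁, w x₂} : Set ON) := by rw [g0_eq]; exact mul_mem hsm ht1
  have h1 : w g1 ∈ centralizer ({w x₁, w x₂} : Set ON) := by rw [g1_eq]; exact mul_mem hsm ht2
  rw [A, closure_le]
  rintro _ (rfl | rfl | rfl | rfl)
  · exact h0
  · exact h1
  · rw [g2_eq]; exact mul_mem hd (mul_mem h0 hd)
  · rw [g3_eq]; exact mul_mem hd (mul_mem h1 hd)

variable [Finite ON]

theorem isPGroup_E : IsPGroup 3 E := isPGroup_closure (x_comm hs) (x_cube hs)

theorem isPGroup_F : IsPGroup 3 F := isPGroup_closure (g_comm hs) (g_cube hs)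

theorem card_EF : Nat.card E = Nat.card F := by
  rw [← k_map hs]
  exact (Nat.card_congr (Subgroup.equivMapOfInjective _ _ (MulAut.conj (w k)).injective).toEquiv).symm

theorem E_norm_F : E ≤ normalizer (F : Set ON) := by
  intro e he
  have h4 : ∀ f ∈ F, ∀ e ∈ E, e * f * e⁻¹ = f := fun f hf e he => by
    have hfA : f ∈ A := closure_mono (by intro z hz; rcases hz with rfl | rfl <;> simp) hf
    rw [mem_centralizer_iff.1 (A_le hs hfA) e he, mul_inv_cancel_right]
  refine Std.mem_normalizer_of_conj (fun f hf => by rw [h4 f hf e he]; exact hf) fun f hf => ?_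
  have h1 := h4 f hf e⁻¹ (inv_mem he)
  rw [inv_inv] at h1
  rw [h1]; exact hf

theorem card_E : Nat.card E = 3 ^ 2 := by
  have h1 : Nat.card E ≤ 9 := card_pair_le (x12 hs) (cube1 hs) (cube2 hs)
  obtain ⟨n, hn⟩ := (isPGroup_E hs).exists_card_eq
  have h2 := Nat.le_of_dvd Nat.card_pos (card_dvd hs)
  rw [← sup_eq hs] at h2
  have h3 : Nat.card (E ⊔ F : Subgroup ON) ≤ Nat.card E * Nat.card F := by
    rw [← Nat.card_prod]
    refine Nat.card_le_card_of_surjective (fun x : E × F => (⟨(x.1 : ON) * x.2,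
      mul_mem ((le_sup_left : E ≤ E ⊔ F) x.1.2) ((le_sup_right : F ≤ E ⊔ F) x.2.2)⟩ : ↥(E ⊔ F))) ?_
    rintro ⟨x, hx⟩
    obtain ⟨e, he, f, hf, rfl⟩ := Core.mem_sup_of_le_normalizer (E_norm_F hs) hx
    exact ⟨(⟨e, he⟩, ⟨f, hf⟩), rfl⟩
  rw [← card_EF hs, hn] at h3
  rw [hn] at h1 ⊢
  have h7 : n ≤ 2 := by
    by_contra hcon
    have : 3 ^ 3 ≤ 3 ^ n := Nat.pow_le_pow_right (by norm_num) (by omega)
    omega
  interval_cases n
  · omega
  · omega
  · rfl

theorem sup_comm' : ∀ a ∈ E ⊔ F, ∀ b ∈ E ⊔ F, a * b = b * a := by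
  intro a ha b hb
  obtain ⟨e, he, f, hf, rfl⟩ := Core.mem_sup_of_le_normalizer (E_norm_F hs) ha
  obtain ⟨e', he', f', hf', rfl⟩ := Core.mem_sup_of_le_normalizer (E_norm_F hs) hb
  have hFA : F ≤ A := closure_mono (by intro z hz; rcases hz with rfl | rfl <;> simp)
  have h1 : Commute e e' := closure_comm (x_comm hs) he he'
  have h2 : Commute f f' := closure_comm (g_comm hs) hf hf'
  have h3 : Commute e f' := mem_centralizer_iff.1 (A_le hs (hFA hf')) e he
  have h4 : Commute e' f := mem_centralizer_iff.1 (A_le hs (hFA hf)) e' he'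
  exact ((h1.mul_right h3).mul_left (h4.symm.mul_right h2)).eq

theorem isPGroup_sup : IsPGroup 3 (E ⊔ F : Subgroup ON) :=
  have : Fact (Nat.Prime 3) := ⟨Nat.prime_three⟩
  IsPGroup.to_sup_of_normal_right' (isPGroup_E hs) (isPGroup_F hs) (E_norm_F hs)

end

theorem mem_A0 : w g0 ∈ A := subset_closure (by simp)
theorem mem_A1 : w g1 ∈ A := subset_closure (by simp)
theorem mem_A2 : w g2 ∈ A := subset_closure (by simp)
theorem mem_A3 : w g3 ∈ A := subset_closure (by simp)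
theorem mem_app {l m : List Gen} (hl : w l ∈ A) (hm : w m ∈ A) : w (l ++ m) ∈ A := by
  rw [w_append]
  exact mul_mem hl hm

theorem isElementaryAbelian_E (hs : IsSimpleGroup ON) : IsElementaryAbelian 3 E :=
  ⟨⟨⟨fun a b => Subtype.ext (closure_comm (x_comm hs) a.2 b.2)⟩⟩, fun _ ha => closure_cube (x_comm hs) (x_cube hs) ha⟩

theorem trio (hON : Cfsg.IsON ON) [Finite ON] : Std.Trio 3 E F A y := by
  have hs := hON.1
  have hp : Fact (Nat.Prime 3) := ⟨Nat.prime_three⟩
  have hFA : F ≤ A := closure_mono (by intro z hz; rcases hz with rfl | rfl <;> simp)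
  refine { FA := hFA, AC := A_le hs, gen := ?_, Fp := isPGroup_F hs, idx := ?_, ab := ?_, yA := ?_, simp1 := ?_,
           simp2 := ?_ }
  · conv_lhs => rw [A]
    rw [closure_le]
    rintro _ (rfl | rfl | rfl | rfl)
    · exact subset_closure ⟨mem_A0, 1, by rw [pow_one]; exact cube_g0 hs⟩
    · exact subset_closure ⟨mem_A1, 1, by rw [pow_one]; exact cube_g1 hs⟩
    · exact subset_closure ⟨mem_A2, 1, by rw [pow_one]; exact cube_g2 hs⟩
    · exact subset_closure ⟨mem_A3, 1, by rw [pow_one]; exact cube_g3 hs⟩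
  · intro h3
    have h1 := card_dvd hs
    rw [← sup_eq hs] at h1
    have hle : E ⊔ F ≤ centralizer (E : Set ON) := by
      refine sup_le (fun a ha => mem_centralizer_iff.2 fun b hb => ?_) (hFA.trans (A_le hs))
      exact closure_comm (x_comm hs) hb ha
    have h2 := card_mul_relIndex hle
    have h4 : 81 * 3 ∣ Nat.card ON := by
      refine (mul_dvd_mul h1 h3).trans ?_
      rw [h2]
      exact card_subgroup_dvd_card _
    rw [hON.2] at h4
    omega
  · intro T _ hT a ha b hb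
    have h1 : ¬ 3 ∣ (E ⊔ F).index := by
      rw [sup_eq hs]
      exact Cfsg.Agent.CpQuot.ONThree.not_dvd_index hON
    obtain ⟨c, hc⟩ := exists_conj_le ((isPGroup_sup hs).toSylow h1) hT
    have h2 : c * a * c⁻¹ ∈ E ⊔ F := hc a ha
    have h3 : c * b * c⁻¹ ∈ E ⊔ F := hc b hb
    have h4 := sup_comm' hs _ h2 _ h3
    have h5 : a * b = c⁻¹ * (c * a * c⁻¹ * (c * b * c⁻¹)) * c := by group
    rw [h5, h4]
    group
  · exact mem_app mem_A1 mem_A3
  · intro N _ hAN hf
    obtain ⟨f, hf, hf1, hfN⟩ := hf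
    have hc : ∀ {a n : ON}, a ∈ A → n ∈ N → a * n * a⁻¹ ∈ N := fun ha hn =>
      (mem_normalizer_iff.1 (hAN ha) _).1 hn
    rcases cases_pair (g01 hs) (cube_g0 hs) (cube_g1 hs) hf hf1 hfN with h | h | h | h
    · rw [y0 hs]
      exact mul_mem (hc (mem_app mem_A1 mem_A2) h) (hc mem_A2 (inv_mem h))
    · rw [y1 hs]
      exact mul_mem h (hc (mem_app mem_A0 (mem_app mem_A0 mem_A2)) (inv_mem h))
    · rw [← w_append] at h
      rw [y2 hs]
      exact mul_mem (hc mem_A3 h) (hc (mem_app mem_A1 (mem_app mem_A1 mem_A3)) (inv_mem h))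
    · rw [← w_iw hs, ← w_append] at h
      rw [y3 hs]
      exact mul_mem (hc (mem_app mem_A2 mem_A3) (inv_mem h)) (hc (mem_app mem_A0 mem_A3) h)
  · intro N _ hAN hy
    have hc : ∀ {a n : ON}, a ∈ A → n ∈ N → a * n * a⁻¹ ∈ N := fun ha hn =>
      (mem_normalizer_iff.1 (hAN ha) _).1 hn
    rw [F, closure_le]
    rintro _ (rfl | rfl)
    · rw [SetLike.mem_coe, z0 hs]
      exact mul_mem (inv_mem hy) (hc mem_A0 (inv_mem hy))
    · rw [SetLike.mem_coe, z1 hs]
      exact mul_mem (hc (mem_app mem_A3 mem_A3) (inv_mem hy)) (hc (mem_app mem_A3 mem_A1) hy)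

/-- Two subgroups of order `p ^ n` are conjugate if `p ^ (n + 1)` does not divide the order of the group. -/
theorem exists_conj_of_card {C : Type*} [Group C] [Finite C] {p n : ℕ} [hp : Fact p.Prime] {A B : Subgroup C}
    (hA : Nat.card A = p ^ n) (hB : Nat.card B = p ^ n) (hn : ¬ p ^ (n + 1) ∣ Nat.card C) :
    ∃ c : C, ∀ a ∈ A, ∃ b ∈ B, c * b * c⁻¹ = a := by
  have hBp : IsPGroup p B := IsPGroup.of_card hB
  have hidx : ¬ p ∣ B.index := by
    intro h
    apply hn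
    rw [pow_succ, ← hB, ← B.card_mul_index]
    exact mul_dvd_mul_left _ h
  obtain ⟨c, hc⟩ := exists_conj_le (hBp.toSylow hidx) (IsPGroup.of_card hA)
  have hc' : ∀ a ∈ A, c * a * c⁻¹ ∈ B := hc
  refine ⟨c⁻¹, fun a ha => ⟨c * a * c⁻¹, hc' a ha, by group⟩⟩

/-- **The O'Nan group at `p = 3`.** -/
theorem stdPre_three (hON : Cfsg.IsON ON) [Finite ON]
    (hone : ∀ z : ON, orderOf z = 2 → IsConj z (w [.f]))
    (hcard : Nat.card (centralizer ({w [.f]} : Set ON)) = 161280) : StdPre 3 ON := by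
  have hs := hON.1
  have hp : Fact (Nat.Prime 3) := ⟨Nat.prime_three⟩
  have hE1 : E ≠ ⊥ := by
    intro h
    have h1 := card_E hs
    rw [h, card_bot] at h1
    omega
  have hEa := isElementaryAbelian_E hs
  have hEab : ∀ a ∈ E, ∀ b ∈ E, a * b = b * a := fun a ha b hb => closure_comm (x_comm hs) ha hb
  refine Std.stdPre_of E (fun M K hMK hE => ?_) fun M K hMK E' hE' hEa' hEc' => ?_
  · have h1 := (trio hON).isStandardWrt hMK.1 hE (isPGroup_E hs) hE1 hEab Nat.prime_five (y_five hs) (by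
      rw [hON.2]; norm_num)
    refine ⟨h1, (trio hON).not_ctrlTwo hMK.1 hE hEa (card_E hs) h1 (g := (w k)⁻¹) fun e he => ?_⟩
    rw [← k_map hs] at he
    obtain ⟨f, hf, rfl⟩ := he
    change (w k)⁻¹ * (w k * f * (w k)⁻¹) * (w k)⁻¹⁻¹ ∈ F
    have h2 : (w k)⁻¹ * (w k * f * (w k)⁻¹) * (w k)⁻¹⁻¹ = f := by group
    rwa [h2]
  · obtain ⟨L, T, z, hc⟩ := exists_conf (by norm_num) hMK.1.2.1 hMK.1.2.2.1 hE' (IsPGroup.of_card hEc')
    obtain ⟨c, hcz⟩ := isConj_iff.1 (hone z hc.z2)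
    -- `E'^c ≤ C(f)`
    have hzE : ∀ e ∈ E', e * z = z * e := fun e he => mem_centralizer_iff.1 (hc.T_le hc.zT).2 e he
    set C := centralizer ({w [.f]} : Set ON) with hC
    have h1 : E'.map (MulAut.conj c).toMonoidHom ≤ C := by
      rintro _ ⟨e, he, rfl⟩
      rw [hC, mem_centralizer_singleton_iff, ← hcz]
      change c * e * c⁻¹ * (c * z * c⁻¹) = c * z * c⁻¹ * (c * e * c⁻¹)
      have h2 : c * e * c⁻¹ * (c * z * c⁻¹) = c * (e * z) * c⁻¹ := by group
      rw [h2, hzE e he]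
      group
    have h2 : E ≤ C := by
      rw [E, closure_le]
      rintro _ (rfl | rfl)
      · exact mem_centralizer_singleton_iff.2 (x1t1 hs)
      · exact mem_centralizer_singleton_iff.2 (x2t1 hs)
    have h3 : Nat.card (E.subgroupOf C) = 3 ^ 2 := by
      rw [← card_E hs]
      exact Nat.card_congr (subgroupOfEquivOfLe h2).toEquiv
    have h4 : Nat.card ((E'.map (MulAut.conj c).toMonoidHom).subgroupOf C) = 3 ^ 2 := by
      rw [← hEc']
      exact (Nat.card_congr (subgroupOfEquivOfLe h1).toEquiv).trans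
        (Nat.card_congr (Subgroup.equivMapOfInjective _ _ (MulAut.conj c).injective).toEquiv).symm
    obtain ⟨d, hd⟩ := exists_conj_of_card h3 h4 (by rw [hcard]; norm_num)
    refine ⟨d * c, fun e he => ?_⟩
    obtain ⟨⟨b, hbC⟩, hb, hb2⟩ := hd ⟨e, h2 he⟩ he
    obtain ⟨e', he', rfl⟩ := hb
    refine ⟨e', he', ?_⟩
    have h5 : (d : ON) * (c * e' * c⁻¹) * (d : ON)⁻¹ = e := congrArg Subtype.val hb2
    rw [← h5]
    group

end Cfsg.Agent.PreUniq.Spor.ONP

end

-- merged: Cfsg.Agent.PreUniq.SporSuzWords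
section

/-!
# Preuniqueness: the Suzuki group at `p = 3`, words (helper2)

`E = ⟨x₁, x₂⟩` is a Sylow 3-subgroup of `L ≅ L₃(4)`; `C(E) = E × A`, `A = ⟨F, F^e⟩ ≅ A₆`, `F = ⟨g₀, g₁⟩`, `g₀` the element
of order 3 centralizing `L`. The words were found by computer.
-/

set_option autoImplicit false
set_option linter.unusedSectionVars false
set_option maxRecDepth 100000
set_option exponentiation.threshold 4000

namespace Cfsg.Agent.PreUniq.Spor.SuzP

open Subgroup
open Cfsg.Spor Cfsg.Agent.Lib.PermNet Cfsg.Agent.Lib.PermNetOrbit Cfsg.Agent.SporadicRecognition.SuzPhi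
  Cfsg.Agent.SporadicRecognition.SuzBound Cfsg.Agent.SporadicRecognition.SuzOrder
  Cfsg.Agent.SuzThree.Nets Cfsg.Agent.SuzThree.Basic Cfsg.Agent.SuzThree.Elts
  Cfsg.Agent.SuzThree.CentA Cfsg.Agent.SuzThree.CentB
  Cfsg.Agent.SuzThree.QZero Cfsg.Agent.KFacts.SuzCent Cfsg.Agent.KFacts.SuzLFour Cfsg.Agent.KFacts.SuzTwoB

/-! ### The words -/

def x1w : List Suz.Gen := [.a, .b, .a, .c, .b, .f, .g, .b]
def x2w : List Suz.Gen := [.f, .b, .a, .c, .b, .a, .b, .g, .f]
def g1w : List Suz.Gen := [.b, .f, .g, .b, .c, .d, .c, .d, .f, .b, .g, .f, .c, .b, .g, .c, .d, .a, .b, .c, .d]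
def g2w : List Suz.Gen := .e :: (w0 ++ ([.e] : List Cfsg.Spor.Suz.Gen))
def g3w : List Suz.Gen := .e :: (g1w ++ ([.e] : List Cfsg.Spor.Suz.Gen))

/-- conjugate of a word -/
def cw (u l : List Suz.Gen) : List Suz.Gen := u ++ (l ++ u.reverse)

theorem el_cw (u l : List Suz.Gen) : el (cw u l) = el u * el l * (el u)⁻¹ := by
  rw [cw, el_append, el_append, el_reverse, mul_assoc]

/-- the involutions `i₁`, `i₂` of `C(E)` -/
def i1w : List Suz.Gen := cw [.b, .a, .b, .f, .g, .b, .c] [.d]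
def i2w : List Suz.Gen := cw [.c, .g, .b, .f, .g, .b, .c] [.d]

/-- `⟨x₁, x₂⟩` -/
noncomputable def E : Subgroup Suz := closure {el x1w, el x2w}
/-- `⟨g₀, g₁⟩` -/
noncomputable def F : Subgroup Suz := closure {el w0, el g1w}
/-- `⟨F, F^e⟩` -/
noncomputable def A : Subgroup Suz := closure {el w0, el g1w, el g2w, el g3w}
/-- an element of order 5 of `A` -/
noncomputable def y : Suz := el (g2w ++ g1w)

theorem weq {v w : List Suz.Gen} (h : checkEq 11 (wd v) (wd w) = true) : el v = el w := eq_of h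

theorem one_of {w : List Suz.Gen} (h : checkEq 11 (wd w) [] = true) : el w = 1 := eq_of_reps (Rep.el _) Rep.one h

theorem cube_of {w : List Suz.Gen} (h : checkEq 11 (wd (w ++ (w ++ w))) [] = true) : el w ^ 3 = 1 := by
  rw [← one_of h, el_append, el_append, pow_succ, pow_two, mul_assoc]

theorem x1L : el x1w ∈ L := word_mem_L (by decide)
theorem x2L : el x2w ∈ L := word_mem_L (by decide)

theorem x12 : el x1w * el x2w = el x2w * el x1w := comm_of (by decide +kernel)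
theorem cube_x1 : el x1w ^ 3 = 1 := cube_of (by decide +kernel)
theorem cube_x2 : el x2w ^ 3 = 1 := cube_of (by decide +kernel)

theorem g2_eq : el g2w = e0 * el w0 * e0 := by
  show el (([.e] : List Cfsg.Spor.Suz.Gen) ++ (w0 ++ ([.e] : List Cfsg.Spor.Suz.Gen))) = _
  rw [el_append, el_append, ← mul_assoc]; rfl

theorem g3_eq : el g3w = e0 * el g1w * e0 := by
  show el (([.e] : List Cfsg.Spor.Suz.Gen) ++ (g1w ++ ([.e] : List Cfsg.Spor.Suz.Gen))) = _
  rw [el_append, el_append, ← mul_assoc]; rfl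

theorem e0_inv : e0⁻¹ = e0 := inv_eq_of_mul_eq_one_left e0_sq

theorem cube_g0 : el w0 ^ 3 = 1 := by
  rw [pow_succ, pow_two]; exact x0_cube

set_option Elab.async false in
theorem cube_g1 : el g1w ^ 3 = 1 := cube_of (by (rewrite [Cfsg.Agent.Lib.PermNetFast.checkEq_fast]; decide +kernel))

theorem cube_g2 : el g2w ^ 3 = 1 := by
  have h1 : el g2w = e0 * el w0 * e0⁻¹ := by rw [g2_eq, e0_inv]
  rw [h1, conj_pow, cube_g0, mul_one, mul_inv_cancel]

theorem cube_g3 : el g3w ^ 3 = 1 := by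
  have h1 : el g3w = e0 * el g1w * e0⁻¹ := by rw [g3_eq, e0_inv]
  rw [h1, conj_pow, cube_g1, mul_one, mul_inv_cancel]

set_option Elab.async false in
theorem g01 : el w0 * el g1w = el g1w * el w0 := comm_of (by (rewrite [Cfsg.Agent.Lib.PermNetFast.checkEq_fast]; decide +kernel))

set_option Elab.async false in
theorem y_five : y ^ 5 = 1 := by
  have h : el ((g2w ++ g1w) ++ ((g2w ++ g1w) ++ ((g2w ++ g1w) ++ ((g2w ++ g1w) ++ (g2w ++ g1w))))) = 1 :=
    one_of (by (rewrite [Cfsg.Agent.Lib.PermNetFast.checkEq_fast]; decide +kernel))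
  rw [el_append (g2w ++ g1w), el_append (g2w ++ g1w), el_append (g2w ++ g1w), el_append (g2w ++ g1w) (g2w ++ g1w)] at h
  simp only [y, pow_succ, pow_zero, one_mul, mul_assoc] at h ⊢
  exact h

/-! `y` in the normal closures -/

set_option Elab.async false in
theorem y0 : y = (el (g1w ++ g3w) * (el w0)⁻¹ * (el (g1w ++ g3w))⁻¹) *
    (el (g2w ++ g3w) * (el w0)⁻¹ * (el (g2w ++ g3w))⁻¹) := by
  rw [← el_reverse w0, ← el_cw, ← el_cw, ← el_append]
  exact weq (by (rewrite [Cfsg.Agent.Lib.PermNetFast.checkEq_fast]; decide +kernel))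

set_option Elab.async false in
theorem y1 : y = el g1w * (el (g2w ++ (g1w ++ g2w)) * el g1w * (el (g2w ++ (g1w ++ g2w)))⁻¹) := by
  rw [← el_cw, ← el_append]
  exact weq (by (rewrite [Cfsg.Agent.Lib.PermNetFast.checkEq_fast]; decide +kernel))

set_option Elab.async false in
theorem y2 : y = (el g3w * el (w0 ++ g1w) * (el g3w)⁻¹) *
    (el (w0 ++ (g2w ++ g3w)) * el (w0 ++ g1w) * (el (w0 ++ (g2w ++ g3w)))⁻¹) := by
  rw [← el_cw, ← el_cw, ← el_append]
  exact weq (by (rewrite [Cfsg.Agent.Lib.PermNetFast.checkEq_fast]; decide +kernel))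

set_option Elab.async false in
theorem y3 : y = (el (w0 ++ g3w) * el (w0 ++ g1w.reverse) * (el (w0 ++ g3w))⁻¹) *
    (el (g2w ++ g2w) * el (w0 ++ g1w.reverse) * (el (g2w ++ g2w))⁻¹) := by
  rw [← el_cw, ← el_cw, ← el_append]
  exact weq (by (rewrite [Cfsg.Agent.Lib.PermNetFast.checkEq_fast]; decide +kernel))

/-! `g₀`, `g₁` in the normal closure of `y` -/

set_option Elab.async false in
theorem z0' : el w0 = (el (g2w ++ g3w) * y⁻¹ * (el (g2w ++ g3w))⁻¹) * (el (g3w ++ g1w) * y * (el (g3w ++ g1w))⁻¹) := by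
  have h1 : y⁻¹ = el (g2w ++ g1w).reverse := (el_reverse _).symm
  have h2 : y = el (g2w ++ g1w) := rfl
  rw [h1, h2, ← el_cw, ← el_cw, ← el_append]
  exact weq (by (rewrite [Cfsg.Agent.Lib.PermNetFast.checkEq_fast]; decide +kernel))

set_option Elab.async false in
theorem z1' : el g1w = (el g2w * y⁻¹ * (el g2w)⁻¹) * (el (g1w ++ g2w) * y⁻¹ * (el (g1w ++ g2w))⁻¹) := by
  have h1 : y⁻¹ = el (g2w ++ g1w).reverse := (el_reverse _).symm
  rw [h1, ← el_cw, ← el_cw, ← el_append]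
  exact weq (by (rewrite [Cfsg.Agent.Lib.PermNetFast.checkEq_fast]; decide +kernel))

/-! ### The centralizer of `E` -/

/-- `X = C(E)` -/
noncomputable def X : Subgroup Suz := centralizer (E : Set Suz)

theorem mem_X {g : Suz} (h1 : el x1w * g = g * el x1w) (h2 : el x2w * g = g * el x2w) : g ∈ X := by
  rw [X, E, centralizer_closure, mem_centralizer_iff]
  rintro _ (rfl | rfl)
  · exact h1
  · exact h2

theorem comm_X {g : Suz} (h : g ∈ X) {x : Suz} (hx : x ∈ E) : x * g = g * x := mem_centralizer_iff.1 h x hx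

theorem x1E : el x1w ∈ E := subset_closure (by simp)
theorem x2E : el x2w ∈ E := subset_closure (by simp)

theorem E_le_L : E ≤ L := by
  rw [E, closure_le]
  rintro _ (rfl | rfl)
  · exact x1L
  · exact x2L

theorem mem_X_of {g : Suz} (h : ∀ l ∈ L, g * l = l * g) : g ∈ X := mem_X (h _ x1L).symm (h _ x2L).symm

theorem e0X : e0 ∈ X := mem_X_of e0_comm
theorem x0X : x0 ∈ X := mem_X_of x0_comm
theorem g1X : el g1w ∈ X := mem_X (comm_of (by decide +kernel)) (comm_of (by decide +kernel))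
theorem i1X : el i1w ∈ X := mem_X (comm_of (by decide +kernel)) (comm_of (by decide +kernel))
theorem i2X : el i2w ∈ X := mem_X (comm_of (by decide +kernel)) (comm_of (by decide +kernel))

theorem A_le : A ≤ X := by
  rw [A, closure_le]
  rintro _ (rfl | rfl | rfl | rfl)
  · exact x0X
  · exact g1X
  · rw [g2_eq]; exact mul_mem (mul_mem e0X x0X) e0X
  · rw [g3_eq]; exact mul_mem (mul_mem e0X g1X) e0X

theorem E_le_X : E ≤ X := by
  rw [E, closure_le]
  rintro _ (rfl | rfl)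
  · exact mem_X rfl x12.symm
  · exact mem_X x12 rfl

/-- a Sylow 3-subgroup of `X` -/
theorem card_EF : 81 ≤ Nat.card (E ⊔ F : Subgroup Suz) := by
  have hm : ∀ w ∈ [x1w, x2w, w0, g1w], el w ∈ E ⊔ F := by
    intro w hw
    simp only [List.mem_cons, List.not_mem_nil, or_false] at hw
    rcases hw with rfl | rfl | rfl | rfl
    · exact (le_sup_left : E ≤ E ⊔ F) x1E
    · exact (le_sup_left : E ≤ E ⊔ F) x2E
    · exact (le_sup_right : F ≤ E ⊔ F) (subset_closure (by simp))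
    · exact (le_sup_right : F ≤ E ⊔ F) (subset_closure (by simp))
  have h1 : 81 * Nat.card (stabL (φS (E ⊔ F)) [14]) ≤ Nat.card (stabL (φS (E ⊔ F)) []) :=
    stabL_step_of_check (φS (E ⊔ F)) (k := 11) (ws := [x1w, x2w, w0, g1w].map wd) [] 14 81 2 (wsokS _)
      (himgS hm) (by decide +kernel) (by decide +kernel) (by decide +kernel)
  have h2 : 0 < Nat.card (stabL (φS (E ⊔ F)) [14]) := Nat.card_pos
  have h0 : Nat.card (stabL (φS (E ⊔ F)) []) ≤ Nat.card (E ⊔ F : Subgroup Suz) :=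
    Nat.card_le_card_of_injective _ (Subtype.val_injective)
  omega

/-! ### The conjugating word -/

set_option Elab.async false in
theorem t1 : el [.d, .c, .d, .g] * el x1w * (el [.d, .c, .d, .g])⁻¹ = el x1w ^ 2 * (el w0 * el g1w ^ 2) := by
  have h1 : el x1w ^ 2 * (el w0 * el g1w ^ 2) = el (x1w ++ (x1w ++ (w0 ++ (g1w ++ g1w)))) := by
    rw [el_append, el_append, el_append, el_append, pow_two, pow_two, mul_assoc]
  rw [h1, ← el_cw]
  exact weq (by (rewrite [Cfsg.Agent.Lib.PermNetFast.checkEq_fast]; decide +kernel))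

theorem t2 : el [.d, .c, .d, .g] * el x2w * (el [.d, .c, .d, .g])⁻¹ = el x2w ^ 2 * el w0 := by
  have h1 : el x2w ^ 2 * el w0 = el (x2w ++ (x2w ++ w0)) := by
    rw [el_append, el_append, pow_two, mul_assoc]
  rw [h1, ← el_cw]
  exact weq (by decide +kernel)

theorem g01_ne : el w0 * el g1w ^ 2 ≠ 1 := by
  have h1 : el w0 * el g1w ^ 2 = el (w0 ++ (g1w ++ g1w)) := by rw [el_append, el_append, pow_two]
  rw [h1]
  exact ne_one_of 0 (by decide +kernel)

end Cfsg.Agent.PreUniq.Spor.SuzP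

end

-- merged: Cfsg.Agent.PreUniq.SporHD
section

/-!
# Groups with dihedral involution centralizers modulo a central subgroup of odd order (helper2)

`hd8_of`: one involution `e` with `C(e) = P × D₈`, all involutions of the `D₈` conjugate to `e`.
-/

set_option autoImplicit false
set_option linter.unusedSectionVars false

namespace Cfsg.Agent.PreUniq.Spor.HD

open Subgroup
open Cfsg.Agent.J3Type.ExistsW (HD8)

variable {Y : Type*} [Group Y] [Finite Y]

theorem eq_one_of_odd {p : Y} {n k : ℕ} (hn : Odd n) (h1 : p ^ n = 1) (h2 : p ^ 2 ^ k = 1) : p = 1 := by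
  have hco : Nat.Coprime n (2 ^ k) := Nat.Coprime.pow_right k hn.coprime_two_right
  have h4 : orderOf p ∣ 1 := by
    rw [← hco.gcd_eq_one]
    exact Nat.dvd_gcd (orderOf_dvd_of_pow_eq_one h1) (orderOf_dvd_of_pow_eq_one h2)
  rw [← orderOf_eq_one_iff]
  exact Nat.dvd_one.mp h4

variable {P D : Subgroup Y} {e : Y}

/-- A 2-element of `C(e) = P D` lies in `D`. -/
theorem mem_of_two (hodd : Odd (Nat.card P)) (hc : ∀ p ∈ P, ∀ x : Y, x * p = p * x)
    (dih : Nonempty (D ≃* DihedralGroup 4)) (hcent : ∀ c : Y, c * e = e * c → ∃ p ∈ P, ∃ d ∈ D, c = p * d)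
    {c : Y} (hce : c * e = e * c) {k : ℕ} (hk : c ^ 2 ^ k = 1) : c ∈ D := by
  obtain ⟨p, hp, d, hd, rfl⟩ := hcent c hce
  obtain ⟨f⟩ := dih
  have hd8 : d ^ 8 = 1 := by
    have h1 := pow_card_eq_one' (G := D) (x := ⟨d, hd⟩)
    rw [Nat.card_congr f.toEquiv, DihedralGroup.nat_card] at h1
    exact congrArg Subtype.val h1
  have hcm : Commute p d := (hc p hp d).symm
  have h1 : p ^ 2 ^ (k + 3) = 1 := by
    have h2 : (p * d) ^ 2 ^ (k + 3) = 1 := by
      have : 2 ^ (k + 3) = 2 ^ k * 8 := by rw [pow_add]; norm_num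
      rw [this, pow_mul, hk, one_pow]
    rw [hcm.mul_pow] at h2
    have h3 : d ^ 2 ^ (k + 3) = 1 := by
      have : 2 ^ (k + 3) = 8 * 2 ^ k := by rw [pow_add, mul_comm]; norm_num
      rw [this, pow_mul, hd8, one_pow]
    rwa [h3, mul_one] at h2
  have h2 : p ^ Nat.card P = 1 := congrArg Subtype.val (pow_card_eq_one' (G := P) (x := ⟨p, hp⟩))
  rw [eq_one_of_odd hodd h2 h1, one_mul]
  exact hd

/-- Every involution is conjugate to `e`. -/
theorem exists_conj (hodd : Odd (Nat.card P)) (hc : ∀ p ∈ P, ∀ x : Y, x * p = p * x) (he : orderOf e = 2)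
    (heD : e ∈ D)
    (dih : Nonempty (D ≃* DihedralGroup 4)) (hcent : ∀ c : Y, c * e = e * c → ∃ p ∈ P, ∃ d ∈ D, c = p * d)
    (hconj : ∀ d ∈ D, orderOf d = 2 → ∃ g : Y, g * e * g⁻¹ = d) {j : Y} (hj : orderOf j = 2) :
    ∃ g : Y, g * e * g⁻¹ = j := by
  have hf2 : Fact (Nat.Prime 2) := ⟨Nat.prime_two⟩
  have hcardD : Nat.card D = 8 := by
    obtain ⟨f⟩ := dih
    rw [Nat.card_congr f.toEquiv, DihedralGroup.nat_card]
  have hDp : IsPGroup 2 D := IsPGroup.of_card (n := 3) (by rw [hcardD]; norm_num)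
  obtain ⟨S, hS⟩ := hDp.exists_le_sylow
  -- `S = D`
  have hSD : (S : Subgroup Y) ≤ D := by
    have hne : Nontrivial S := by
      refine ⟨⟨⟨e, hS heD⟩, 1, fun h => ?_⟩⟩
      have h1 : e = 1 := congrArg Subtype.val h
      rw [h1, orderOf_one] at he
      omega
    have h1 := S.2.center_nontrivial
    obtain ⟨n, hn⟩ := (S.2.to_subgroup (center S)).exists_card_eq
    have hn0 : n ≠ 0 := by
      rintro rfl
      rw [pow_zero] at hn
      have := (Nat.card_eq_one_iff_unique.1 hn).1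
      exact not_subsingleton (center S) this
    have h2 : 2 ∣ Nat.card (center S) := by
      rw [hn]; exact dvd_pow_self 2 hn0
    obtain ⟨c, hc2⟩ := exists_prime_orderOf_dvd_card' 2 h2
    have hcY : orderOf (((c : S) : Y)) = 2 := by rw [orderOf_coe, orderOf_coe]; exact hc2
    have hcs : ∀ s ∈ (S : Subgroup Y), s * ((c : S) : Y) = ((c : S) : Y) * s := fun s hs =>
      congrArg Subtype.val (mem_center_iff.1 c.2 ⟨s, hs⟩)
    have hcD : ((c : S) : Y) ∈ D := by
      refine mem_of_two hodd hc dih hcent (k := 1) (hcs e (hS heD)).symm ?_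
      rw [pow_one]
      have h5 := pow_orderOf_eq_one (((c : S) : Y))
      rwa [hcY] at h5
    obtain ⟨g, hg⟩ := hconj _ hcD hcY
    have h3 : (S : Subgroup Y).map (MulAut.conj g⁻¹).toMonoidHom ≤ D := by
      rintro _ ⟨s, hs, rfl⟩
      obtain ⟨k, hk⟩ := S.2 ⟨s, hs⟩
      refine mem_of_two hodd hc dih hcent (k := k) ?_ ?_
      · change g⁻¹ * s * g⁻¹⁻¹ * e = e * (g⁻¹ * s * g⁻¹⁻¹)
        have h4 := hcs s hs
        rw [← hg] at h4
        calc g⁻¹ * s * g⁻¹⁻¹ * e = g⁻¹ * (s * (g * e * g⁻¹)) * g := by group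
          _ = g⁻¹ * (g * e * g⁻¹ * s) * g := by rw [h4]
          _ = e * (g⁻¹ * s * g⁻¹⁻¹) := by group
      · rw [← map_pow]
        have h4 : s ^ 2 ^ k = 1 := congrArg Subtype.val hk
        rw [h4, map_one]
    have h4 := Nat.card_le_card_of_injective _ (inclusion_injective h3)
    rw [card_map_of_injective (MulAut.conj g⁻¹).injective] at h4
    exact (eq_of_le_of_card_ge hS h4).ge
  -- a conjugate of `j` in `D`
  have hjp : IsPGroup 2 (zpowers j) := IsPGroup.of_card (n := 1) (by rw [Nat.card_zpowers, hj, pow_one])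
  obtain ⟨c, hc'⟩ := Cfsg.Agent.PreUniq.exists_conj_le S hjp
  have h1 : c * j * c⁻¹ ∈ D := hSD (hc' j (mem_zpowers j))
  have h2 : orderOf (c * j * c⁻¹) = 2 := by
    rw [← hj]
    exact MulEquiv.orderOf_eq (MulAut.conj c) j
  obtain ⟨g, hg⟩ := hconj _ h1 h2
  refine ⟨c⁻¹ * g, ?_⟩
  calc c⁻¹ * g * e * (c⁻¹ * g)⁻¹ = c⁻¹ * (g * e * g⁻¹) * c := by group
    _ = j := by rw [hg]; group

theorem hd8_of [P.Normal] (hodd : Odd (Nat.card P)) (hc : ∀ p ∈ P, ∀ x : Y, x * p = p * x) (he : orderOf e = 2)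
    (heD : e ∈ D) (hDe : ∀ d ∈ D, d * e = e * d)
    (dih : Nonempty (D ≃* DihedralGroup 4)) (hcent : ∀ c : Y, c * e = e * c → ∃ p ∈ P, ∃ d ∈ D, c = p * d)
    (hconj : ∀ d ∈ D, orderOf d = 2 → ∃ g : Y, g * e * g⁻¹ = d) : HD8 (Y ⧸ P) := by
  apply Cfsg.Agent.ONType.QuotHD.hd8 P hodd hc
  intro j hj
  obtain ⟨g, hg⟩ := exists_conj hodd hc he heD dih hcent hconj hj
  refine ⟨D.map (MulAut.conj g).toMonoidHom, ?_, ?_, ?_⟩
  · obtain ⟨f⟩ := dih
    exact ⟨(D.equivMapOfInjective _ (MulAut.conj g).injective).symm.trans f⟩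
  · rintro _ ⟨d, hd, rfl⟩
    change g * d * g⁻¹ * j = j * (g * d * g⁻¹)
    rw [← hg]
    calc g * d * g⁻¹ * (g * e * g⁻¹) = g * (d * e) * g⁻¹ := by group
      _ = g * (e * d) * g⁻¹ := by rw [hDe d hd]
      _ = _ := by group
  · intro c hcj
    have h1 : g⁻¹ * c * g * e = e * (g⁻¹ * c * g) := by
      rw [← hg] at hcj
      calc g⁻¹ * c * g * e = g⁻¹ * (c * (g * e * g⁻¹)) * g := by group
        _ = g⁻¹ * (g * e * g⁻¹ * c) * g := by rw [hcj]
        _ = _ := by group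
    obtain ⟨p, hp, d, hd, hpd⟩ := hcent _ h1
    refine ⟨p, hp, g * d * g⁻¹, ⟨d, hd, rfl⟩, ?_⟩
    calc c = g * (g⁻¹ * c * g) * g⁻¹ := by group
      _ = g * (p * d) * g⁻¹ := by rw [hpd]
      _ = (g * p) * d * g⁻¹ := by group
      _ = (p * g) * d * g⁻¹ := by rw [hc p hp g]
      _ = p * (g * d * g⁻¹) := by group

end Cfsg.Agent.PreUniq.Spor.HD

end

-- merged: Cfsg.Agent.PreUniq.SporSuzCent
section

/-!
# Preuniqueness: the Suzuki group at `p = 3`, the centralizer of `E` (helper2)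

`|C(E)| = 3240` and `C(E) / E` is simple.
-/

set_option autoImplicit false
set_option linter.unusedSectionVars false
set_option maxRecDepth 100000
set_option exponentiation.threshold 4000

namespace Cfsg.Agent.PreUniq.Spor.SuzP

open Subgroup
open Cfsg.Spor Cfsg.Agent.Lib.PermNet Cfsg.Agent.Lib.PermNetOrbit Cfsg.Agent.SporadicRecognition.SuzPhi
  Cfsg.Agent.SporadicRecognition.SuzBound Cfsg.Agent.SporadicRecognition.SuzOrder
  Cfsg.Agent.SuzThree.Nets Cfsg.Agent.SuzThree.Basic Cfsg.Agent.SuzThree.Elts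
  Cfsg.Agent.SuzThree.CentA Cfsg.Agent.SuzThree.CentB
  Cfsg.Agent.SuzThree.QZero Cfsg.Agent.KFacts.SuzCent Cfsg.Agent.KFacts.SuzLFour Cfsg.Agent.KFacts.SuzTwoB
open Cfsg.Agent.J3Type.ExistsW (HD8)

/-! ### The centralizer of `E` in `L` -/

/-- the 21 points -/
def N21 : ℕ := 1208925821866517574913791

theorem O21_eq : Nat.beq KFacts.SuzTL.O21 N21 = true := by decide +kernel

theorem mem_21 : ∀ t < 81, N21.testBit t = true →
    t ∈ [0, 1, 2, 3, 4, 5, 6, 7, 9, 10, 11, 16, 17, 19, 21, 29, 31, 34, 36, 51, 80] := by decide +kernel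

theorem pt {w : List Suz.Gen} {p q : ℕ} (h : mv (wd w) p q = true) : φ (el w) p = q := (Rep.el w).pt h

theorem φ_comm {g x : Suz} (h : x * g = g * x) (p : ℕ) : φ x (φ g p) = φ g (φ x p) := by
  rw [← Equiv.Perm.mul_apply, ← Equiv.Perm.mul_apply, ← map_mul, ← map_mul, h]

theorem cases21 {l : Suz} (hl : l ∈ L) (hX : l ∈ X) : ∃ p ∈ E, φ p 0 = φ l 0 := by
  have h1 : KFacts.SuzTL.O21.testBit (φ l 0) = true := by
    rw [KFacts.SuzTL.map_O21 hl, ← tb_eq]; exact KFacts.SuzTL.tb0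
  rw [Nat.eq_of_beq_eq_true O21_eq] at h1
  have h2 : φ l 0 < 81 := by
    by_contra hcon
    rw [Nat.testBit_lt_two_pow (lt_of_lt_of_le (by decide +kernel : N21 < 2 ^ 81)
      (Nat.pow_le_pow_right (by norm_num) (by omega)))] at h1
    exact absurd h1 (by decide)
  have h3 := mem_21 _ h2 h1
  have hE : ∀ {w : List Suz.Gen} {q : ℕ}, el w ∈ E → φ l 0 = q → mv (wd w) q q = true → mv (wd w) 0 0 = false →
      False := by
    intro w q hw hq h4 h5
    have h6 : φ (el w) (φ l 0) = φ l 0 := by rw [hq]; exact pt h4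
    rw [φ_comm (comm_X hX hw)] at h6
    have h7 : φ (el w) 0 = 0 := (φ l).injective h6
    have h8 : mv (wd w) 0 0 = true := by
      unfold mv
      rw [Nat.beq_eq]
      show appWord (wd w) (2 ^ 0) = 2 ^ 0
      apply Nat.eq_of_testBit_eq
      intro i
      rw [testBit_appWord (wd_ok w), Nat.testBit_two_pow, Nat.testBit_two_pow]
      by_cases hi : i = 0
      · subst hi
        have h9 : wperm (wd w) 0 = 0 := by rw [← φ_el w]; exact h7
        rw [h9]
      · have h9 : wperm (wd w) i ≠ 0 := by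
          intro h10
          apply hi
          apply (φ (el w)).injective
          rw [h7, φ_el w]
          exact h10
        rw [decide_eq_false (Ne.symm h9), decide_eq_false (Ne.symm hi)]
    rw [h5] at h8
    exact absurd h8 (by decide)
  have e12 : el (x1w ++ x2w) ∈ E := by rw [el_append]; exact mul_mem x1E x2E
  have e122 : el (x1w ++ (x2w ++ x2w)) ∈ E := by
    rw [el_append, el_append]; exact mul_mem x1E (mul_mem x2E x2E)
  have e22 : el (x2w ++ x2w) ∈ E := by rw [el_append]; exact mul_mem x2E x2E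
  have e11 : el (x1w ++ x1w) ∈ E := by rw [el_append]; exact mul_mem x1E x1E
  have e112 : el (x1w ++ (x1w ++ x2w)) ∈ E := by
    rw [el_append, el_append]; exact mul_mem x1E (mul_mem x1E x2E)
  have e1122 : el (x1w ++ (x1w ++ (x2w ++ x2w))) ∈ E := by
    rw [el_append, el_append, el_append]; exact mul_mem x1E (mul_mem x1E (mul_mem x2E x2E))
  simp only [List.mem_cons, List.not_mem_nil, or_false] at h3
  rcases h3 with h | h | h | h | h | h | h | h | h | h | h | h | h | h | h | h | h | h | h | h | h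
  · exact ⟨1, one_mem _, by rw [h, map_one]; rfl⟩
  · exact ⟨_, e22, by rw [h]; exact pt (by decide +kernel)⟩
  · exact ⟨_, e11, by rw [h]; exact pt (by decide +kernel)⟩
  · exact (hE x1E h (by decide +kernel) (by decide +kernel)).elim
  · exact (hE e122 h (by decide +kernel) (by decide +kernel)).elim
  · exact ⟨_, e112, by rw [h]; exact pt (by decide +kernel)⟩
  · exact (hE e12 h (by decide +kernel) (by decide +kernel)).elim
  · exact (hE e12 h (by decide +kernel) (by decide +kernel)).elim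
  · exact (hE x1E h (by decide +kernel) (by decide +kernel)).elim
  · exact (hE e122 h (by decide +kernel) (by decide +kernel)).elim
  · exact (hE x2E h (by decide +kernel) (by decide +kernel)).elim
  · exact ⟨_, x2E, by rw [h]; exact pt (by decide +kernel)⟩
  · exact ⟨_, e12, by rw [h]; exact pt (by decide +kernel)⟩
  · exact ⟨_, x1E, by rw [h]; exact pt (by decide +kernel)⟩
  · exact ⟨_, e1122, by rw [h]; exact pt (by decide +kernel)⟩
  · exact ⟨_, e122, by rw [h]; exact pt (by decide +kernel)⟩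
  · exact (hE e12 h (by decide +kernel) (by decide +kernel)).elim
  · exact (hE x2E h (by decide +kernel) (by decide +kernel)).elim
  · exact (hE e122 h (by decide +kernel) (by decide +kernel)).elim
  · exact (hE x1E h (by decide +kernel) (by decide +kernel)).elim
  · exact (hE x2E h (by decide +kernel) (by decide +kernel)).elim

/-- `C_L(E) = E` -/
theorem cent_L {l : Suz} (hl : l ∈ L) (hX : l ∈ X) : l ∈ E := by
  obtain ⟨p, hp, hpt⟩ := cases21 hl hX
  have hm : p⁻¹ * l ∈ X := mul_mem (inv_mem (E_le_X hp)) hX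
  have hmL : p⁻¹ * l ∈ L := mul_mem (inv_mem (E_le_L hp)) hl
  have h0 : φ (p⁻¹ * l) 0 = 0 := by
    rw [map_mul, Equiv.Perm.mul_apply, ← hpt, ← Equiv.Perm.mul_apply, ← map_mul, inv_mul_cancel, map_one]; rfl
  have hfix : ∀ {w : List Suz.Gen} {q : ℕ}, el w ∈ E → mv (wd w) 0 q = true → φ (p⁻¹ * l) q = q := by
    intro w q hw h1
    have h2 : φ (el w) 0 = q := pt h1
    rw [← h2, ← φ_comm (comm_X hm hw), h0]
  have e22 : el (x2w ++ x2w) ∈ E := by rw [el_append]; exact mul_mem x2E x2E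
  have e11 : el (x1w ++ x1w) ∈ E := by rw [el_append]; exact mul_mem x1E x1E
  have e112 : el (x1w ++ (x1w ++ x2w)) ∈ E := by
    rw [el_append, el_append]; exact mul_mem x1E (mul_mem x1E x2E)
  have h1 := card_mul_L
  rw [card_L] at h1
  have h2 : Nat.card (stabL (φS L) [2, 5, 1, 0]) = 1 := by
    have : 0 < Nat.card (stabL (φS L) [2, 5, 1, 0]) := Nat.card_pos
    omega
  have h3 : (⟨p⁻¹ * l, hmL⟩ : L) ∈ stabL (φS L) [2, 5, 1, 0] := by
    intro q hq
    show φ (p⁻¹ * l) q = q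
    simp only [List.mem_cons, List.not_mem_nil, or_false] at hq
    rcases hq with rfl | rfl | rfl | rfl
    · exact hfix e11 (by decide +kernel)
    · exact hfix e112 (by decide +kernel)
    · exact hfix e22 (by decide +kernel)
    · exact h0
  rw [Subgroup.eq_bot_of_card_eq _ h2, Subgroup.mem_bot] at h3
  have h4 : p⁻¹ * l = 1 := congrArg Subtype.val h3
  rw [inv_mul_eq_one] at h4
  rw [← h4]; exact hp

theorem VX {v : Suz} (hv : v ∈ V) : v ∈ X := mem_X_of (V_comm v hv)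

/-- `C_{VL}(E) = E V` -/
theorem cent_VL {g : Suz} (hg : g ∈ VL) (hX : g ∈ X) : ∃ p ∈ E, ∃ v ∈ V, g = p * v := by
  obtain ⟨v, hv, l, hl, rfl⟩ := hg
  have h1 : l ∈ X := by
    have h2 : l = v⁻¹ * (v * l) := by group
    rw [h2]
    exact mul_mem (inv_mem (VX hv)) hX
  exact ⟨l, cent_L hl h1, v, hv, V_comm v hv l hl⟩

/-! ### The dihedral group -/

def uw : List Suz.Gen := i1w ++ (i2w ++ i1w)
/-- an involution of `C(E) ∩ C(e)` not centralizing `V` -/
noncomputable def u : Suz := el uw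

theorem u_eq : u = el i1w * (el i2w * el i1w) := by
  rw [u, uw, el_append, el_append]

theorem uX : u ∈ X := by
  rw [u_eq]; exact mul_mem i1X (mul_mem i2X i1X)

set_option Elab.async false in
theorem uu : u * u = 1 := by
  rw [u, ← el_append]; exact one_of (by (rewrite [Cfsg.Agent.Lib.PermNetFast.checkEq_fast]; decide +kernel))

set_option Elab.async false in
theorem ue : u * e0 = e0 * u := comm_of (by (rewrite [Cfsg.Agent.Lib.PermNetFast.checkEq_fast]; decide +kernel))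

theorem i1_sq : el i1w * el i1w = 1 := by rw [← el_append]; exact one_of (by decide +kernel)
theorem i2_sq : el i2w * el i2w = 1 := by rw [← el_append]; exact one_of (by decide +kernel)

set_option Elab.async false in
/-- `(e₁ u)² = e` -/
theorem e1u : (e1 * u) * (e1 * u) = e0 := by
  rw [e1_eq, u, ← el_append, ← el_append]
  exact weq (by (rewrite [Cfsg.Agent.Lib.PermNetFast.checkEq_fast]; decide +kernel))

/-- `i₂` is conjugate to `e` -/
theorem i2_conj : (e0 * el i2w) * e0 * (e0 * el i2w)⁻¹ = el i2w := by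
  rw [mul_inv_rev, e0_inv, inv_eq_of_mul_eq_one_left i2_sq]
  show el [.e] * el i2w * el [.e] * (el i2w * el [.e]) = el i2w
  rw [← el_append, ← el_append, ← el_append, ← el_append]
  exact weq (by decide +kernel)

theorem u_conj : (el i1w * (e0 * el i2w)) * e0 * (el i1w * (e0 * el i2w))⁻¹ = u := by
  have h1 : (el i1w)⁻¹ = el i1w := inv_eq_of_mul_eq_one_left i1_sq
  calc (el i1w * (e0 * el i2w)) * e0 * (el i1w * (e0 * el i2w))⁻¹
      = el i1w * ((e0 * el i2w) * e0 * (e0 * el i2w)⁻¹) * (el i1w)⁻¹ := by group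
    _ = u := by rw [i2_conj, h1, u_eq, mul_assoc]

theorem u_ne : u ≠ 1 := by
  intro h
  have h1 := e1u
  rw [h, mul_one, e1_sq] at h1
  exact e0_ne h1.symm

theorem ue1 : u * e1 = e2 * u := by
  have h1 := e1u
  calc u * e1 = (e1 * e1) * u * e1 * (u * u) := by rw [e1_sq, uu]; group
    _ = e1 * (e1 * u * (e1 * u)) * u := by group
    _ = e2 * u := by rw [h1, e10]

theorem ue2 : u * e2 = e1 * u := by
  have h1 := ue1
  calc u * e2 = u * (e2 * u) * u⁻¹ := by group
    _ = u * (u * e1) * u⁻¹ := by rw [h1]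
    _ = (u * u) * e1 * u⁻¹ := by group
    _ = e1 * u := by rw [uu, one_mul, inv_eq_of_mul_eq_one_left uu]

/-- the dihedral group `⟨e₁, u⟩` -/
noncomputable def D : Subgroup Suz := closure {e1, u}

theorem e1D : e1 ∈ D := subset_closure (by simp)
theorem uD : u ∈ D := subset_closure (by simp)
theorem e0D : e0 ∈ D := by
  rw [← e1u]; exact mul_mem (mul_mem e1D uD) (mul_mem e1D uD)
theorem e2D : e2 ∈ D := by rw [← e01]; exact mul_mem e0D e1D

theorem V_le_D : V ≤ D := by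
  rintro v (rfl | rfl | rfl | rfl)
  · exact one_mem _
  · exact e0D
  · exact e1D
  · exact e2D

theorem conj_V {v : Suz} (hv : v ∈ V) : ∃ v' ∈ V, u * v = v' * u := by
  rcases hv with rfl | rfl | rfl | rfl
  · exact ⟨1, one_mem _, by group⟩
  · exact ⟨e0, mem_V.2 (by simp), ue⟩
  · exact ⟨e2, mem_V.2 (by simp), ue1⟩
  · exact ⟨e1, mem_V.2 (by simp), ue2⟩

theorem mem_D {d : Suz} (hd : d ∈ D) : ∃ v ∈ V, d = v ∨ d = v * u := by
  induction hd using closure_induction with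
  | mem x hx =>
    rcases hx with rfl | hx
    · exact ⟨e1, mem_V.2 (by simp), Or.inl rfl⟩
    · rw [Set.mem_singleton_iff] at hx
      exact ⟨1, one_mem _, Or.inr (by rw [hx, one_mul])⟩
  | one => exact ⟨1, one_mem _, Or.inl rfl⟩
  | mul x z _ _ h1 h2 =>
    obtain ⟨v, hv, hx⟩ := h1
    obtain ⟨w, hw, hz⟩ := h2
    obtain ⟨w', hw', h3⟩ := conj_V hw
    rcases hx with hx | hx
    · rcases hz with hz | hz
      · exact ⟨v * w, mul_mem hv hw, Or.inl (by rw [hx, hz])⟩
      · exact ⟨v * w, mul_mem hv hw, Or.inr (by rw [hx, hz, mul_assoc])⟩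
    · rcases hz with hz | hz
      · exact ⟨v * w', mul_mem hv hw', Or.inr (by rw [hx, hz, mul_assoc, h3, mul_assoc])⟩
      · refine ⟨v * w', mul_mem hv hw', Or.inl ?_⟩
        rw [hx, hz]
        calc v * u * (w * u) = v * (u * w) * u := by group
          _ = v * (w' * u) * u := by rw [h3]
          _ = v * w' * (u * u) := by group
          _ = v * w' := by rw [uu, mul_one]
  | inv x _ h1 =>
    obtain ⟨v, hv, hx⟩ := h1
    obtain ⟨w', hw', h3⟩ := conj_V (inv_mem hv)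
    rcases hx with hx | hx
    · exact ⟨v⁻¹, inv_mem hv, Or.inl (by rw [hx])⟩
    · refine ⟨w', hw', Or.inr ?_⟩
      rw [hx, mul_inv_rev, inv_eq_of_mul_eq_one_left uu, h3]

theorem D_le : D ≤ X := by
  rw [D, closure_le]
  rintro _ (rfl | rfl)
  · exact VX (mem_V.2 (by simp))
  · exact uX

theorem D_comm {d : Suz} (hd : d ∈ D) : d * e0 = e0 * d := by
  obtain ⟨v, hv, h | h⟩ := mem_D hd
  · rw [h]; exact V_abel v hv e0 (mem_V.2 (by simp))
  · rw [h, mul_assoc, ue, ← mul_assoc, V_abel v hv e0 (mem_V.2 (by simp)), mul_assoc]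

theorem ord_e0 : orderOf e0 = 2 := orderOf_eq_prime (by rw [pow_two, e0_sq]) e0_ne
theorem ord_e1 : orderOf e1 = 2 := orderOf_eq_prime (by rw [pow_two, e1_sq]) e1_ne1
theorem ord_u : orderOf u = 2 := orderOf_eq_prime (by rw [pow_two, uu]) u_ne

theorem ord_e1u : orderOf (e1 * u) = 4 := by
  have h2 : (e1 * u) ^ 2 = e0 := by rw [pow_two, e1u]
  have : orderOf (e1 * u) = 2 ^ (1 + 1) := by
    apply orderOf_eq_prime_pow
    · rw [pow_one, h2]; exact e0_ne
    · have : (e1 * u) ^ 2 ^ (1 + 1) = ((e1 * u) ^ 2) ^ 2 := by rw [← pow_mul]; norm_num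
      rw [this, h2, pow_two, e0_sq]
  simpa using this

theorem dih : Nonempty (D ≃* DihedralGroup 4) :=
  Cfsg.Agent.SporadicB.DihedralLift.closure_pair_equiv_dihedral' ord_e1 ord_u ord_e1u

theorem u_notin : u ∉ VL := by
  intro h
  have h1 := VL_cent h (v := e1) (mem_V.2 (by simp))
  rw [ue1] at h1
  exact e12_ne (mul_right_cancel h1).symm

/-- `C(E) ∩ C(e) = E D` -/
theorem cent_e {g : Suz} (hX : g ∈ X) (he : g * e0 = e0 * g) : ∃ p ∈ E, ∃ d ∈ D, g = p * d := by
  by_cases hg : g ∈ VL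
  · obtain ⟨p, hp, v, hv, h⟩ := cent_VL hg hX
    exact ⟨p, hp, v, V_le_D hv, h⟩
  · have hgC : g ∈ CE := mem_CE.2 he
    have huC : u ∈ CE := mem_CE.2 ue
    have h1 : u * g ∈ VL := by
      have h2 := (Subgroup.mul_mem_iff_of_index_two idx.1 (a := (⟨u, huC⟩ : CE)) (b := ⟨g, hgC⟩)).2 (by
        rw [Subgroup.mem_subgroupOf, Subgroup.mem_subgroupOf]
        exact ⟨fun h => absurd h u_notin, fun h => absurd h hg⟩)
      exact Subgroup.mem_subgroupOf.1 h2
    obtain ⟨p, hp, v, hv, h⟩ := cent_VL h1 (mul_mem uX hX)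
    refine ⟨p, hp, u * v, mul_mem uD (V_le_D hv), ?_⟩
    have h2 : g = u * (u * g) := by rw [← mul_assoc, uu, one_mul]
    rw [h2, h, ← mul_assoc, ← mul_assoc, ← comm_X uX hp]

/-- The involutions of `D` are conjugate to `e` in `X`. -/
theorem conj_D {d : Suz} (hd : d ∈ D) (h2 : orderOf d = 2) : ∃ g ∈ X, g * e0 * g⁻¹ = d := by
  have hdd : d * d = 1 := by rw [← pow_two, ← h2, pow_orderOf_eq_one]
  have h1 : d ≠ 1 := by
    rintro rfl
    rw [orderOf_one] at h2; omega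
  have hu : ∃ g ∈ X, g * e0 * g⁻¹ = u := ⟨_, mul_mem i1X (mul_mem e0X i2X), u_conj⟩
  obtain ⟨v, hv, rfl | rfl⟩ := mem_D hd
  · rcases hv with rfl | rfl | rfl | rfl
    · exact absurd rfl h1
    · exact ⟨1, one_mem _, by group⟩
    · exact ⟨x0, x0X, rfl⟩
    · refine ⟨x0⁻¹, inv_mem x0X, ?_⟩
      rw [inv_inv]; rfl
  · rcases hv with rfl | rfl | rfl | rfl
    · rw [one_mul]; exact hu
    · obtain ⟨g, hg, hgu⟩ := hu
      refine ⟨e1 * g, mul_mem (VX (mem_V.2 (by simp))) hg, ?_⟩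
      calc e1 * g * e0 * (e1 * g)⁻¹ = e1 * (g * e0 * g⁻¹) * e1⁻¹ := by group
        _ = e1 * u * e1 := by rw [hgu, inv_eq_of_mul_eq_one_left e1_sq]
        _ = e1 * (u * e1) := by group
        _ = e1 * e2 * u := by rw [ue1]; group
        _ = e0 * u := by rw [e12]
    · exfalso
      rw [e1u] at hdd
      exact e0_ne hdd
    · exfalso
      have h3 : e2 * u * (e2 * u) = e0 := by
        calc e2 * u * (e2 * u) = e2 * (u * e2) * u := by group
          _ = e2 * (e1 * u) * u := by rw [ue2]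
          _ = e2 * e1 * (u * u) := by group
          _ = e0 := by rw [uu, e21, mul_one]
      rw [h3] at hdd
      exact e0_ne hdd

/-! ### The orders -/

theorem x_comm : ∀ a ∈ ({el x1w, el x2w} : Set Suz), ∀ b ∈ ({el x1w, el x2w} : Set Suz), a * b = b * a := by
  rintro a (rfl | rfl) b (rfl | rfl)
  · rfl
  · exact x12
  · exact x12.symm
  · rfl

theorem x_cube : ∀ a ∈ ({el x1w, el x2w} : Set Suz), a ^ 3 = 1 := by
  rintro a (rfl | rfl)
  · exact cube_x1
  · exact cube_x2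

theorem g_comm : ∀ a ∈ ({el w0, el g1w} : Set Suz), ∀ b ∈ ({el w0, el g1w} : Set Suz), a * b = b * a := by
  rintro a (rfl | rfl) b (rfl | rfl)
  · rfl
  · exact g01
  · exact g01.symm
  · rfl

theorem g_cube : ∀ a ∈ ({el w0, el g1w} : Set Suz), a ^ 3 = 1 := by
  rintro a (rfl | rfl)
  · exact cube_g0
  · exact cube_g1

theorem finSuz : Finite Suz := by
  apply Nat.finite_of_card_ne_zero
  rw [card_Suz]
  norm_num

open Cfsg.Agent.CpQuot.EightyOne (closure_comm closure_cube isPGroup_closure)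

theorem isPGroup_E : IsPGroup 3 E := isPGroup_closure x_comm x_cube
theorem isPGroup_F : IsPGroup 3 F := isPGroup_closure g_comm g_cube

theorem F_le_A : F ≤ A := closure_mono (by intro z hz; rcases hz with rfl | rfl <;> simp)

theorem E_norm_F : E ≤ normalizer (F : Set Suz) := by
  intro e he
  have h4 : ∀ f ∈ F, ∀ e ∈ E, e * f * e⁻¹ = f := fun f hf e he => by
    rw [comm_X (A_le (F_le_A hf)) he, mul_inv_cancel_right]
  refine Std.mem_normalizer_of_conj (fun f hf => by rw [h4 f hf e he]; exact hf) fun f hf => ?_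
  have h1 := h4 f hf e⁻¹ (inv_mem he)
  rw [inv_inv] at h1
  rw [h1]; exact hf

theorem card_sup_le : Nat.card (E ⊔ F : Subgroup Suz) ≤ Nat.card E * Nat.card F := by
  have := finSuz
  rw [← Nat.card_prod]
  refine Nat.card_le_card_of_surjective (fun x : E × F => (⟨(x.1 : Suz) * x.2,
    mul_mem ((le_sup_left : E ≤ E ⊔ F) x.1.2) ((le_sup_right : F ≤ E ⊔ F) x.2.2)⟩ : ↥(E ⊔ F))) ?_
  rintro ⟨x, hx⟩
  obtain ⟨e, he, f, hf, rfl⟩ := Core.mem_sup_of_le_normalizer E_norm_F hx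
  exact ⟨(⟨e, he⟩, ⟨f, hf⟩), rfl⟩

theorem card_E_F : Nat.card E = 9 ∧ Nat.card F = 9 := by
  have := finSuz
  have h1 : Nat.card E ≤ 9 := ONP.card_pair_le x12 cube_x1 cube_x2
  have h2 : Nat.card F ≤ 9 := ONP.card_pair_le g01 cube_g0 cube_g1
  have h3 := card_EF.trans card_sup_le
  constructor
  · by_contra hne
    have h4 : Nat.card E ≤ 8 := by omega
    have := Nat.mul_le_mul h4 h2
    omega
  · by_contra hne
    have h4 : Nat.card F ≤ 8 := by omega
    have := Nat.mul_le_mul h1 h4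
    omega

theorem card_E : Nat.card E = 9 := card_E_F.1
theorem card_F : Nat.card F = 9 := card_E_F.2

theorem card_sup : Nat.card (E ⊔ F : Subgroup Suz) = 81 := by
  have h3 := card_sup_le
  rw [card_E, card_F] at h3
  exact le_antisymm (by omega) card_EF

instance normal_EX : (E.subgroupOf X).Normal := by
  constructor
  intro n hn g
  have h1 : g * n * g⁻¹ = n := by
    apply Subtype.ext
    show (g : Suz) * n * (g : Suz)⁻¹ = n
    rw [← comm_X g.2 (mem_subgroupOf.1 hn)]; group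
  rw [h1]; exact hn

theorem card_EX : Nat.card (E.subgroupOf X) = 9 := by
  rw [Nat.card_congr (subgroupOfEquivOfLe E_le_X).toEquiv, card_E]

theorem hd8 : HD8 (X ⧸ E.subgroupOf X) := by
  have := finSuz
  refine HD.hd8_of (Y := X) (P := E.subgroupOf X) (D := D.subgroupOf X) (e := ⟨e0, e0X⟩) ?_ ?_ ?_ ?_ ?_ ?_ ?_ ?_
  · rw [card_EX]; decide
  · intro p hp x
    exact Subtype.ext (comm_X x.2 (mem_subgroupOf.1 hp)).symm
  · rw [← ord_e0]; exact orderOf_mk _ _
  · exact mem_subgroupOf.2 e0D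
  · intro d hd
    exact Subtype.ext (D_comm (mem_subgroupOf.1 hd))
  · obtain ⟨f⟩ := dih
    exact ⟨(subgroupOfEquivOfLe D_le).trans f⟩
  · intro c hc
    obtain ⟨p, hp, d, hd, hpd⟩ := cent_e c.2 (congrArg Subtype.val hc)
    exact ⟨⟨p, E_le_X hp⟩, mem_subgroupOf.2 hp, ⟨d, D_le hd⟩, mem_subgroupOf.2 hd, Subtype.ext hpd⟩
  · intro d hd h2
    obtain ⟨g, hg, hgd⟩ := conj_D (mem_subgroupOf.1 hd) (by rw [← h2]; exact orderOf_coe d)
    exact ⟨⟨g, hg⟩, Subtype.ext hgd⟩

theorem y_mem : y ∈ A := by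
  show el (g2w ++ g1w) ∈ A
  rw [el_append]
  exact mul_mem (subset_closure (by simp)) (subset_closure (by simp))

theorem y_ne : y ≠ 1 := ne_one_of 0 (by decide +kernel)

theorem ord_s : orderOf (QuotientGroup.mk (⟨e0, e0X⟩ : X) : X ⧸ E.subgroupOf X) = 2 := by
  have := finSuz
  refine (Cfsg.Agent.ONType.CentX.orderOf_mk_eq (E.subgroupOf X) (by rw [card_EX]; decide) ?_)
  rw [← ord_e0]; exact orderOf_mk _ _

/-- **`|C(E)| = 3240`** -/
theorem card_X : Nat.card X = 3240 := by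
  have := finSuz
  have h1 := Subgroup.card_eq_card_quotient_mul_card_subgroup (E.subgroupOf X)
  rw [card_EX] at h1
  rcases Cfsg.Agent.ONType.QuotHD.HD8.card_eq hd8 ord_s with h2 | h2
  · exfalso
    rw [h2] at h1
    have h3 : orderOf (⟨y, A_le y_mem⟩ : X) ∣ Nat.card X := orderOf_dvd_natCard _
    have h5 : Fact (Nat.Prime 5) := ⟨Nat.prime_five⟩
    have h4 : orderOf (⟨y, A_le y_mem⟩ : X) = 5 :=
      orderOf_eq_prime (Subtype.ext y_five) (fun h => y_ne (congrArg Subtype.val h))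
    rw [h4, h1] at h3
    omega
  · rw [h1, h2]

theorem simple_X : IsSimpleGroup (X ⧸ E.subgroupOf X) := by
  have := finSuz
  exact Cfsg.Agent.ONType.OddCent.isSimple hd8 ord_s

end Cfsg.Agent.PreUniq.Spor.SuzP

end

-- merged: Cfsg.Agent.PreUniq.SporSuz
section

/-!
# Preuniqueness: the Suzuki group at `p = 3` (helper2)

Class 2A: `C(z)` has a large extraspecial subgroup, and `z` inverts an element of order 3 centralizing a Sylow
3-subgroup of `C(z)`. Class 2B: the Sylow 3-subgroups of `C(e)` are conjugate to `E`.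
-/

set_option autoImplicit false
set_option linter.unusedSectionVars false
set_option maxRecDepth 100000
set_option exponentiation.threshold 4000

namespace Cfsg.Agent.PreUniq.Spor.SuzP

open Subgroup Cfsg
open Cfsg.Spor Cfsg.Agent.Lib.PermNet Cfsg.Agent.Lib.PermNetOrbit Cfsg.Agent.SporadicRecognition.SuzPhi
  Cfsg.Agent.SporadicRecognition.SuzBound Cfsg.Agent.SporadicRecognition.SuzOrder
  Cfsg.Agent.SuzThree.Nets Cfsg.Agent.SuzThree.Basic Cfsg.Agent.SuzThree.Elts
  Cfsg.Agent.SuzThree.CentA Cfsg.Agent.SuzThree.CentB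
  Cfsg.Agent.SuzThree.QZero Cfsg.Agent.KFacts.SuzCent Cfsg.Agent.KFacts.SuzLFour Cfsg.Agent.KFacts.SuzTwoB

/-! ### An element inverted by `z ∈ O_{p'}(M)` -/

section general

variable {G : Type*} [Group G] [Finite G] {p : ℕ} [hp : Fact p.Prime] {M K E : Subgroup G} {z c : G}

theorem false_of_invert (hp2 : p ≠ 2) (h : IsPreuniquenessSubgroup p M K) (hE : E ≤ perp p M K) (hEp : IsPGroup p E)
    (hE1 : E ≠ ⊥) (hz : z ∈ core p M) (hcE : c ∈ centralizer (E : Set G)) (hc : orderOf c = p)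
    (hzc : z * c * z⁻¹ = c⁻¹) : False := by
  have hcM : c ∈ M := centralizer_le_of_isPGroup h hE hEp hE1 hcE
  have h1 : z * (c * z⁻¹ * c⁻¹) ∈ core p M := (core p M).mul_mem hz (conj_mem_core hcM ((core p M).inv_mem hz))
  have h2 : z * (c * z⁻¹ * c⁻¹) = (c * c)⁻¹ := by
    calc z * (c * z⁻¹ * c⁻¹) = z * c * z⁻¹ * c⁻¹ := by group
      _ = (c * c)⁻¹ := by rw [hzc, mul_inv_rev]
  rw [h2] at h1
  have h3 : c * c ∈ core p M := by
    have := (core p M).inv_mem h1
    rwa [inv_inv] at this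
  obtain ⟨m, hm⟩ := hp.out.odd_of_ne_two hp2
  have h4 : c ∈ core p M := by
    have h5 : c = (c * c) ^ (m + 1) := by
      have h6 : c ^ (2 * m + 1) = 1 := by rw [← hm, ← hc, pow_orderOf_eq_one]
      calc c = c ^ (2 * m + 1) * c := by rw [h6, one_mul]
        _ = (c * c) ^ (m + 1) := by rw [← pow_two, ← pow_mul, ← pow_succ]; congr 1
    rw [h5]
    exact (core p M).pow_mem h3 _
  have h5 : p ∣ Nat.card (core p M) := by
    have h6 : orderOf (⟨c, h4⟩ : core p M) ∣ Nat.card (core p M) := orderOf_dvd_natCard _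
    rwa [← Subgroup.orderOf_coe, hc] at h6
  have h6 : (Nat.card (core p M)).Coprime p := core_coprime
  exact hp.out.one_lt.ne' (Nat.eq_one_of_dvd_coprimes h6 h5 dvd_rfl)

end general

/-! ### Fixed points -/

open Cfsg.Agent.SporRec.SuzCl (Fx card_Fx_conj)

/-- the fixed points of a word -/
noncomputable def fxw (w : List Suz.Gen) : ℕ := Nat.land U0 (Nat.xor U0 (moved 11 (wd w) 11))

theorem fix_of_moved {w : List Suz.Gen} {p : ℕ} (hp : p < 1782) (h : (moved 11 (wd w) 11).testBit p = false) :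
    φ (el w) p = p := by
  have h1 : ∀ m, (moved 11 (wd w) m).testBit p = false → ∀ b < m,
      (plane 11 b).testBit (wperm (wd w) p) = (plane 11 b).testBit p := by
    intro m
    induction m with
    | zero => intro _ b hb; omega
    | succ m ih =>
      intro h b hb
      rw [moved_succ, Nat.testBit_or, Bool.or_eq_false_iff, Nat.testBit_xor, testBit_appWord (wd_ok w)] at h
      rcases Nat.lt_succ_iff_lt_or_eq.1 hb with hb | rfl
      · exact ih h.2 b hb
      · have h2 := h.1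
        revert h2
        cases (plane 11 b).testBit p <;> cases (plane 11 b).testBit (wperm (wd w) p) <;> simp
  have h2 := h1 11 h
  rw [φ_el]
  have h3 : p < 2 ^ 11 := by norm_num; omega
  have h4 := wperm_lt (wd_ok w) h3
  apply Nat.eq_of_testBit_eq
  intro b
  by_cases hb : b < 11
  · have h5 := h2 b hb
    rwa [testBit_plane 11 b _ h4 hb, testBit_plane 11 b _ h3 hb] at h5
  · have hk : 2 ^ 11 ≤ 2 ^ b := Nat.pow_le_pow_right (by norm_num) (by omega)
    rw [Nat.testBit_lt_two_pow (lt_of_lt_of_le h4 hk), Nat.testBit_lt_two_pow (lt_of_lt_of_le h3 hk)]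

theorem Fx_el (w : List Suz.Gen) : Fx (el w) = bits (2 ^ 11) (fxw w) := by
  ext p
  rw [Fx, Finset.mem_filter, Finset.mem_range, mem_bits]
  have h0 : (fxw w).testBit p = (decide (p < 1782) && (decide (p < 1782) ^^ (moved 11 (wd w) 11).testBit p)) := by
    show (U0 &&& (U0 ^^^ moved 11 (wd w) 11)).testBit p = _
    rw [Nat.testBit_and, Nat.testBit_xor, U0_bits]
  rw [h0]
  constructor
  · rintro ⟨h1, h2⟩
    refine ⟨by norm_num; omega, ?_⟩
    rw [moved_el h2, decide_eq_true h1]; rfl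
  · rintro ⟨-, h2⟩
    rw [Bool.and_eq_true, decide_eq_true_eq] at h2
    obtain ⟨h1, h2⟩ := h2
    rw [decide_eq_true h1] at h2
    refine ⟨h1, fix_of_moved h1 ?_⟩
    revert h2
    cases (moved 11 (wd w) 11).testBit p <;> simp

theorem card_Fx_el {w : List Suz.Gen} {m : ℕ} (h : Nat.beq (pc 11 (fxw w)) m = true)
    (h' : Nat.beq (Nat.shiftRight (fxw w) (Nat.pow 2 11)) 0 = true) : (Fx (el w)).card = m := by
  rw [Fx_el, ← pc_eq 11 (fxw w) (lt_of_chk h')]
  exact Nat.eq_of_beq_eq_true h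

theorem Fx_x1 : (Fx (el x1w)).card = 18 := card_Fx_el (by decide +kernel) (by decide +kernel)
theorem Fx_g0 : (Fx (el w0)).card = 162 := card_Fx_el (by decide +kernel) (by decide +kernel)
theorem Fx_g1 : (Fx (el g1w)).card = 162 := card_Fx_el (by decide +kernel) (by decide +kernel)
theorem Fx_g01 : (Fx (el (w0 ++ g1w))).card = 0 := card_Fx_el (by decide +kernel) (by decide +kernel)
theorem Fx_g01' : (Fx (el (w0 ++ g1w.reverse))).card = 0 := card_Fx_el (by decide +kernel) (by decide +kernel)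

/-- `x₁` is not conjugate to an element of `F`. -/
theorem not_conj_F {f g : Suz} (hf : f ∈ F) (h : g * f * g⁻¹ = el x1w) : False := by
  have h1 := card_Fx_conj g f
  rw [h, Fx_x1] at h1
  have hf1 : f ≠ 1 := by
    rintro rfl
    have h2 : el x1w = 1 := by rw [← h]; group
    have h3 : (Fx (1 : Suz)).card = 1782 := by
      rw [Fx, Finset.filter_true_of_mem (fun p _ => by rw [map_one]; rfl), Finset.card_range]
    omega
  -- the subgroup generated by `f`
  have h5 : ∀ {a : Suz}, a ∈ zpowers f → a ≠ 1 → (Fx a).card = 18 := by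
    intro a ha ha1
    have hf3 : f ^ 3 = 1 := Cfsg.Agent.CpQuot.EightyOne.closure_cube g_comm g_cube hf
    rcases Cfsg.Agent.CpQuot.EightyOne.mem_zpowers_three hf3 ha with rfl | rfl | rfl
    · exact absurd rfl ha1
    · exact h1.symm
    · have h6 : f * f = f⁻¹ := by
        rw [eq_inv_iff_mul_eq_one, ← hf3, pow_succ, pow_two]
      rw [h6, h1]
      congr 1
      ext p
      rw [Fx, Finset.mem_filter, Fx, Finset.mem_filter, map_inv, Equiv.Perm.inv_eq_iff_eq]
      constructor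
      · rintro ⟨h7, h8⟩; exact ⟨h7, h8.symm⟩
      · rintro ⟨h7, h8⟩; exact ⟨h7, h8.symm⟩
  rcases ONP.cases_pair g01 cube_g0 cube_g1 hf hf1 (mem_zpowers f) with h6 | h6 | h6 | h6
  · have h7 := h5 h6 (by
      intro h8
      have h9 := Fx_g0
      rw [h8] at h9
      have h3 : (Fx (1 : Suz)).card = 1782 := by
        rw [Fx, Finset.filter_true_of_mem (fun p _ => by rw [map_one]; rfl), Finset.card_range]
      omega)
    rw [Fx_g0] at h7
    omega
  · have h7 := h5 h6 (by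
      intro h8
      have h9 := Fx_g1
      rw [h8] at h9
      have h3 : (Fx (1 : Suz)).card = 1782 := by
        rw [Fx, Finset.filter_true_of_mem (fun p _ => by rw [map_one]; rfl), Finset.card_range]
      omega)
    rw [Fx_g1] at h7
    omega
  · rw [← el_append] at h6
    have h7 := h5 h6 (by
      intro h8
      have h9 := Fx_g01
      rw [h8] at h9
      have h3 : (Fx (1 : Suz)).card = 1782 := by
        rw [Fx, Finset.filter_true_of_mem (fun p _ => by rw [map_one]; rfl), Finset.card_range]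
      omega)
    rw [Fx_g01] at h7
    omega
  · rw [← el_reverse, ← el_append] at h6
    have h7 := h5 h6 (by
      intro h8
      have h9 := Fx_g01'
      rw [h8] at h9
      have h3 : (Fx (1 : Suz)).card = 1782 := by
        rw [Fx, Finset.filter_true_of_mem (fun p _ => by rw [map_one]; rfl), Finset.card_range]
      omega)
    rw [Fx_g01'] at h7
    omega

/-! ### The trio -/

theorem mem_A0 : el w0 ∈ A := subset_closure (by simp)
theorem mem_A1 : el g1w ∈ A := subset_closure (by simp)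
theorem mem_A2 : el g2w ∈ A := subset_closure (by simp)
theorem mem_A3 : el g3w ∈ A := subset_closure (by simp)
theorem mem_app {l m : List Suz.Gen} (hl : el l ∈ A) (hm : el m ∈ A) : el (l ++ m) ∈ A := by
  rw [el_append]
  exact mul_mem hl hm

theorem isElementaryAbelian_E : IsElementaryAbelian 3 E :=
  ⟨⟨⟨fun a b => Subtype.ext (Cfsg.Agent.CpQuot.EightyOne.closure_comm x_comm a.2 b.2)⟩⟩,
    fun _ ha => Cfsg.Agent.CpQuot.EightyOne.closure_cube x_comm x_cube ha⟩

theorem sup_comm' : ∀ a ∈ E ⊔ F, ∀ b ∈ E ⊔ F, a * b = b * a := by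
  intro a ha b hb
  obtain ⟨e, he, f, hf, rfl⟩ := Core.mem_sup_of_le_normalizer E_norm_F ha
  obtain ⟨e', he', f', hf', rfl⟩ := Core.mem_sup_of_le_normalizer E_norm_F hb
  have h1 : Commute e e' := Cfsg.Agent.CpQuot.EightyOne.closure_comm x_comm he he'
  have h2 : Commute f f' := Cfsg.Agent.CpQuot.EightyOne.closure_comm g_comm hf hf'
  have h3 : Commute e f' := comm_X (A_le (F_le_A hf')) he
  have h4 : Commute e' f := comm_X (A_le (F_le_A hf)) he'
  exact ((h1.mul_right h3).mul_left (h4.symm.mul_right h2)).eq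

theorem sup_le_X : E ⊔ F ≤ X := sup_le E_le_X (F_le_A.trans A_le)

theorem trio : Std.Trio 3 E F A y := by
  have := finSuz
  have hp : Fact (Nat.Prime 3) := ⟨Nat.prime_three⟩
  refine { FA := F_le_A, AC := A_le, gen := ?_, Fp := isPGroup_F, idx := ?_, ab := ?_, yA := y_mem, simp1 := ?_,
           simp2 := ?_ }
  · conv_lhs => rw [A]
    rw [closure_le]
    rintro _ (rfl | rfl | rfl | rfl)
    · exact subset_closure ⟨mem_A0, 1, by rw [pow_one]; exact cube_g0⟩
    · exact subset_closure ⟨mem_A1, 1, by rw [pow_one]; exact cube_g1⟩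
    · exact subset_closure ⟨mem_A2, 1, by rw [pow_one]; exact cube_g2⟩
    · exact subset_closure ⟨mem_A3, 1, by rw [pow_one]; exact cube_g3⟩
  · intro h3
    have h2 := card_mul_relIndex sup_le_X
    rw [card_sup, card_X] at h2
    change 3 ∣ (E ⊔ F).relIndex X at h3
    omega
  · intro T hTX hT a ha b hb
    have h1 : ¬ 3 ∣ ((E ⊔ F).subgroupOf X).index := by
      intro h3
      have h2 := card_mul_relIndex sup_le_X
      rw [card_sup, card_X] at h2
      change 3 ∣ (E ⊔ F).relIndex X at h3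
      omega
    have hSp : IsPGroup 3 ((E ⊔ F).subgroupOf X) := by
      have h2 : IsPGroup 3 (E ⊔ F : Subgroup Suz) :=
        IsPGroup.of_card (n := 4) (by rw [card_sup]; norm_num)
      exact h2.comap_subtype
    have hTp : IsPGroup 3 (T.subgroupOf X) := hT.comap_subtype
    obtain ⟨c, hc⟩ := exists_conj_le (hSp.toSylow h1) hTp
    have h2 : (c : Suz) * a * (c : Suz)⁻¹ ∈ E ⊔ F := hc ⟨a, hTX ha⟩ ha
    have h3 : (c : Suz) * b * (c : Suz)⁻¹ ∈ E ⊔ F := hc ⟨b, hTX hb⟩ hb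
    have h4 := sup_comm' _ h2 _ h3
    have h5 : a * b = (c : Suz)⁻¹ * (c * a * (c : Suz)⁻¹ * (c * b * (c : Suz)⁻¹)) * c := by group
    rw [h5, h4]
    group
  · intro N _ hAN hf
    obtain ⟨f, hf, hf1, hfN⟩ := hf
    have hc : ∀ {a n : Suz}, a ∈ A → n ∈ N → a * n * a⁻¹ ∈ N := fun ha hn =>
      (mem_normalizer_iff.1 (hAN ha) _).1 hn
    rcases ONP.cases_pair g01 cube_g0 cube_g1 hf hf1 hfN with h | h | h | h
    · rw [y0]
      exact mul_mem (hc (mem_app mem_A1 mem_A3) (inv_mem h)) (hc (mem_app mem_A2 mem_A3) (inv_mem h))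
    · rw [y1]
      exact mul_mem h (hc (mem_app mem_A2 (mem_app mem_A1 mem_A2)) h)
    · rw [← el_append] at h
      rw [y2]
      exact mul_mem (hc mem_A3 h) (hc (mem_app mem_A0 (mem_app mem_A2 mem_A3)) h)
    · rw [← el_reverse, ← el_append] at h
      rw [y3]
      exact mul_mem (hc (mem_app mem_A0 mem_A3) h) (hc (mem_app mem_A2 mem_A2) h)
  · intro N _ hAN hy
    have hc : ∀ {a n : Suz}, a ∈ A → n ∈ N → a * n * a⁻¹ ∈ N := fun ha hn =>
      (mem_normalizer_iff.1 (hAN ha) _).1 hn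
    rw [F, closure_le]
    rintro _ (rfl | rfl)
    · rw [SetLike.mem_coe, z0']
      exact mul_mem (hc (mem_app mem_A2 mem_A3) (inv_mem hy)) (hc (mem_app mem_A3 mem_A1) hy)
    · rw [SetLike.mem_coe, z1']
      exact mul_mem (hc mem_A2 (inv_mem hy)) (hc (mem_app mem_A1 mem_A2) (inv_mem hy))

theorem E_ne : E ≠ ⊥ := by
  intro h
  have h1 := card_E
  rw [h, card_bot] at h1
  omega

theorem E_ab : ∀ a ∈ E, ∀ b ∈ E, a * b = b * a := fun _ ha _ hb =>
  Cfsg.Agent.CpQuot.EightyOne.closure_comm x_comm ha hb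

variable {M K : Subgroup Suz}

/-- `F ≤ K` -/
theorem F_le_K [Finite Suz] [Fact (Nat.Prime 3)] (h : IsPreuniquenessSubgroup 3 M K) (hE : E ≤ perp 3 M K) :
    F ≤ K := by
  have hCM : X ≤ M := centralizer_le_of_isPGroup h hE isPGroup_E E_ne
  have hsub : (K.subgroupOf X).IsSubnormal := by
    have h1 : K.subgroupOf X = (K.subgroupOf M).comap (inclusion hCM) := rfl
    rw [h1]
    exact h.2.2.1.1.comap _
  have h1 := hsub.map (QuotientGroup.mk'_surjective (E.subgroupOf X))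
  have hy : y ∈ K := by
    rcases h1.eq_bot_or_top_of_isSimpleGroup simple_X with h2 | h2
    · exfalso
      -- `K ∩ X ≤ E`
      have h3 : K ⊓ X ≤ E := by
        rintro k ⟨hk, hkX⟩
        have h4 : QuotientGroup.mk' (E.subgroupOf X) ⟨k, hkX⟩ ∈
            (K.subgroupOf X).map (QuotientGroup.mk' (E.subgroupOf X)) := ⟨⟨k, hkX⟩, hk, rfl⟩
        rw [h2, mem_bot, QuotientGroup.mk'_apply, QuotientGroup.eq_one_iff] at h4
        exact mem_subgroupOf.1 h4
      refine Core.not_solvable_of_cover (X := K ⊓ X) h.2.2.1 (inf_le_left.trans h.2.1) (fun k hk => ?_) ?_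
      · obtain ⟨c, hc, hkc⟩ := exists_fixed h.2.1 h.2.2.1 hE isPGroup_E hk
        exact ⟨c, hc, hkc⟩
      · have h5 : ∀ a b : ↥(K ⊓ X), a * b = b * a := fun a b => Subtype.ext (E_ab a (h3 a.2) b (h3 b.2))
        exact Group.isSolvable_of_comm h5
    · have h3 : QuotientGroup.mk' (E.subgroupOf X) ⟨y, A_le y_mem⟩ ∈
          (K.subgroupOf X).map (QuotientGroup.mk' (E.subgroupOf X)) := by rw [h2]; trivial
      obtain ⟨k, hk, hky⟩ := h3
      rw [QuotientGroup.mk'_apply, QuotientGroup.mk'_apply, QuotientGroup.eq] at hky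
      have h4 : (k : Suz)⁻¹ * y ∈ E := mem_subgroupOf.1 hky
      set e := (k : Suz)⁻¹ * y with he
      have h5 : y = k * e := by rw [he]; group
      have hcm : Commute (k : Suz) e := (comm_X k.2 h4).symm
      have h6 : y = (k : Suz) ^ 6 := by
        have h7 : y ^ 6 = (k : Suz) ^ 6 * e ^ 6 := by rw [h5, hcm.mul_pow]
        have h8 : e ^ 6 = 1 := by
          have h9 : e ^ 3 = 1 := Cfsg.Agent.CpQuot.EightyOne.closure_cube x_comm x_cube h4
          have : e ^ 6 = (e ^ 3) ^ 2 := by rw [← pow_mul]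
          rw [this, h9, one_pow]
        have h9 : y ^ 6 = y := by rw [pow_succ, y_five, one_mul]
        rw [h8, mul_one, h9] at h7
        exact h7
      rw [h6]
      exact K.pow_mem (mem_subgroupOf.1 hk) 6
  have hAK := trio.le_normalizer h hE isPGroup_E E_ne
  have hN : A ≤ normalizer ((A ⊓ K : Subgroup Suz) : Set Suz) := by
    intro a ha
    refine Std.mem_normalizer_of_conj (fun n hn => ⟨A.mul_mem (A.mul_mem ha hn.1) (A.inv_mem ha),
      (mem_normalizer_iff.1 (hAK ha) n).1 hn.2⟩) fun n hn => ⟨A.mul_mem (A.mul_mem (A.inv_mem ha) hn.1) ha, ?_⟩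
    have h1 := (mem_normalizer_iff.1 (inv_mem (hAK ha)) n).1 hn.2
    rwa [inv_inv] at h1
  exact (trio.simp2 _ inf_le_left hN ⟨y_mem, hy⟩).trans inf_le_right

/-! ### The involutions of class 2A -/

/-- a word inverted by `a`, centralizing a Sylow 3-subgroup of `C(a)` -/
def c0w : List Suz.Gen :=
  .a :: cw [.f, .c, .b, .g, .b, .f, .c, .d, .c, .b] [.a]

set_option Elab.async false in
theorem c0_cube : el c0w ^ 3 = 1 := cube_of (by (rewrite [Cfsg.Agent.Lib.PermNetFast.checkEq_fast]; decide +kernel))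

theorem c0_ne : el c0w ≠ 1 := by
  intro h
  have h1 : (Fx (el c0w)).card = 0 := card_Fx_el (by decide +kernel) (by decide +kernel)
  rw [h] at h1
  have h3 : (Fx (1 : Suz)).card = 1782 := by
    rw [Fx, Finset.filter_true_of_mem (fun p _ => by rw [map_one]; rfl), Finset.card_range]
  omega

theorem c0_inv : z0 * el c0w * z0⁻¹ = (el c0w)⁻¹ := by
  have h1 : z0⁻¹ = z0 := inv_eq_of_mul_eq_one_left (gen_sq .a)
  rw [h1, ← el_reverse]
  show el [.a] * el c0w * el [.a] = _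
  rw [← el_append, ← el_append]
  exact weq (by decide +kernel)

theorem c0_S3 {s : Suz} (hs : s ∈ SuzThree.ThreeWr.S3) : s * el c0w = el c0w * s := by
  have h1 : SuzThree.ThreeWr.S3 ≤ centralizer ({el c0w} : Set Suz) := by
    rw [SuzThree.ThreeWr.S3, closure_le]
    rintro _ (rfl | h)
    · rw [SetLike.mem_coe, mem_centralizer_singleton_iff]
      exact eq_of_reps (SuzThree.ThreeWr.rep_y0.mul (Rep.el c0w)) ((Rep.el c0w).mul SuzThree.ThreeWr.rep_y0)
        (by decide +kernel)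
    · rw [Set.mem_singleton_iff] at h
      subst h
      rw [SetLike.mem_coe, mem_centralizer_singleton_iff]
      exact eq_of_reps (SuzThree.ThreeWr.rep_w.mul (Rep.el c0w)) ((Rep.el c0w).mul SuzThree.ThreeWr.rep_w)
        (by decide +kernel)
  exact mem_centralizer_singleton_iff.1 (h1 hs)

/-- For a 3-subgroup `E'` of `C(z)`, `z` of class 2A: an element of order 3 of `C(E')` inverted by `z`. -/
theorem exists_c [Finite Suz] [Fact (Nat.Prime 3)] {g z : Suz} (hg : g * z0 * g⁻¹ = z) {E' : Subgroup Suz}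
    (hEp : IsPGroup 3 E') (hEz : E' ≤ centralizer ({z} : Set Suz)) :
    ∃ c ∈ centralizer (E' : Set Suz), orderOf c = 3 ∧ z * c * z⁻¹ = c⁻¹ := by
  have hle : E'.map (MulAut.conj g⁻¹).toMonoidHom ≤ C1 := by
    rintro _ ⟨e, he, rfl⟩
    change g⁻¹ * e * g⁻¹⁻¹ ∈ C1
    rw [mem_C1]
    have h1 := mem_centralizer_singleton_iff.1 (hEz he)
    rw [← hg] at h1
    calc g⁻¹ * e * g⁻¹⁻¹ * z0 = g⁻¹ * (e * (g * z0 * g⁻¹)) * g := by group
      _ = g⁻¹ * (g * z0 * g⁻¹ * e) * g := by rw [h1]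
      _ = z0 * (g⁻¹ * e * g⁻¹⁻¹) := by group
  have hS : IsPGroup 3 (SuzThree.ThreeWr.S3.subgroupOf C1) := by
    have h1 : IsPGroup 3 SuzThree.ThreeWr.S3 := IsPGroup.of_card (n := 4) (by
      rw [SuzThree.ThreeWr.card_S3]; norm_num)
    exact h1.comap_subtype
  have hidx : ¬ 3 ∣ (SuzThree.ThreeWr.S3.subgroupOf C1).index := by
    intro h3
    have h2 := (SuzThree.ThreeWr.S3.subgroupOf C1).card_mul_index
    rw [Nat.card_congr (subgroupOfEquivOfLe SuzThree.ThreeWr.S3_le).toEquiv, SuzThree.ThreeWr.card_S3, card_C1] at h2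
    omega
  have hT : IsPGroup 3 ((E'.map (MulAut.conj g⁻¹).toMonoidHom).subgroupOf C1) := (hEp.map _).comap_subtype
  obtain ⟨d, hd⟩ := exists_conj_le (hS.toSylow hidx) hT
  set k : Suz := (d : Suz) * g⁻¹ with hk
  have hd0 : (d : Suz) * z0 = z0 * d := mem_C1.1 d.2
  have hz : k * z * k⁻¹ = z0 := by
    rw [← hg, hk]
    calc (d : Suz) * g⁻¹ * (g * z0 * g⁻¹) * ((d : Suz) * g⁻¹)⁻¹ = (d : Suz) * z0 * (d : Suz)⁻¹ := by group
      _ = z0 := by rw [hd0]; group
  refine ⟨k⁻¹ * el c0w * k, ?_, ?_, ?_⟩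
  · rw [mem_centralizer_iff]
    intro e he
    have h1 : k * e * k⁻¹ ∈ SuzThree.ThreeWr.S3 := by
      have h2 := hd ⟨g⁻¹ * e * g⁻¹⁻¹, hle ⟨e, he, rfl⟩⟩ ⟨e, he, rfl⟩
      have h3 : (d : Suz) * (g⁻¹ * e * g⁻¹⁻¹) * (d : Suz)⁻¹ ∈ SuzThree.ThreeWr.S3 := h2
      have h4 : k * e * k⁻¹ = (d : Suz) * (g⁻¹ * e * g⁻¹⁻¹) * (d : Suz)⁻¹ := by rw [hk]; group
      rw [h4]; exact h3
    have h2 := c0_S3 h1
    calc e * (k⁻¹ * el c0w * k) = k⁻¹ * (k * e * k⁻¹ * el c0w) * k := by group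
      _ = k⁻¹ * (el c0w * (k * e * k⁻¹)) * k := by rw [h2]
      _ = k⁻¹ * el c0w * k * e := by group
  · have h1 : k⁻¹ * el c0w * k = MulAut.conj k⁻¹ (el c0w) := by
      rw [MulAut.conj_apply, inv_inv]
    rw [h1, MulEquiv.orderOf_eq]
    exact orderOf_eq_prime c0_cube c0_ne
  · have h1 : z = k⁻¹ * z0 * k := by rw [← hz]; group
    rw [h1]
    calc k⁻¹ * z0 * k * (k⁻¹ * el c0w * k) * (k⁻¹ * z0 * k)⁻¹ = k⁻¹ * (z0 * el c0w * z0⁻¹) * k := by group
      _ = k⁻¹ * (el c0w)⁻¹ * k := by rw [c0_inv]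
      _ = (k⁻¹ * el c0w * k)⁻¹ := by group

/-! ### The conjugacy of `E` -/

theorem exists_conj_E [Finite Suz] [Fact (Nat.Prime 3)] (hMK : PreuniquenessHypothesis 3 M K) {E' : Subgroup Suz}
    (hE' : E' ≤ perp 3 M K) (hEa' : IsElementaryAbelian 3 E') (hEc' : Nat.card E' = 3 ^ 2) :
    ∃ g : Suz, ∀ e ∈ E, ∃ e' ∈ E', g * e' * g⁻¹ = e := by
  have hE3 : IsPGroup 3 E' := IsPGroup.of_card hEc'
  have hgrip := grip_of_le_perp Nat.prime_three hMK.1 hE' hEa' hEc'
  obtain ⟨L', T, z, hc⟩ := exists_conf (by norm_num) hMK.1.2.1 hMK.1.2.2.1 hE' hE3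
  have hEz : E' ≤ centralizer ({z} : Set Suz) := by
    intro e he
    rw [mem_centralizer_singleton_iff]
    exact mem_centralizer_iff.1 (hc.T_le hc.zT).2 e he
  have hz2 : z * z = 1 := by rw [← pow_two, ← hc.z2, pow_orderOf_eq_one]
  have hz1 : z ≠ 1 := by
    rintro rfl
    have := hc.z2
    rw [orderOf_one] at this
    omega
  rcases SporRec.SuzCl.two z hz2 hz1 with ⟨g, hg⟩ | ⟨g, hg⟩
  · exfalso
    have h0 : SporRec.SuzCl.ia = z0 := KFacts.SuzY.z0_eq.symm
    rw [h0] at hg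
    by_cases hzc : z ∈ core 3 M
    · obtain ⟨c, hc1, hc2, hc3⟩ := exists_c hg hE3 hEz
      exact false_of_invert (by norm_num) hMK.1 hE' hE3 (hgrip.ne_bot Nat.prime_three) hzc hc1 hc2 hc3
    · have hl := KFacts.SuzLarge.large.conj g
      rw [hg] at hl
      exact Core.false_of_large (by norm_num) hMK.1.2.1 hMK.1.2.2.1 hE' hgrip hEz hl hc.z_mem hzc
  · have h0 : SporRec.SuzCl.ie = e0 := by
      show (PresentedGroup.of Suz.Gen.e : Suz) = el [Suz.Gen.e]
      unfold el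
      rw [List.map_cons, List.map_nil, List.prod_cons, List.prod_nil, mul_one]
    rw [h0] at hg
    have h1 : E'.map (MulAut.conj g⁻¹).toMonoidHom ≤ CE := by
      rintro _ ⟨e, he, rfl⟩
      change g⁻¹ * e * g⁻¹⁻¹ ∈ CE
      rw [mem_CE]
      have h1 := mem_centralizer_singleton_iff.1 (hEz he)
      rw [← hg] at h1
      calc g⁻¹ * e * g⁻¹⁻¹ * e0 = g⁻¹ * (e * (g * e0 * g⁻¹)) * g := by group
        _ = g⁻¹ * (g * e0 * g⁻¹ * e) * g := by rw [h1]
        _ = e0 * (g⁻¹ * e * g⁻¹⁻¹) := by group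
    have h2 : E ≤ CE := fun x hx => mem_CE.2 (e0_comm x (E_le_L hx)).symm
    have h3 : Nat.card (E.subgroupOf CE) = 3 ^ 2 := by
      rw [Nat.card_congr (subgroupOfEquivOfLe h2).toEquiv, card_E]; norm_num
    have h4 : Nat.card ((E'.map (MulAut.conj g⁻¹).toMonoidHom).subgroupOf CE) = 3 ^ 2 := by
      rw [← hEc']
      exact (Nat.card_congr (subgroupOfEquivOfLe h1).toEquiv).trans
        (Nat.card_congr (Subgroup.equivMapOfInjective _ _ (MulAut.conj g⁻¹).injective).toEquiv).symm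
    obtain ⟨d, hd⟩ := ONP.exists_conj_of_card h3 h4 (by rw [card_CE]; norm_num)
    refine ⟨d * g⁻¹, fun e he => ?_⟩
    obtain ⟨⟨b, hbC⟩, hb, hb2⟩ := hd ⟨e, h2 he⟩ he
    obtain ⟨e', he', rfl⟩ := hb
    refine ⟨e', he', ?_⟩
    have h5 : (d : Suz) * (g⁻¹ * e' * g⁻¹⁻¹) * (d : Suz)⁻¹ = e := congrArg Subtype.val hb2
    rw [← h5]
    group

/-- **The Suzuki group at `p = 3`.** -/
theorem stdPre_three [Finite Suz] [Fact (Nat.Prime 3)] : StdPre 3 Suz := by
  refine Std.stdPre_of E (fun M K hMK hE => ?_) fun M K hMK E' hE' hEa' hEc' => exists_conj_E hMK hE' hEa' hEc'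
  have hKM := hMK.1.2.1
  have hFK := F_le_K hMK.1 hE
  have hst : IsStandardWrt M K := by
    refine ⟨hKM, normal_subgroupOf_of_le_normalizer ?_⟩
    intro w hw
    by_contra hwN
    -- `F^w ≤ C_M(K̄)`
    have h1 : F.map (MulAut.conj w).toMonoidHom ≤ perp 3 M K := by
      rintro _ ⟨l, hl, rfl⟩
      change w * l * w⁻¹ ∈ perp 3 M K
      rw [mem_perp hKM]
      refine ⟨M.mul_mem (M.mul_mem hw (hKM (hFK hl))) (M.inv_mem hw), fun k' hk' => ?_⟩
      have h2 := (core 3 M).inv_mem (Core.comm_mem_core hKM hMK.1.2.2.1 hw hwN hk' (hFK hl))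
      have h3 : (k' * (w * l * w⁻¹) * k'⁻¹ * (w * l * w⁻¹)⁻¹)⁻¹ =
          w * l * w⁻¹ * k' * (w * l * w⁻¹)⁻¹ * k'⁻¹ := by group
      rwa [h3] at h2
    have h2 : Nat.card (F.map (MulAut.conj w).toMonoidHom) = 3 ^ 2 := by
      rw [card_map_of_injective (MulAut.conj w).injective, card_F]; norm_num
    have h3 : IsElementaryAbelian 3 (F.map (MulAut.conj w).toMonoidHom) := by
      refine ⟨⟨⟨?_⟩⟩, ?_⟩
      · rintro ⟨_, a, ha, rfl⟩ ⟨_, b, hb, rfl⟩
        apply Subtype.ext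
        change (MulAut.conj w) a * (MulAut.conj w) b = (MulAut.conj w) b * (MulAut.conj w) a
        rw [← map_mul, ← map_mul, Cfsg.Agent.CpQuot.EightyOne.closure_comm g_comm ha hb]
      · rintro _ ⟨a, ha, rfl⟩
        rw [← map_pow, Cfsg.Agent.CpQuot.EightyOne.closure_cube g_comm g_cube ha, map_one]
    obtain ⟨g, hg⟩ := exists_conj_E hMK h1 h3 h2
    obtain ⟨_, ⟨f, hf, rfl⟩, hgf⟩ := hg _ x1E
    refine not_conj_F (g := g * w) hf ?_
    rw [← hgf]
    change g * w * f * (g * w)⁻¹ = g * (w * f * w⁻¹) * g⁻¹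
    group
  refine ⟨hst, fun hc => ?_⟩
  -- no rank 2 fusion control
  have hCM : X ≤ M := centralizer_le_of_isPGroup hMK.1 hE isPGroup_E E_ne
  set t : Suz := el [.d, .c, .d, .g] with ht
  have hsup : ∀ e ∈ E, t * e * t⁻¹ ∈ E ⊔ F := by
    have h1 : E ≤ (E ⊔ F).comap (MulAut.conj t).toMonoidHom := by
      conv_lhs => rw [E]
      rw [closure_le]
      rintro _ (rfl | rfl)
      · change t * el x1w * t⁻¹ ∈ E ⊔ F
        rw [t1]
        exact mul_mem ((le_sup_left : E ≤ E ⊔ F) (pow_mem x1E 2)) ((le_sup_right : F ≤ E ⊔ F)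
          (mul_mem (subset_closure (by simp)) (pow_mem (subset_closure (by simp)) 2)))
      · change t * el x2w * t⁻¹ ∈ E ⊔ F
        rw [t2]
        exact mul_mem ((le_sup_left : E ≤ E ⊔ F) (pow_mem x2E 2)) ((le_sup_right : F ≤ E ⊔ F)
          (subset_closure (by simp)))
    exact fun e he => h1 he
  have htM : t ∈ M := hc E hE isElementaryAbelian_E (by rw [card_E]; norm_num) t fun e he =>
    hCM (sup_le_X (hsup e he))
  have hMK' : M ≤ normalizer (K : Set Suz) := (normal_subgroupOf_iff_le_normalizer hKM).1 hst.2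
  have h1 := Std.conj_mem_perp hKM htM (hMK' htM) (hE x1E)
  rw [t1] at h1
  have h2 : el w0 * el g1w ^ 2 ∈ perp 3 M K := by
    have h3 : el w0 * el g1w ^ 2 = (el x1w ^ 2)⁻¹ * (el x1w ^ 2 * (el w0 * el g1w ^ 2)) := by group
    rw [h3]
    exact mul_mem (inv_mem (hE (pow_mem x1E 2))) h1
  have h3 : el w0 * el g1w ^ 2 ∈ F := mul_mem (subset_closure (by simp)) (pow_mem (subset_closure (by simp)) 2)
  obtain ⟨hbot, -, -⟩ := trio.main hMK.1 hE isPGroup_E E_ne E_ab
  have h4 : el w0 * el g1w ^ 2 ∈ F ⊓ perp 3 M K := ⟨h3, h2⟩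
  rw [hbot, mem_bot] at h4
  exact g01_ne h4

end Cfsg.Agent.PreUniq.Spor.SuzP

end

private theorem dce_b85440ffd9f5 : _root_.True := by
  try have : _root_.True := by simp only [_root_.Cfsg.Agent.PreUniq.Spor.ONP.A.eq_1]
  try have : _root_.True := by simp only [_root_.Cfsg.Agent.PreUniq.Spor.SuzP.E.eq_1]
  try have : _root_.True := by simp only [_root_.Cfsg.Agent.PreUniq.Spor.ONP.cw.eq_1]
  try have : _root_.True := by simp only [_root_.Cfsg.Agent.SporRec.SuzCl.Fx.eq_1]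
  try have : _root_.True := by simp only [_root_.Cfsg.Agent.PreUniq.Spor.SuzP.D.eq_1]
  try have : _root_.True := by simp only [_root_.Cfsg.Agent.PreUniq.Spor.SuzP.y.eq_1]
  try have : _root_.True := by simp only [_root_.Cfsg.Agent.PreUniq.Spor.SuzP.u.eq_1]
  try have : _root_.True := by simp only [_root_.Cfsg.Agent.PreUniq.Spor.SuzP.X.eq_1]
  try have : _root_.True := by simp only [_root_.Cfsg.Agent.PreUniq.Spor.SuzP.F.eq_1]
  try have : _root_.True := by simp only [_root_.Cfsg.Agent.PreUniq.Spor.ONP.F.eq_1]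
  try have : _root_.True := by simp only [_root_.Cfsg.Agent.PreUniq.Spor.SuzP.uw.eq_1]
  try have : _root_.True := by simp only [_root_.Cfsg.Agent.PreUniq.Spor.ONP.y.eq_1]
  try have : _root_.True := by simp only [_root_.Cfsg.Agent.CpQuot.ONThree.P.eq_1]
  try have : _root_.True := by simp only [_root_.Cfsg.Agent.PreUniq.Spor.SuzP.A.eq_1]
  try have : _root_.True := by simp only [_root_.Cfsg.Agent.PreUniq.Spor.SuzP.cw.eq_1]
  try have : _root_.True := by simp only [_root_.Cfsg.Agent.PreUniq.Spor.ONP.E.eq_1]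
  exact _root_.True.intro
end
end
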